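import Cfsg.Agent.MT.B5D

set_option autoImplicit false

namespace Cfsg.Agent.MT.B5

open Cfsg.Agent.MK Cfsg.Agent.Small

theorem k2 : ((CA.filter fun c => c.1 == 2).all fun c => fN c.2 fun X => !st1 2 X) = true := by
  decide +kernel

theorem k4 : ((CA.filter fun c => c.1 != 2 && Nat.ble 42 c.2).all fun c =>
    fN c.1 fun e => fN c.2 fun X => !st1 e X) = true := by
  decide +kernel

theorem k5 : ((CA.filter fun c => c.1 != 2 && !Nat.ble 42 c.2).all fun c =>
    [(4, 2), (4, 12), (4, 32)].contains c) = true := by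
  decide +kernel

end Cfsg.Agent.MT.B5
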