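import Cfsg.Agent.MT.B5D

set_option autoImplicit false

namespace Cfsg.Agent.MT.B5

open Cfsg.Agent.MK Cfsg.Agent.Small

theorem k42 : st1 4 2 = false := by decide +kernel

theorem k412 : st1 4 12 = false := by decide +kernel

theorem k432 : st1 4 32 = false := by decide +kernel

end Cfsg.Agent.MT.B5
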