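import Cfsg.Agent.MT.B5D

set_option autoImplicit false

namespace Cfsg.Agent.MT.B5

open Cfsg.Agent.MK Cfsg.Agent.Small

theorem c1 : (fL C20 fun C => col C 4 12 vf T1 (fin12 759 506)) = false := by decide +kernel

theorem c2 : (fL C20 fun C => col C 4 12 vf T2 (fin12 2024 1771)) = false := by decide +kernel

theorem c3 : (fL C20 fun C => col C 4 32 vf T2 fun _ _ => true) = false := by decide +kernel

theorem c4 : (fL C20 fun C => col C 4 32 vf T1 fin32) = false := by decide +kernel

theorem c5 : (fL CZ fun C => col C 4 32 (fun _ _ => true) T1 finz) = false := by decide +kernel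

end Cfsg.Agent.MT.B5
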