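import Cfsg.Agent.MT.B5B
import Cfsg.Agent.MK.Cand2
import Cfsg.Agent.MT.B5K1
import Cfsg.Agent.MT.B5K2
import Cfsg.Agent.MT.B5K3

/-!
# The principal block of the prime `5` of a simple group of order `244823040`
-/

set_option autoImplicit false
set_option linter.unusedSectionVars false

namespace Cfsg.Agent.MT

open Subgroup Finset Cfsg.Agent.M11 Cfsg.Agent.Char Cfsg.Agent.MK Cfsg.Agent.Zass Cfsg.Agent.Small

variable {G : Type*} [Group G] [Finite G]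

namespace B5

variable {x u t f : G} {e X : ℕ} {T : Finset (IrrCharacter G)} {a : IrrCharacter G → ℤ}

theorem st1_false {e X : ℕ} (h : (e, X) ∈ CA) : st1 e X = false := by
  by_cases h1 : e = 2
  · subst h1
    simpa using List.all_eq_true.1 k2 _ (List.mem_filter.2 ⟨h, rfl⟩)
  by_cases h2 : 42 ≤ X
  · simpa using List.all_eq_true.1 k4 _ (List.mem_filter.2 ⟨h, by simp [h1, h2]⟩)
  have := List.all_eq_true.1 k5 _ (List.mem_filter.2 ⟨h, by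
    simpa [h1, ← Bool.not_eq_true, Nat.ble_eq] using h2⟩)
  simp only [List.contains_eq_mem, List.mem_cons, Prod.mk.injEq, List.not_mem_nil, or_false,
    decide_eq_true_eq] at this
  rcases this with ⟨rfl, rfl⟩ | ⟨rfl, rfl⟩ | ⟨rfl, rfl⟩
  exacts [k42, k412, k432]

theorem vv_eq {v : IrrCharacter G → ℤ} {l : List Small.Row} (hl : (l : Multiset Small.Row) =
    (T.filter fun χ => a χ ≠ 0).val.map fun χ => (deg χ.1, a χ, v χ)) (h0 : ∀ χ ∈ T, a χ ≠ 0) (d : ℕ) :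
    vv l d = ∑ χ ∈ T, if deg χ.1 = d then v χ else 0 := by
  rw [vv, sum_rows hl, filter_true_of_mem h0]

theorem xi_eq {N : ℕ} {v : IrrCharacter G → ℤ} {l : List Small.Row} (hl : (l : Multiset Small.Row) =
    (T.filter fun χ => a χ ≠ 0).val.map fun χ => (deg χ.1, a χ, v χ)) (h0 : ∀ χ ∈ T, a χ ≠ 0) :
    M12R.xi N l = N + ∑ χ ∈ T, a χ * (v χ * v χ * (N / deg χ.1 : ℕ)) := by
  rw [M12R.xi, sum_rows hl, filter_true_of_mem h0]
  simp only [mul_assoc]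

variable [IsSimpleGroup G] (hna : ¬ IsMulCommutative G) (hG : Nat.card G = 244823040)
  (hx : LD 23 11 1 x) (hu : LD 11 10 1 u)
include hna hG hx hu

theorem mem_C20 (ht : orderOf t = 2) (hf : orderOf f = 5) (htf : Commute t f) : cc t ∈ C20 := by
  have h1 := mem_call hna hG.dvd (b := 23) (by norm_num) (by rw [hG]; norm_num) ht
  have h2 := orderOf_dvd_cc htf.symm.eq
  rw [hG] at h1
  rw [hf] at h2
  simp only [C20, List.mem_filter, Bool.and_eq_true, beq_iff_eq, bne_iff_ne]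
  exact ⟨h1, Nat.mod_eq_zero_of_dvd h2, nd hu Nat.prime_two (by norm_num) ht,
    nd hx Nat.prime_two (by norm_num) ht⟩

theorem stage1 (ht : orderOf t = 2) (htf : Commute t f) (htu : t * u * t⁻¹ = u⁻¹)
    (h : KB 5 e X f T a) : e = 4 ∧ (X = 12 ∨ X = 32 ∨ X = 192) ∧
      ∃ D ∈ [T1, T2], (D : Multiset (ℕ × ℤ)) = rws T a := by
  have h1 := h.mem_cands hna hG.dvd (by norm_num) (b := 23) (by norm_num) (by rw [hG]; norm_num)
  have h2 := orderOf_dvd_cc htf.eq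
  have h3 := nd hu (q := 5) (by norm_num) (by norm_num) h.ord
  have h4 := nd hx (q := 5) (by norm_num) (by norm_num) h.ord
  rw [hG] at h1
  rw [ht] at h2
  rw [h.ccx] at h2 h3 h4
  have h5 := st1_false (e := e) (X := X) (List.mem_filter.2 ⟨h1, by
    simp only [Bool.and_eq_true, beq_iff_eq, bne_iff_ne]; omega⟩)
  by_contra hn
  rw [st1, fL_eq, NN, ← hG, h.k1P hna hG.dvd (fun χ _ => wd hx hu χ) fun l hl => ?_] at h5
  · cases h5
  rw [T23.ff (k := 6) hx (.inl ⟨rfl, rfl, rfl⟩) h (by norm_num) hl, f11 hu h hl,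
    col_of hG h ht (mem_C20 hna hG hx hu ht h.ord htf) (fun χ _ => vfb hna hu ht htu χ) hl
      fun _ _ => rfl]
  simp only [Bool.true_and, Bool.and_true, Bool.not_eq_true', ← Bool.not_eq_true, good,
    Bool.and_eq_true, Bool.or_eq_true, beq_iff_eq]
  rintro ⟨e1, e2, e3⟩
  exact hn ⟨e1, e2, exists_of_notIn fun e => e3 (e l hl)⟩

theorem not32 (ht : orderOf t = 2) (htf : Commute t f) (htu : t * u * t⁻¹ = u⁻¹)
    (h : KX 5 4 32 f T a) {D : List (ℕ × ℤ)} (hD : D ∈ [T1, T2])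
    (hl : (D : Multiset (ℕ × ℤ)) = rws T a) : False := by
  classical
  have hC := mem_C20 hna hG hx hu ht h.ord htf
  have hw := fun χ (_ : χ ∈ T) => vfb hna hu ht htu χ
  simp only [List.mem_cons, List.not_mem_nil, or_false] at hD
  rcases hD with rfl | rfl
  swap
  · have := c3
    rw [fL_eq, col_of hG h.toKB ht hC hw hl fun _ _ => rfl] at this
    cases this
  have h0 : ∀ χ ∈ T, a χ ≠ 0 := fun χ hχ e => by
    have := (mem_rws hl).2 ⟨χ, hχ, rfl⟩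
    simp [T1, e] at this
  obtain ⟨χ₁, χ₂, χ₃, χ₄, e1, e2, e3, e4, hS⟩ := four hl
  simp only [Prod.mk.injEq] at e1 e2 e3 e4
  have hv : ∀ {s : G} {l : List Small.Row}, (l : Multiset Small.Row) =
      (T.filter fun χ => a χ ≠ 0).val.map (fun χ => (deg χ.1, a χ, iv χ.1 s)) →
      vv l 5796 = iv χ₁.1 s ∧ vv l 5544 = iv χ₂.1 s ∧ vv l 759 = iv χ₃.1 s ∧
        vv l 506 = iv χ₄.1 s := fun hl => by
    simp [vv_eq hl h0, hS, e1.1, e2.1, e3.1, e4.1]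
  have h1 : (iv χ₁.1 t, iv χ₂.1 t, iv χ₃.1 t, iv χ₄.1 t) = (-24, -36, 19, 6) := by
    by_contra e
    have := c4
    rw [fL_eq, col_of hG h.toKB ht hC hw hl fun l hl => ?_] at this
    · cases this
    obtain ⟨v1, v2, v3, v4⟩ := hv hl
    rwa [fin32, v1, v2, v3, v4, bne_iff_ne]
  simp only [Prod.mk.injEq] at h1
  obtain ⟨z, hz, h2⟩ := exists_two_central (G := G) (by rw [hG]; norm_num)
  have h3 : cc z ∈ CZ := by
    have h1 := mem_call hna hG.dvd (b := 23) (by norm_num) (by rw [hG]; norm_num) hz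
    rw [hG] at h1 h2
    simp only [CZ, List.mem_filter, Bool.and_eq_true, beq_iff_eq, bne_iff_ne]
    exact ⟨h1, by unfold NN; omega, nd hu Nat.prime_two (by norm_num) hz,
      nd hx Nat.prime_two (by norm_num) hz⟩
  have := c5
  rw [fL_eq, col_of hG h.toKB hz h3 (fun _ _ => rfl) hl fun l hl => ?_] at this
  · cases this
  obtain ⟨v1, v2, v3, v4⟩ := hv hl
  obtain ⟨J, -, hJ⟩ := h.pair
  have h4 : ∀ s r : G, orderOf s = 2 → orderOf r = 2 → xz (iv χ₁.1 s) (iv χ₂.1 s) (iv χ₃.1 s)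
      (iv χ₄.1 s) (iv χ₁.1 r) (iv χ₂.1 r) (iv χ₃.1 r) (iv χ₄.1 r) * 160 =
        (cc r * J r) * (cc s * J s) := fun s r hs hr => by
    rw [← hJ s r hs hr, hS, hG, e1.1, e1.2, e2.1, e2.2, e3.1, e3.2, e4.1, e4.2, xz]
    norm_num
    ring
  have h5 := h4 z t hz ht
  have h6 := h4 z z hz hz
  have h7 := h4 t t ht ht
  rw [h1.1, h1.2.1, h1.2.2.1, h1.2.2.2] at h5 h7
  simp only [finz, fI_eq, v1, v2, v3, v4, beq_iff_eq]
  refine mul_right_cancel₀ (b := 160 * 160) (by norm_num) ?_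
  rw [mul_mul_mul_comm, h6, h7, pow_two, mul_mul_mul_comm, h5]
  ring

theorem tc12 (ht : orderOf t = 2) (htf : Commute t f) (htu : t * u * t⁻¹ = u⁻¹)
    (h : KX 5 4 12 f T a) {D : List (ℕ × ℤ)} (hl : (D : Multiset (ℕ × ℤ)) = rws T a)
    (h0 : ∀ χ ∈ T, a χ ≠ 0) {d₃ d₄ : ℕ} (hk : (fL C20 fun C => col C 4 12 vf D (fin12 d₃ d₄)) = false)
    {n : ℕ} (hn : n ∈ [40, 80, 120, 240]) (h1 : cc t % n = 0) (h2 : cc t / n % 5 = 1) :
    (cc t, d₃, ∑ χ ∈ T, if deg χ.1 = 5796 then iv χ.1 t else 0,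
      ∑ χ ∈ T, if deg χ.1 = 5544 then iv χ.1 t else 0, ∑ χ ∈ T, if deg χ.1 = d₃ then iv χ.1 t else 0,
      ∑ χ ∈ T, if deg χ.1 = d₄ then iv χ.1 t else 0) ∈ tcs := by
  by_contra e
  rw [fL_eq, col_of hG h.toKB ht (mem_C20 hna hG hx hu ht h.ord htf)
    (fun χ _ => vfb hna hu ht htu χ) hl fun l hl => ?_] at hk
  · cases hk
  obtain ⟨J, h3, hJ⟩ := h.pair
  have h4 := hJ t t ht ht
  have h5 : (J t : ℤ) ≤ 60 := by exact_mod_cast h3 t
  simp only [fin12, vv_eq hl h0, xi_eq hl h0, Bool.and_eq_true, decide_eq_true_eq, List.any_eq_true,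
    beq_iff_eq, Bool.not_eq_true', List.contains_eq_mem, decide_eq_false_iff_not]
  refine ⟨?_, ⟨n, hn, h1, h2⟩, e⟩
  rw [hG] at h4
  rw [show (60 : ℤ) = ((5 : ℕ) : ℤ) * ((12 : ℕ) : ℤ) from rfl, h4, ← pow_two]
  push_cast
  gcongr

end B5

open B5 in
theorem b5 [IsSimpleGroup G] (hna : ¬ IsMulCommutative G) (hG : Nat.card G = 244823040) {x u t f : G}
    (hx : LD 23 11 1 x) (hu : LD 11 10 1 u) (ht : orderOf t = 2) (hf : orderOf f = 5)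
    (htf : Commute t f) (htu : t * u * t⁻¹ = u⁻¹) :
    ∃ X : ℕ, (X = 12 ∨ X = 192) ∧ LD 5 4 X f ∧ ∃ (χ₁ χ₂ χ₃ χ₄ : IrrCharacter G) (d₃ d₄ : ℕ),
      deg χ₁.1 = 5796 ∧ deg χ₂.1 = 5544 ∧ deg χ₃.1 = d₃ ∧ deg χ₄.1 = d₄ ∧
      ((d₃ = 2024 ∧ d₄ = 1771) ∨ (d₃ = 759 ∧ d₄ = 506)) ∧
      χ₁.1 f = 1 ∧ χ₂.1 f = -1 ∧ χ₃.1 f = -1 ∧ χ₄.1 f = 1 ∧
      (∀ k ∈ Ico 1 5, χ₁.1 (f ^ k * t) = 1 ∧ χ₂.1 (f ^ k * t) = -1 ∧ χ₃.1 (f ^ k * t) = -1 ∧
        χ₄.1 (f ^ k * t) = 1) ∧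
      (X = 12 → ∀ n, n ∈ [40, 80, 120, 240] → cc t % n = 0 → cc t / n % 5 = 1 →
        (cc t, d₃, iv χ₁.1 t, iv χ₂.1 t, iv χ₃.1 t, iv χ₄.1 t) ∈ tcs) := by
  classical
  have hsq : ¬ 5 * 5 ∣ Nat.card G := by rw [hG]; norm_num
  obtain ⟨e, X, T, a, h⟩ := exists_KX hna (by norm_num) (by norm_num) (by norm_num) hsq hf
  obtain ⟨rfl, h1, D, hD, hl⟩ := stage1 hna hG hx hu ht htf htu h.toKB
  refine ⟨X, ?_, T23.ld h.toKB (by norm_num) hsq, ?_⟩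
  · rcases h1 with rfl | rfl | rfl
    exacts [.inl rfl, (not32 hna hG hx hu ht htf htu h hD hl).elim, .inr rfl]
  obtain ⟨d₃, d₄, hd, rfl, hk⟩ : ∃ d₃ d₄ : ℕ, ((d₃ = 2024 ∧ d₄ = 1771) ∨ (d₃ = 759 ∧ d₄ = 506)) ∧
      D = [(5796, 1), (5544, -1), (d₃, -1), (d₄, 1)] ∧
      (fL C20 fun C => col C 4 12 vf D (fin12 d₃ d₄)) = false := by
    simp only [List.mem_cons, List.not_mem_nil, or_false] at hD
    rcases hD with rfl | rfl
    exacts [⟨_, _, .inr ⟨rfl, rfl⟩, rfl, c1⟩, ⟨_, _, .inl ⟨rfl, rfl⟩, rfl, c2⟩]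
  have h0 : ∀ χ ∈ T, a χ ≠ 0 := fun χ hχ e => by
    have := (mem_rws hl).2 ⟨χ, hχ, rfl⟩
    simp [e] at this
  obtain ⟨χ₁, χ₂, χ₃, χ₄, e1, e2, e3, e4, hS⟩ := four hl
  simp only [Prod.mk.injEq] at e1 e2 e3 e4
  have h2 : ∀ k ∈ Ico 1 5, ∀ s : G, Commute s f → (orderOf s).Coprime 5 → χ₁.1 (f ^ k * s) = 1 ∧
      χ₂.1 (f ^ k * s) = -1 ∧ χ₃.1 (f ^ k * s) = -1 ∧ χ₄.1 (f ^ k * s) = 1 := fun k hk s hs hs' => by
    rw [h.val rfl χ₁ (by simp [e1.2]) k hk s hs hs', h.val rfl χ₂ (by simp [e2.2]) k hk s hs hs',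
      h.val rfl χ₃ (by simp [e3.2]) k hk s hs hs', h.val rfl χ₄ (by simp [e4.2]) k hk s hs hs',
      e1.2, e2.2, e3.2, e4.2]
    simp
  have h3 := h2 1 (by decide) 1 (Commute.one_left _) (by simp)
  rw [pow_one, mul_one] at h3
  refine ⟨χ₁, χ₂, χ₃, χ₄, d₃, d₄, e1.1, e2.1, e3.1, e4.1, hd, h3.1, h3.2.1, h3.2.2.1, h3.2.2.2,
    fun k hk => h2 k hk t htf (by rw [ht]; norm_num), ?_⟩
  rintro rfl n hn h4 h5
  have := tc12 hna hG hx hu ht htf htu h hl h0 hk hn h4 h5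
  rcases hd with ⟨rfl, rfl⟩ | ⟨rfl, rfl⟩ <;> simpa [hS, e1.1, e2.1, e3.1, e4.1, -List.mem_cons] using this

end Cfsg.Agent.MT
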