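import Cfsg.Agent.MK.Cand
import Cfsg.Agent.MK.UVal

/-!
# More data of the principal block for a Sylow subgroup of prime order
-/

set_option autoImplicit false
set_option linter.unusedSectionVars false

namespace Cfsg.Agent.MT.B5

open Finset Subgroup Cfsg.Agent.Char Cfsg.Agent.Block Cfsg.Agent.Zass Cfsg.Agent.Local
  Cfsg.Agent.M11 Cfsg.Agent.Small Cfsg.Agent.MK

section

variable {G : Type*} [Group G] [Fintype G] {p : ℕ} [hp : Fact p.Prime] {x : G}
  {h : PP p x} {ψ : AddChar (ZMod p) ℂ} {φ θ : ZMod p → G → ℂ} (H : Phi h ψ φ θ)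
include H

open Classical in
theorem classSum2 {s r : G} (hs : s * s = 1) (hr : r * r = 1) :
    cc x * ∑ g, θ 1 (g * s * g⁻¹ * r) =
      (cc r * (univ.filter fun u => IsConj r u ∧ u * x * u⁻¹ = x⁻¹).card) *
      (cc s * (univ.filter fun u => IsConj s u ∧ u * x * u⁻¹ = x⁻¹).card) := by
  have h0 : (cc x : ℂ) ≠ 0 := Nat.cast_ne_zero.2 (cc_pos x).ne'
  have hA : ∀ s : G, ∑ g : G, (if g * s * g⁻¹ * x * (g * s * g⁻¹)⁻¹ = x⁻¹ then (1 : ℂ) else 0) =
      cc s * (univ.filter fun u => IsConj s u ∧ u * x * u⁻¹ = x⁻¹).card := fun s => by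
    rw [sum_conj_eq s fun u => if u * x * u⁻¹ = x⁻¹ then (1 : ℂ) else 0, sum_boole, filter_filter, cc]
  have hsq : ∀ g : G, g * s * g⁻¹ * (g * s * g⁻¹) = 1 := fun g => by rw [conj_mul, hs]; simp
  have hrq : ∀ g : G, g * r * g⁻¹ * (g * r * g⁻¹) = 1 := fun g => by rw [conj_mul, hr]; simp
  have h1 : ∀ a b : G, a * a = 1 → b * b = 1 → φ 1 (a * b) ≠ 0 → a * x * a⁻¹ = x⁻¹ ∧
      b * x * b⁻¹ = x⁻¹ := fun a b ha hb e => by
    obtain ⟨i, hi, u, hu, e⟩ := H.supp e
    have h2 : ∀ c : G, c * (a * b) * c⁻¹ = (a * b)⁻¹ → c * x * c⁻¹ = x⁻¹ := fun c hc => by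
      rw [e, mul_inv_rev, ← (h.comm hu _).inv_inv.eq, ← h.neg] at hc
      have h3 := congrArg (· ^ (i⁻¹).val) (h.part hu (inv_mem hu) hc).1
      simp only [conj_pow, ← h.mul, mul_inv_cancel₀ hi, h.one', neg_mul] at h3
      rwa [h.neg, h.one'] at h3
    have ha' := inv_eq_of_mul_eq_one_right ha
    have hb' := inv_eq_of_mul_eq_one_right hb
    exact ⟨h2 a (by rw [mul_inv_rev, ha', hb', ← mul_assoc, ha, one_mul]),
      h2 b (by rw [mul_inv_rev, ha', hb', mul_assoc, mul_assoc, hb, mul_one])⟩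
  have h2 : ∀ b : G, b * b = 1 → ∑ g, φ 1 (g * s * g⁻¹ * b) =
      (if b * x * b⁻¹ = x⁻¹ then 1 else 0) *
        ∑ g : G, (if g * s * g⁻¹ * x * (g * s * g⁻¹)⁻¹ = x⁻¹ then (1 : ℂ) else 0) := fun b hb => by
    split_ifs with e
    swap
    · rw [zero_mul]
      exact sum_eq_zero fun g _ => by_contra fun e' => e (h1 _ _ (hsq g) hb e').2
    obtain ⟨F, hF⟩ : ∃ F : G → ℂ, F = fun g =>
      (if g * s * g⁻¹ * x * (g * s * g⁻¹)⁻¹ = x⁻¹ then (1 : ℂ) else 0) - φ 1 (g * s * g⁻¹ * b) :=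
      ⟨_, rfl⟩
    have h3 : ∀ g, F (x * g) = ψ (1 + 1) * F g := fun g => by
      have h4 : x * g * s * (x * g)⁻¹ = x * (g * s * g⁻¹) * x⁻¹ := by group
      simp only [hF, h4]
      generalize hsq g = h5
      generalize g * s * g⁻¹ = a at h5
      by_cases h6 : a * x * a⁻¹ = x⁻¹
      · have h7 : a * x⁻¹ = x * a := by
          rw [← mul_inv_eq_iff_eq_mul, ← conj_inv, h6, inv_inv]
        have h8 : a * b ∈ centralizer ({x} : Set G) := by
          rw [mem_centralizer_singleton_iff, mul_assoc, mul_inv_eq_iff_eq_mul.1 e, ← mul_assoc, h7,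
            mul_assoc]
        obtain ⟨i, u, hu, e'⟩ := h.dec h8
        have h9 : x * a * x⁻¹ * b = x ^ (1 + 1 + i).val * u := by
          rw [h.add, h.add, h.one', mul_assoc x a, h7, mul_assoc, mul_assoc, e']
          simp only [mul_assoc]
        rw [if_pos h6, if_pos, h9, e', H.val _ _ _ hu, H.val _ _ _ hu, mul_one, mul_one,
          AddChar.map_add_eq_mul]
        · ring
        · calc _ = x * (a * x * a⁻¹) * x⁻¹ := by group
            _ = _ := by rw [h6]; group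
      · have h7 : ¬ x * a * x⁻¹ * x * (x * a * x⁻¹)⁻¹ = x⁻¹ := fun e' => h6 (by
          calc _ = x⁻¹ * (x * a * x⁻¹ * x * (x * a * x⁻¹)⁻¹) * x := by group
            _ = _ := by rw [e']; group)
        rw [if_neg h6, if_neg h7, by_contra fun e' => h6 (h1 _ _ h5 hb e').1,
          by_contra fun e' => h7 (h1 _ _ (by rw [conj_mul, h5]; simp) hb e').1]
        simp
    have h4 : ∑ g, F g = ψ (1 + 1) * ∑ g, F g := by
      rw [mul_sum]
      exact (Fintype.sum_equiv (Equiv.mulLeft x) _ _ fun g => (h3 g).symm).symm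
    have h5 : ψ (1 + 1) ≠ 1 := fun e' => by
      have h6 := (H.prim.zmod_char_eq_one_iff p _).1 e'
      rw [one_add_one_eq_two] at h6
      exact h.odd ((Nat.prime_dvd_prime_iff_eq hp.out Nat.prime_two).1
        ((ZMod.natCast_eq_zero_iff 2 p).1 (by exact_mod_cast h6)))
    have h6 : ∑ g, F g = 0 := by
      by_contra e'
      exact h5 (mul_right_cancel₀ e' (h4.symm.trans (one_mul _).symm))
    simp only [hF, sum_sub_distrib] at h6
    rw [one_mul, sub_eq_zero.1 h6]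
  simp only [H.ind, ← mul_sum, mul_inv_cancel_left₀ h0]
  rw [sum_comm, ← hA r, ← hA s]
  nth_rw 1 [sum_mul]
  refine sum_congr rfl fun y _ => ?_
  rw [← h2 _ (hrq y)]
  exact Fintype.sum_equiv (Equiv.mulLeft y) _ _ fun g => congrArg _ (by simp [mul_assoc])

end

/-- the block data together with the values on the section and the class sums of two involutions -/
structure KX {G : Type*} [Group G] [Finite G] (p e X : ℕ) (x : G) (T : Finset (IrrCharacter G))
    (a : IrrCharacter G → ℤ) : Prop extends KB p e X x T a where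
  val : e + 1 = p → ∀ χ, a χ ≠ 0 → ∀ k ∈ Ico 1 p, ∀ u, Commute u x → (orderOf u).Coprime p →
    χ.1 (x ^ k * u) = a χ
  pair : ∃ J : G → ℕ, (∀ s, J s ≤ p * X) ∧ ∀ s r : G, orderOf s = 2 → orderOf r = 2 →
    ((Nat.card G : ℤ) + ∑ χ ∈ T, a χ * (iv χ.1 s * iv χ.1 r * (Nat.card G / deg χ.1 : ℕ))) * (p * X) =
      (cc r * J r) * (cc s * J s)

variable {G : Type*} [Group G] [Finite G]

theorem exists_KX [IsSimpleGroup G] (hna : ¬ IsMulCommutative G) {p : ℕ}
    (hp : p.Prime) (h2 : p ≠ 2) (h80 : p ≤ 80) (hsq : ¬ p * p ∣ Nat.card G) {x : G}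
    (hx : orderOf x = p) : ∃ e X T a, KX p e X x T a := by
  classical
  have := Fintype.ofFinite G
  have := Fact.mk hp
  have h : PP p x := ⟨h2, hx, hsq⟩
  obtain ⟨ψ, φ, θ, H⟩ := h.exists_phi
  choose a ha using fun k (χ : IrrCharacter G) =>
    inner_gen_gen (H.gen k) (gen_of_char (irr_isCharacter χ.2))
  obtain ⟨h3, h4, h5, h6⟩ := h.data hna
  have hb := M12R.bd H ha hna h80
  have h7 : p * Nat.card h.npc.compl * (EE p x).card * (normalizer (zpowers x : Set G)).index =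
      Nat.card G := by rw [← h.cc_eq, h.card_norm, card_mul_index]
  have h1 := sum_TT_le (o := ⟨1, irr_one⟩) (a := a) fun χ => deg χ.1 * deg χ.1
  rw [sum_deg, deg_one] at h1
  refine ⟨_, _, TT ⟨1, irr_one⟩ a, a 1, ⟨hx, h.cc_eq, by rw [← h.cc_eq, h.card_norm], h3, h4,
    ⟨_, h6, h5, h7⟩, fun e1 e2 => h.exists_inv e1 fun e3 => ?_,
    fun χ hχ e => (mem_TT.1 hχ).1 (Subtype.ext e),
    fun hX χ h1 h8 => mem_TT.2 ⟨fun e => h1 (congrArg Subtype.val e), ?_⟩, fun χ hχ => ?_,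
    hb.ao 1 one_ne_zero, fun χ h1 h8 => mem_TT.2 ⟨fun e => h1 (congrArg Subtype.val e), 1, h8⟩,
    fun g hg => by rw [← H.apply ha, H.reg 1 hg], fun L hL Z => moment H ha L hL,
    fun dl fin hdl hf => ?_, fun g v hg hv dl vl q fin hdl hvl hq hf => ?_,
    fun s => stg2 H ha hna h80⟩, fun he χ h0 k hk u hu hu' => ?_,
    fun s => (univ.filter fun u => IsConj s u ∧ u * x * u⁻¹ = x⁻¹).card, fun s => ?_,
    fun s r hs hr => ?_⟩
  · rw [h.cc_eq, Nat.prime_two.dvd_mul] at e3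
    exact e3.elim (fun e => h2 ((Nat.prime_dvd_prime_iff_eq Nat.prime_two hp).1 e).symm) e2
  · by_contra e
    push Not at e
    exact h8 (H.dvd_deg ha hX e)
  · obtain ⟨h8, k, h9⟩ := mem_TT.1 hχ
    exact M12R.two_mul_le' H ha hna h9 fun e => h8 (Subtype.ext e)
  · rw [← h.cc_eq]
    refine hb.search (v := fun χ => deg χ.1) hdl (by simp) (by simp [deg_one]) hb.deg0
      (by simp only [Int.natAbs_natCast]; omega) fun l hl => hf l hl _ (by omega) fun hX => ?_
    have h2 := sum_add_sum_compl (insert ⟨1, irr_one⟩ (TT ⟨1, irr_one⟩ a))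
      fun χ : IrrCharacter G => deg χ.1 * deg χ.1
    rw [sum_deg, sum_insert (by simp [mem_TT]), deg_one] at h2
    rw [← h2, add_assoc, Nat.mul_one, Nat.add_sub_cancel_left, Nat.add_sub_cancel_left]
    refine Nat.mod_eq_zero_of_dvd (dvd_sum fun χ hχ => ?_)
    simp only [mem_compl, mem_insert, mem_TT, not_or, not_and, not_exists, not_not] at hχ
    have := H.dvd_deg ha hX (hχ.2 hχ.1)
    exact mul_dvd_mul this this
  · rw [← h.cc_eq]
    have h8 : ∀ χ ∈ TT ⟨1, irr_one⟩ a, (if χ = ⟨1, irr_one⟩ then 1 else v χ) = v χ := fun χ hχ =>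
      if_neg (mem_TT.1 hχ).1
    refine hb.search (v := fun χ => if χ = ⟨1, irr_one⟩ then 1 else v χ) hdl
      (fun χ hχ => by rw [h8 χ hχ]; exact hvl χ hχ) (if_pos rfl) (fun k _ => ?_)
      (by rwa [sum_congr rfl fun χ hχ => by rw [h8 χ hχ]]) fun l hl => hf l ?_
    · have := H.reg k hg
      rw [H.apply ha, sum_congr rfl (g := fun χ => ((a k χ *
        (if χ = ⟨1, irr_one⟩ then 1 else v χ) : ℤ) : ℂ)) fun χ _ => ?_] at this
      · exact_mod_cast this
      by_cases e : a k χ = 0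
      · simp [e]
      split_ifs with e'
      · subst e'
        simp
      · rw [hv χ (mem_TT.2 ⟨e', k, e⟩), Int.cast_mul]
    · rw [hl]
      exact Multiset.map_congr rfl fun χ hχ => by rw [h8 χ hχ]
  · have hE : EE p x = univ.erase 0 := eq_of_subset_of_card_le (fun i hi =>
      mem_erase.2 ⟨fun e => h.E0 (e ▸ hi), mem_univ _⟩) (by
        rw [card_erase_of_mem (mem_univ _), card_univ, ZMod.card]; omega)
    obtain ⟨k1, k2⟩ := mem_Ico.1 hk
    have h8 : (k : ZMod p) ≠ 0 := fun e =>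
      (Nat.le_of_dvd k1 ((ZMod.natCast_eq_zero_iff k p).1 e)).not_gt k2
    have h9 := M12R.sect (h := h) χ.2 (H.inB0 ha h0) h8
      (u := u) ⟨mem_centralizer_singleton_iff.2 hu.eq, hu'⟩
    rw [← classFun_of_isConj (irr_isClassFunction χ.2)
      (mem_EE.1 (hE ▸ mem_erase.2 ⟨h8, mem_univ _⟩)), ZMod.val_cast_of_lt k2] at h9
    rw [h9]
    exact M12R.val_x H ha h0 fun l hl => hb.eq_of hl one_ne_zero
      (by rw [hE]; exact mem_erase.2 ⟨by simpa using hl, mem_univ _⟩) χ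
  · rw [← h.cc_eq]
    rcases (univ.filter fun u => IsConj s u ∧ u * x * u⁻¹ = x⁻¹).eq_empty_or_nonempty with e | ⟨w, hw⟩
    · exact (card_eq_zero.2 e).le.trans (Nat.zero_le _)
    have h8 := (mem_filter.1 hw).2.2
    rw [cc, Nat.card_eq_fintype_card, Fintype.card_subtype]
    refine card_le_card_of_injOn (fun u => w⁻¹ * u) (fun u hu => ?_) fun _ _ _ _ e =>
      mul_left_cancel e
    have h9 := (mem_filter.1 hu).2.2
    refine mem_filter.2 ⟨mem_univ _, mem_centralizer_singleton_iff.2 ?_⟩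
    calc w⁻¹ * u * x = w⁻¹ * (u * x * u⁻¹) * u := by group
      _ = w⁻¹ * (w * x * w⁻¹) * u := by rw [h8, h9]
      _ = _ := by group
  · have hv := fun (χ : IrrCharacter G) {s : G} (hs : orderOf s = 2) =>
      (iv_spec (perfect hna) χ.2 (mul_self_of_orderOf hs)).1
    have h1 := classSum2 H (mul_self_of_orderOf hs) (mul_self_of_orderOf hr)
    rw [classFun_sum_conj_mul (gen_isClassFunction (H.gen 1)), mul_sum, h.cc_eq] at h1
    have h3 : ∀ χ : IrrCharacter G, (Nat.card G : ℂ) * (classInner (θ 1) χ * (χ.1 s * χ.1 r / χ.1 1)) =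
        ((a 1 χ * (iv χ.1 s * iv χ.1 r * (Nat.card G / deg χ.1 : ℕ)) : ℤ) : ℂ) := fun χ => by
      have h4 : (deg χ.1 : ℂ) ≠ 0 := Nat.cast_ne_zero.2 (irr_deg_pos χ.2).ne'
      rw [ha, irr_deg χ.2]
      nth_rw 1 [hv χ hs]
      nth_rw 1 [hv χ hr]
      rw [Int.cast_mul, Int.cast_mul, Int.cast_natCast, Nat.cast_div (deg_dvd_card χ.2) h4]
      push_cast
      ring
    simp only [h3] at h1
    have h4 := sum_TT (o := ⟨1, irr_one⟩) (a := a)
      fun χ => iv χ.1 s * iv χ.1 r * (Nat.card G / deg χ.1 : ℕ)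
    have h5 : ∀ s : G, iv (1 : G → ℂ) s = 1 := fun s => iv_of_eq (by simp)
    rw [hb.ao 1 one_ne_zero, h5, h5, deg_one, Nat.div_one, one_mul, one_mul, one_mul] at h4
    rw [← h4, mul_comm]
    exact_mod_cast h1

end Cfsg.Agent.MT.B5
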