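import Cfsg.Agent.MT.B5D
import Cfsg.Agent.MT.B5A
import Cfsg.Agent.MK.T23A
import Cfsg.Agent.BT.Main

/-!
# The filters of the searches for the principal block of the prime `5`
-/

set_option autoImplicit false
set_option linter.unusedSectionVars false

namespace Cfsg.Agent.MT.B5

open Subgroup Finset Cfsg.Agent.M11 Cfsg.Agent.Char Cfsg.Agent.MK Cfsg.Agent.Zass Cfsg.Agent.Small

variable {G : Type*} [Group G] [Finite G] {x u t f : G} {e X : ℕ} {T : Finset (IrrCharacter G)}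
  {a : IrrCharacter G → ℤ}

theorem d11 (hu : LD 11 10 1 u) (χ : IrrCharacter G) :
    deg χ.1 % 11 = 0 ∨ deg χ.1 % 11 = 1 ∨ deg χ.1 % 11 = 10 := by
  obtain ⟨w, h1, h2⟩ := BT.brauer hu χ.2
  obtain rfl | rfl | rfl : w = -1 ∨ w = 0 ∨ w = 1 := by omega
  all_goals omega

theorem wd (hx : LD 23 11 1 x) (hu : LD 11 10 1 u) (χ : IrrCharacter G) : WD (deg χ.1) = true := by
  obtain ⟨w, h1, h2⟩ := BT.brauer hx χ.2
  simp only [WD, Bool.and_eq_true, Bool.or_eq_true, beq_iff_eq]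
  refine ⟨d11 hu χ, ?_⟩
  obtain rfl | rfl | rfl | rfl | rfl : w = -2 ∨ w = -1 ∨ w = 0 ∨ w = 1 ∨ w = 2 := by omega
  all_goals omega

theorem uval (hu : LD 11 10 1 u) (χ : IrrCharacter G) : χ.1 u = a11 (deg χ.1) := by
  obtain ⟨v, h1, h2, -, h4⟩ := hu.rval (by norm_num) rfl
  have h5 := single_le_sum (f := fun χ => v χ ^ 2) (fun _ _ => sq_nonneg _) (mem_univ χ)
  rw [h4] at h5
  have h6 : -3 ≤ v χ ∧ v χ ≤ 3 := by push_cast at h5; constructor <;> nlinarith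
  have h7 := h2 χ
  have h8 := d11 hu χ
  rw [h1, a11]
  congr 1
  push_cast at h7
  split_ifs <;> omega

theorem f11 (hu : LD 11 10 1 u) (h : KB 5 e X f T a) {l : List (ℕ × ℤ)}
    (hl : (l : Multiset (ℕ × ℤ)) = rws T a) : F11 l = true := by
  classical
  have ho : (⟨1, irr_one⟩ : IrrCharacter G) ∉ T := fun e => h.ne1 _ e rfl
  have h4 := h.reg u (by rw [hu.ord]; norm_num)
  have h6 : ∑ χ : IrrCharacter G, a χ * a11 (deg χ.1) = 0 := by
    simp only [uval hu] at h4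
    exact_mod_cast h4
  rw [← sum_subset (subset_univ (insert ⟨1, irr_one⟩ T)) fun χ _ hχ => ?_, sum_insert ho, h.a1,
    deg_one] at h6
  · rw [F11, T23.srw hl, beq_iff_eq]
    exact h6
  · rw [mem_insert, not_or] at hχ
    rw [not_not.1 fun e => hχ.2 (h.a0 χ (fun e => hχ.1 (Subtype.ext e)) e), zero_mul]

theorem vfb [IsSimpleGroup G] (hna : ¬ IsMulCommutative G) (hu : LD 11 10 1 u) (ht : orderOf t = 2)
    (htu : t * u * t⁻¹ = u⁻¹) (χ : IrrCharacter G) : vf (deg χ.1) (iv χ.1 t) = true := by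
  classical
  have := Fintype.ofFinite G
  have := Fact.mk hu.pr
  have h : PP 11 u := ⟨by norm_num, hu.ord, hu.sq⟩
  have hE : EE 11 u = univ.erase 0 := eq_of_subset_of_card_le (fun i hi =>
    mem_erase.2 ⟨fun e => h.E0 (e ▸ hi), mem_univ _⟩) (by
      rw [card_erase_of_mem (mem_univ _), card_univ, ZMod.card, hu.ee (by norm_num)])
  have hss := Block.mul_self_of_orderOf ht
  have h4 : ∀ i : ZMod 11, t * u ^ i.val = u ^ (-i).val * t := fun i => by
    rw [h.neg, ← mul_inv_eq_iff_eq_mul, ← conj_pow, htu, inv_pow]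
  have h2 : (2 : ZMod 11) ≠ 0 := fun e => absurd ((ZMod.natCast_eq_zero_iff 2 11).1 e) (by norm_num)
  have := dihedral_bound (irr_isCharacter χ.2) (fun i : ZMod 11 => u ^ i.val) h.add hss h4
    (fun i => ?_) (iv_spec (perfect hna) χ.2 hss).1 (m := deg χ.1 + 10 * a11 (deg χ.1)) ?_
  · rw [ZMod.card] at this
    exact decide_eq_true this
  · rw [← irr_isClassFunction χ.2 t (u ^ (i / 2).val), ← h.neg, mul_assoc, h4, neg_neg,
      ← mul_assoc, ← h.add, show i / 2 + i / 2 = i by field_simp; ring]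
  · rw [← add_sum_erase _ _ (mem_univ 0), ← hE, sum_congr rfl fun i hi =>
      (classFun_of_isConj (irr_isClassFunction χ.2) (mem_EE.1 hi)).symm, sum_const,
      hu.ee (by norm_num), ZMod.val_zero, pow_zero, irr_deg χ.2, nsmul_eq_mul, uval hu]
    push_cast
    rfl

theorem nd {p q k : ℕ} (h : LD p k 1 x) (hq : q.Prime) (hpq : q ≠ p) {s : G} (hs : orderOf s = q) :
    cc s % p ≠ 0 := fun e => by
  obtain ⟨y, hy, hc⟩ := exists_of_prime_dvd_cc h.pr (Nat.dvd_of_mod_eq_zero e)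
  have := orderOf_dvd_cc hc.symm.eq
  rw [hs, (h.of_ord hy).ccx, mul_one] at this
  exact hpq ((Nat.prime_dvd_prime_iff_eq hq h.pr).1 this)

theorem col_of (hG : Nat.card G = NN) (h : KB 5 e X f T a) {s : G} (hs : orderOf s = 2) {C : List ℕ}
    (hC : cc s ∈ C) {w : ℕ → ℤ → Bool} (hw : ∀ χ ∈ T, w (deg χ.1) (iv χ.1 s) = true)
    {l0 : List (ℕ × ℤ)} (h0 : (l0 : Multiset (ℕ × ℤ)) = rws T a) {fin : ℕ → List Small.Row → Bool}
    (hf : ∀ l : List Small.Row, (l : Multiset Small.Row) =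
      (T.filter fun χ => a χ ≠ 0).val.map (fun χ => (deg χ.1, a χ, iv χ.1 s)) → fin (cc s) l = true) :
    col C e X w l0 fin = true := by
  obtain ⟨r, -, -, h1, -⟩ := h.st2 s hs
  have h2 := h1.vs2 h0 hw h1.nrm hf
  rw [hG] at h2
  simp only [col, List.any_eq_true, fN_eq, Bool.or_eq_true]
  refine ⟨_, hC, ?_⟩
  cases r
  exacts [.inl h2, .inr h2]

theorem exl {α β : Type*} [DecidableEq α] (f : α → β) (l : List β) :
    ∀ M : Multiset α, (l : Multiset β) = M.map f → ∃ L : List α, (L : Multiset α) = M ∧ L.map f = l := by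
  induction l with
  | nil => intro M h; exact ⟨[], (Multiset.map_eq_zero.1 h.symm).symm, rfl⟩
  | cons b l ih =>
    intro M h
    obtain ⟨a, h1, h2, h3⟩ := (Multiset.map_eq_cons f M l b).2 h.symm
    obtain ⟨L, h4, h5⟩ := ih _ h3.symm
    exact ⟨a :: L, by rw [← Multiset.cons_coe, h4, Multiset.cons_erase h1], by rw [List.map_cons, h2, h5]⟩

theorem four [DecidableEq (IrrCharacter G)] {r₁ r₂ r₃ r₄ : ℕ × ℤ}
    (h : (([r₁, r₂, r₃, r₄] : List (ℕ × ℤ)) : Multiset (ℕ × ℤ)) = rws T a) :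
    ∃ χ₁ χ₂ χ₃ χ₄ : IrrCharacter G, (deg χ₁.1, a χ₁) = r₁ ∧ (deg χ₂.1, a χ₂) = r₂ ∧
      (deg χ₃.1, a χ₃) = r₃ ∧ (deg χ₄.1, a χ₄) = r₄ ∧
      ∀ F : IrrCharacter G → ℤ, ∑ χ ∈ T, F χ = F χ₁ + F χ₂ + F χ₃ + F χ₄ := by
  obtain ⟨L, h1, h2⟩ := exl (fun χ : IrrCharacter G => (deg χ.1, a χ)) _ T.val h
  simp only [List.map_eq_cons_iff, List.map_eq_nil_iff] at h2
  obtain ⟨χ₁, _, rfl, e1, χ₂, _, rfl, e2, χ₃, _, rfl, e3, χ₄, _, rfl, e4, rfl⟩ := h2
  refine ⟨χ₁, χ₂, χ₃, χ₄, e1, e2, e3, e4, fun F => ?_⟩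
  rw [sum_eq_multiset_sum, ← h1]
  simp [add_assoc]

end Cfsg.Agent.MT.B5
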