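import Cfsg.Agent.MT.Def
import Cfsg.Agent.MK.Prune
import Cfsg.Agent.MK.T23D

/-!
# The searches for the principal block of the prime `5`
-/

set_option autoImplicit false

namespace Cfsg.Agent.MT.B5

open Cfsg.Agent.MK Cfsg.Agent.Small

def WD (d : ℕ) : Bool := (d % 11 == 0 || (d % 11 == 1 || d % 11 == 10)) &&
  (d % 23 == 0 || (d % 23 == 1 || (d % 23 == 22 || (d % 23 == 11 || d % 23 == 12))))

def F11 (l : List (ℕ × ℤ)) : Bool := 1 + (l.map fun x => x.2 * a11 x.1).sum == 0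

def vf (d : ℕ) (v : ℤ) : Bool := decide (((11 * v.natAbs : ℕ) : ℤ) ≤ d + 10 * a11 d)

def C20 : List ℕ := (call NN 23).filter fun c => c % 5 == 0 && (c % 11 != 0 && c % 23 != 0)

def CZ : List ℕ := (call NN 23).filter fun c => NN / c % 2 == 1 && (c % 11 != 0 && c % 23 != 0)

def T1 : List (ℕ × ℤ) := [(5796, 1), (5544, -1), (759, -1), (506, 1)]

def T2 : List (ℕ × ℤ) := [(5796, 1), (5544, -1), (2024, -1), (1771, 1)]

/-- the columns of an involution -/
def col (C : List ℕ) (e X : ℕ) (w : ℕ → ℤ → Bool) (l : List (ℕ × ℤ)) (fin : ℕ → List Small.Row → Bool) :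
    Bool := C.any fun c => fN c fun c => VS2 NN 5 e X c false w (c - 1) l (fin c) ||
      VS2 NN 5 e X c true w (c - 1) l (fin c)

def good (e X : ℕ) (l : List (ℕ × ℤ)) : Bool :=
  e == 4 && ((X == 12 || (X == 32 || X == 192)) && !notIn [T1, T2] l)

def st1 (e X : ℕ) : Bool := fL C20 fun C => K1P NN 5 e X WD fun l =>
  T23.FF 23 l && (F11 l && (!good e X l && col C e X vf l fun _ _ => true))

def CA : List (ℕ × ℕ) := (cands NN 5 23).filter fun c =>
  c.2 % 2 == 0 && (c.2 % 11 != 0 && c.2 % 23 != 0)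

/-- the value of the row of degree `d` -/
def vv (l : List Small.Row) (d : ℕ) : ℤ := (l.map fun x => if x.1 = d then x.2.2 else 0).sum

def fin12 (d₃ d₄ c : ℕ) (l : List Small.Row) : Bool :=
  decide (M12R.xi NN l * 60 ≤ ((c * 60 : ℕ) : ℤ) ^ 2) &&
    (([40, 80, 120, 240].any fun n => c % n == 0 && c / n % 5 == 1) &&
      !tcs.contains (c, d₃, vv l 5796, vv l 5544, vv l d₃, vv l d₄))

def fin32 (_ : ℕ) (l : List Small.Row) : Bool :=
  (vv l 5796, vv l 5544, vv l 759, vv l 506) != (-24, -36, 19, 6)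

def xz (a b c d a' b' c' d' : ℤ) : ℤ :=
  244823040 + a * a' * 42240 - b * b' * 44160 - c * c' * 322560 + d * d' * 483840

def finz (_ : ℕ) (l : List Small.Row) : Bool :=
  fI (vv l 5796) fun a => fI (vv l 5544) fun b => fI (vv l 759) fun c => fI (vv l 506) fun d =>
    xz a b c d (-24) (-36) 19 6 ^ 2 == xz a b c d a b c d * xz (-24) (-36) 19 6 (-24) (-36) 19 6

end Cfsg.Agent.MT.B5
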