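import Cfsg.Agent.MT.Def
import Cfsg.Agent.BT.Blk2
import Cfsg.Agent.MK.Loc1

/-! Elements normalizing `⟨u⟩` act on the fixed space of `u`. -/

set_option autoImplicit false

namespace Cfsg.Agent.MT

open Subgroup Finset Cfsg.Agent.M11 Cfsg.Agent.Char Cfsg.Agent.MK Cfsg.Agent.Zass Cfsg.Agent.BT Module

variable {G : Type*} [Group G] [Finite G] {u t f : G}

open Polynomial in
theorem char_pow_int {χ : G → ℂ} (hχ : IsCharacter G χ) {g : G} {φ : ℤ} (h : χ g = φ) {k : ℕ}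
    (hk : k.Coprime (orderOf g)) : χ (g ^ k) = φ := by
  obtain ⟨s, h1, -, h2⟩ := char_exists_roots hχ g
  have : NeZero (orderOf g) := ⟨(orderOf_pos g).ne'⟩
  obtain ⟨ζ, hζ⟩ : ∃ ζ : ℂ, IsPrimitiveRoot ζ (orderOf g) := ⟨_, Complex.isPrimitiveRoot_exp _ this.out⟩
  have h3 : ∀ z : ℂ, ∃ i : ℕ, z ^ orderOf g = 1 → ζ ^ i = z := fun z => by
    by_cases e : z ^ orderOf g = 1
    · obtain ⟨i, -, hi⟩ := hζ.eq_pow_of_pow_eq_one e
      exact ⟨i, fun _ => hi⟩
    · exact ⟨0, fun h => absurd h e⟩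
  choose e he using h3
  have h4 : ∀ m : ℕ, aeval (ζ ^ m) ((s.map fun z => X ^ e z).sum - C φ : ℤ[X]) = χ (g ^ m) - φ := fun m => by
    rw [← zpow_natCast g, h2, map_sub, map_multiset_sum, Multiset.map_map, aeval_C]
    congr 2
    exact Multiset.map_congr rfl fun z hz => by
      rw [Function.comp, map_pow, aeval_X, ← pow_mul, mul_comm, pow_mul, he z (h1 z hz), zpow_natCast]
  have h5 := h4 1
  rw [pow_one, pow_one, h, sub_self] at h5
  obtain ⟨R, hR⟩ := minpoly.isIntegrallyClosed_dvd (hζ.isIntegral (orderOf_pos g)) h5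
  have h6 := h4 k
  rw [hR, map_mul, hζ.minpoly_eq_pow_coprime hk, minpoly.aeval, zero_mul] at h6
  exact (sub_eq_zero.1 h6.symm)

omit [Finite G] in
theorem ord_zp {p e X : ℕ} (hu : LD p e X u) {y : G} (hy : y ∈ zpowers u) (h1 : y ≠ 1) : orderOf y = p :=
  ((Nat.dvd_prime hu.pr).1 (hu.ord ▸ orderOf_dvd_of_mem_zpowers hy)).resolve_left
    (mt orderOf_eq_one_iff.1 h1)

/-- a coset of a self-centralizing `⟨u⟩` in its normalizer is a single class under `⟨u⟩` -/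
theorem cos_bij {p e : ℕ} (hu : LD p e 1 u) {g : G} (hn : g ∈ normalizer (zpowers u : Set G))
    (hg : g ∉ zpowers u) : ∃ F : zpowers u → zpowers u, Function.Bijective F ∧
      ∀ w, g * F w = (w : G)⁻¹ * g * w := by
  refine ⟨fun w => ⟨g⁻¹ * w⁻¹ * g * w, mul_mem ((mem_normalizer_iff''.1 hn _).1 (inv_mem w.2)) w.2⟩,
    Finite.injective_iff_bijective.1 fun w w' e => ?_, fun w => by simp [mul_assoc]⟩
  by_contra hne
  have h1 : (w' : G) * (w : G)⁻¹ ≠ 1 := fun e => hne (Subtype.ext (mul_inv_eq_one.1 e).symm)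
  have h0 : (w' : G) * (w : G)⁻¹ ∈ zpowers u := mul_mem w'.2 (inv_mem w.2)
  have h2 := ord_zp hu h0 h1
  have h3 : zpowers ((w' : G) * (w : G)⁻¹) = centralizer {(w' : G) * (w : G)⁻¹} := eq_of_le_of_card_ge
    (zpowers_le.2 (mem_centralizer_singleton_iff.2 rfl))
    (by rw [Nat.card_zpowers, h2, ← cc, (hu.of_ord h2).ccx, mul_one])
  refine hg (zpowers_le_of_mem h0 (h3 ▸ mem_centralizer_singleton_iff.2 ?_))
  have h4 : (w : G)⁻¹ * g * w = (w' : G)⁻¹ * g * w' := by simpa [mul_assoc] using congrArg Subtype.val e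
  calc g * (w' * (w : G)⁻¹) = w' * ((w' : G)⁻¹ * g * w') * (w : G)⁻¹ := by group
    _ = w' * (w : G)⁻¹ * g := by rw [← h4]; group

theorem bnd_gen (hu : LD 11 10 1 u) {g : G} (hn : g ∈ normalizer (zpowers u : Set G)) {q : ℕ}
    (hq : q.Prime) (h11 : q ≠ 11) (hg : orderOf g = q) {χ : G → ℂ} (hχ : IsIrrCharacter G χ) {φ a : ℤ}
    (h : χ g = φ) (hc : ∀ y : G, orderOf y = 11 → χ y = a) :
    ∃ r m : ℕ, r ≤ m ∧ (11 * m : ℤ) = deg χ + 10 * a ∧ m + (q - 1 : ℕ) * φ = q * r := by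
  classical
  have := Fintype.ofFinite (zpowers u)
  have hcard : Nat.card (zpowers u) = 11 := by rw [Nat.card_zpowers, hu.ord]
  have h1 : ∑ w : zpowers u, χ w = deg χ + 10 * a := by
    rw [Fintype.sum_eq_add_sum_compl 1, OneMemClass.coe_one, irr_deg hχ,
      sum_congr rfl fun w hw => hc _ (ord_zp hu w.2 (by simpa using hw)), sum_const, card_compl,
      ← Nat.card_eq_fintype_card, hcard]
    simp
  have h2 : ∑ w : zpowers u, ∑ i ∈ Ico 1 q, χ (g ^ i * w) = 11 * ((q - 1 : ℕ) * φ) := by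
    rw [sum_comm, sum_congr rfl (g := fun _ => (11 * φ : ℂ)) fun i hi => ?_, sum_const, Nat.card_Ico]
    · simp only [nsmul_eq_mul]; ring
    obtain ⟨i1, i2⟩ := mem_Ico.1 hi
    have h3 : i.Coprime (orderOf g) := hg ▸ (Nat.coprime_of_lt_prime (by omega) i2 hq).symm
    obtain ⟨F, h4, h5⟩ := cos_bij hu (pow_mem hn i) fun e => by
      have h6 := orderOf_dvd_of_mem_zpowers e
      rw [h3.symm.orderOf_pow, hg, hu.ord] at h6
      exact h11 ((Nat.prime_dvd_prime_iff_eq hq hu.pr).1 h6)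
    rw [← h4.sum_comp, sum_congr rfl (g := fun _ => (φ : ℂ)) fun w _ => ?_, sum_const, card_univ,
      ← Nat.card_eq_fintype_card, hcard]
    · simp
    rw [h5, ← char_pow_int (irr_isCharacter hχ) h h3]
    exact classFun_of_isConj (char_isClassFunction (irr_isCharacter hχ))
      (isConj_iff.2 ⟨w, by group⟩)
  obtain ⟨k, τ, -, rfl⟩ := hχ
  have hv : (11 : ℂ)⁻¹ * Nat.card (zpowers u) = 1 := by rw [hcard]; norm_num
  obtain ⟨T, -, -, h3, h4⟩ := tr_idem (T := τ g) (p := q) (by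
    rw [← map_pow, ← hg, pow_orderOf_eq_one, map_one]) (avg_idem τ _ hv) (avg_comm τ _ hn _)
  have h5 := congrArg (LinearMap.trace ℂ _) (sum_ico τ g hq.pos univ fun w : zpowers u => (w : G))
  refine ⟨_, _, Submodule.finrank_le (LinearMap.ker (T - 1)), ?_⟩
  generalize finrank ℂ (LinearMap.ker (T - 1)) = r at *
  generalize finrank ℂ (LinearMap.range ((11 : ℂ)⁻¹ • ∑ w : zpowers u, τ w : End ℂ _)) = m at *
  rw [mul_smul_comm, map_smul, smul_eq_mul] at h3
  rw [map_smul, smul_eq_mul] at h4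
  have h6 : LinearMap.trace ℂ _ (∑ w : zpowers u, τ w) = deg τ.character + 10 * a := by
    rw [← h1, map_sum]; rfl
  have h7 : LinearMap.trace ℂ _ (∑ w : zpowers u, ∑ i ∈ Ico 1 q, τ (g ^ i * w)) = 11 * ((q - 1 : ℕ) * φ) := by
    simp only [← h2, map_sum]; rfl
  rw [map_sub, h7] at h5
  constructor
  · exact_mod_cast (show (11 * m : ℂ) = deg τ.character + 10 * a by linear_combination h6 - 11 * h4)
  · exact_mod_cast (show (m + (q - 1 : ℕ) * φ : ℂ) = q * r by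
      linear_combination h3 - h4 + 11⁻¹ * h5)

theorem bnd_f' (hu : LD 11 10 1 u) (hf : orderOf f = 5) (hn : f ∈ normalizer (zpowers u : Set G))
    {χ : G → ℂ} (hχ : IsIrrCharacter G χ) {φ : ℤ} (h : χ f = φ)
    (hc : ∀ y : G, orderOf y = 11 → χ y = a11 (deg χ)) :
    11 * φ ≤ deg χ + 10 * a11 (deg χ) ∧ -(deg χ + 10 * a11 (deg χ)) ≤ 44 * φ := by
  obtain ⟨r, m, h1, h2, h3⟩ := bnd_gen hu hn (by norm_num) (by norm_num) hf hχ h hc
  omega

theorem bnd_t' (hu : LD 11 10 1 u) (ht : orderOf t = 2) (htu : t * u * t⁻¹ = u⁻¹)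
    {χ : G → ℂ} (hχ : IsIrrCharacter G χ) {v : ℤ} (h : χ t = v)
    (hc : ∀ y : G, orderOf y = 11 → χ y = a11 (deg χ)) :
    11 * |v| ≤ deg χ + 10 * a11 (deg χ) := by
  obtain ⟨r, m, h1, h2, h3⟩ := bnd_gen hu (mem_normalizer_fintype (by
    rintro _ ⟨k, rfl⟩
    simp only [← conj_zpow, htu]
    exact zpow_mem (inv_mem (mem_zpowers u)) k)) Nat.prime_two (by norm_num) ht hχ h hc
  rcases abs_cases v with e | e <;> omega

end Cfsg.Agent.MT
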