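import Cfsg.Agent.MT.S3
import Cfsg.Agent.MT.S12D

/-!
# Chunks of the search
-/

set_option autoImplicit false

namespace Cfsg.Agent.MT

def ck (ty ch n k i : ℕ) : Bool :=
  ((E.c23s.drop (i * k)).take k).any fun z => s3 ty ch n (s4 E.L11 ty ch) (E.dec z)

theorem of_ck {ty ch n k m : ℕ} (hk : 0 < k) (hl : 264 ≤ m * k) (h : ∀ i < m, ck ty ch n k i = false) :
    ∀ L ∈ E.L23, s3 ty ch n (s4 E.L11 ty ch) L = false := by
  intro L hL
  obtain ⟨z, hz, rfl⟩ := List.mem_map.1 hL
  obtain ⟨j, hj, rfl⟩ := List.getElem_of_mem hz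
  have e : E.c23s.length = 264 := by decide +kernel
  have h1 := h (j / k) ((Nat.div_lt_iff_lt_mul hk).2 (by omega))
  have h2 := Nat.div_add_mod' j k
  have h3 := Nat.mod_lt j hk
  rw [ck, List.any_eq_false] at h1
  refine Bool.eq_false_iff.2 (h1 _ (List.mem_iff_getElem.2 ⟨j % k, ?_, ?_⟩))
  · rw [List.length_take, List.length_drop]
    omega
  · rw [List.getElem_take, List.getElem_drop]
    congr 1

end Cfsg.Agent.MT
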