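import Cfsg.Agent.MT.S4
import Cfsg.Agent.MT.S12D

/-!
# Chunks of the search
-/

set_option autoImplicit false

namespace Cfsg.Agent.MT

def decA (t : ℕ) : ℕ → (List Key → Bool) → Bool :=
  Nat.rec (fun _ k => k []) (fun _ ih n k => Bool.rec
    (fc (Nat.mod n 16777216) fun x => fc (Nat.div n 16777216) fun n' => fc (Nat.div x 1000) fun a =>
      fc (Nat.div (Nat.mod x 1000) 100) fun b => fc (Nat.mod x 100) fun c =>
      fz (Bool.rec (Int.negSucc (Nat.sub 49 c)) (Int.ofNat (Nat.sub c 50)) (Nat.ble 50 c)) fun c =>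
        ih n' fun l => k ((a, b, c) :: l)) (k []) (Nat.beq n 0)) t

theorem decA_eq (t n : ℕ) (k : List Key → Bool) : decA t n k = k (Nat.rec (motive := fun _ => ℕ → List Key)
    (fun _ => []) (fun _ ih n => bif n == 0 then [] else
    (n % 16777216 / 1000, n % 16777216 % 1000 / 100, ((n % 16777216 % 100 : ℕ) : ℤ) - 50) ::
      ih (n / 16777216)) t n) := by
  induction t generalizing n k with
  | zero => rfl
  | succ t ih =>
    have e : decA (t + 1) n k = Bool.rec
      (fc (Nat.mod n 16777216) fun x => fc (Nat.div n 16777216) fun n' => fc (Nat.div x 1000) fun a =>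
        fc (Nat.div (Nat.mod x 1000) 100) fun b => fc (Nat.mod x 100) fun c =>
        fz (Bool.rec (Int.negSucc (Nat.sub 49 c)) (Int.ofNat (Nat.sub c 50)) (Nat.ble 50 c)) fun c =>
          decA t n' fun l => k ((a, b, c) :: l)) (k []) (Nat.beq n 0) := rfl
    have e2 : ∀ c : ℕ, (Bool.rec (Int.negSucc (Nat.sub 49 c)) (Int.ofNat (Nat.sub c 50)) (Nat.ble 50 c) : ℤ) =
        (c : ℤ) - 50 := fun c => by
      rcases h : Nat.ble 50 c with _ | _
      · have : ¬ 50 ≤ c := fun h' => by simp [Nat.ble_eq_true_of_le h'] at h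
        show Int.negSucc (49 - c) = _
        omega
      · have := Nat.le_of_ble_eq_true h
        show ((c - 50 : ℕ) : ℤ) = _
        omega
    rw [e]
    simp only [fc_eq, fz_eq, e2, ih]
    cases n <;> rfl

theorem decA_dec (n : ℕ) (k : List Key → Bool) : decA 12 n k = k (E.dec n) := decA_eq 12 n k

def mt (KC L : List Key) : Bool := (L.filter fun k => k.1 % 23 != 0).isPerm KC

def fM (KC : List Key) (l : List ℕ) : (List (List Key) → Bool) → Bool :=
  List.rec (fun k => k []) (fun z _ ih k => fc z fun z => decA 12 z fun L =>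
    Bool.rec (ih k) (ih fun M => k (L :: M)) (mt KC L)) l

theorem fM_eq (KC : List Key) (l : List ℕ) (k : List (List Key) → Bool) :
    fM KC l k = k ((l.map E.dec).filter (mt KC)) := by
  induction l generalizing k with
  | nil => rfl
  | cons z l ih =>
    have e : fM KC (z :: l) k = fc z fun z => decA 12 z fun L =>
      Bool.rec (fM KC l k) (fM KC l fun M => k (L :: M)) (mt KC L) := rfl
    rw [e, fc_eq, decA_dec, List.map_cons, List.filter_cons, ih, ih]
    cases mt KC (E.dec z) <;> rfl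

def s5 (ty ch : ℕ) (tc : TC) (R : List Row) : Bool :=
  fk ((R.filter fun r => r.d % 11 != 0).map key) fun KC => fM KC E.c11s fun M => s4 M ty ch tc R

theorem s5_sound {ty ch n c d₃ d₄ : ℕ} {v₁ v₂ v₃ v₄ : ℤ} {C A B : List Row}
    (h : TT ty ch n c d₃ d₄ v₁ v₂ v₃ v₄ C A B) {R : List Row} (hR : R.Perm (C ++ A))
    (hL : ∃ L ∈ E.L11, ((C ++ B).map key).Perm L)
    (hbad : ¬ ((∀ r ∈ C ++ A, r.d ≤ 275 → r.d ∈ [45, 231, 252]) ∧
      (B.map Row.d).Perm [23, 483, 1035, 1035, 1035, 3312, 5796])) :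
    s5 ty ch (c, d₃, v₁, v₂, v₃, v₄) R = true := by
  rw [s5, fk_eq, fM_eq]
  obtain ⟨L, h1, h2⟩ := hL
  refine s4_sound h hR ⟨L, List.mem_filter.2 ⟨h1, List.isPerm_iff.2 ?_⟩, h2⟩ hbad
  have e1 : ((C ++ B).map key).filter (fun k => k.1 % 23 != 0) = C.map key := by
    rw [List.map_append, List.filter_append, List.filter_eq_self.2, List.filter_eq_nil_iff.2,
      List.append_nil]
    · intro k hk
      obtain ⟨r, hr, rfl⟩ := List.mem_map.1 hk
      simp [key, (h.hB r hr).2.1]
    · intro k hk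
      obtain ⟨r, hr, rfl⟩ := List.mem_map.1 hk
      have := h.h23 r (List.mem_append_left _ hr)
      simp only [key, bne_iff_ne]
      omega
  have e2 : (C ++ A).filter (fun r => r.d % 11 != 0) = C := by
    rw [List.filter_append, List.filter_eq_self.2, List.filter_eq_nil_iff.2, List.append_nil]
    · intro r hr
      simp [h.hA r hr]
    · intro r hr
      have := h.hC r hr
      simp only [bne_iff_ne]
      omega
  have e3 := (hR.filter fun r => r.d % 11 != 0).map key
  rw [e2] at e3
  exact ((h2.filter _).symm.trans (e1 ▸ List.Perm.refl _)).trans e3.symm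

def ck2 (ty ch n k i : ℕ) : Bool :=
  anyL ((E.c23s.drop (i * k)).take k) fun z => decA 12 z (s3 ty ch n (s5 ty ch))

theorem of_ck2 {ty ch n k m : ℕ} (hk : 0 < k) (hl : 264 ≤ m * k) (h : ∀ i < m, ck2 ty ch n k i = false) :
    ∀ L ∈ E.L23, s3 ty ch n (s5 ty ch) L = false := by
  intro L hL
  obtain ⟨z, hz, rfl⟩ := List.mem_map.1 hL
  obtain ⟨j, hj, rfl⟩ := List.getElem_of_mem hz
  have e : E.c23s.length = 264 := by decide +kernel
  have h1 := h (j / k) ((Nat.div_lt_iff_lt_mul hk).2 (by omega))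
  have h2 := Nat.div_add_mod' j k
  have h3 := Nat.mod_lt j hk
  rw [ck2, anyL_eq, List.any_eq_false] at h1
  refine (decA_dec _ _).symm.trans ?_
  refine Bool.eq_false_iff.2 (h1 _ (List.mem_iff_getElem.2 ⟨j % k, ?_, ?_⟩))
  · rw [List.length_take, List.length_drop]
    omega
  · rw [List.getElem_take, List.getElem_drop]
    congr 1

end Cfsg.Agent.MT
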