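import Cfsg.Agent.MT.Dfs

/-!
# The searches for the columns of `t f` and of `t`
-/

set_option autoImplicit false

namespace Cfsg.Agent.MT

abbrev Key := ℕ × ℕ × ℤ

/-- sign of the coefficient -/
def co (sg : ℕ → Bool) (d : ℕ) : ℤ := if sg d then 1 else -1

/-- `new row` flags -/
def flags {α β : Type} [DecidableEq α] (F : α → β) (l : List α) : α → List (Bool × β) :=
  List.rec (fun _ => []) (fun x _ ih pv => (decide (x ≠ pv), F x) :: ih x) l

theorem ch_flags {α : Type} [DecidableEq α] (ky : Row → α) (F : α → List Opt) (o : Row → Opt) :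
    ∀ (R : List Row) (r₀ : Row), (∀ r ∈ R, o r ∈ F (ky r)) →
      (r₀ :: R).IsChain (fun a b => ky a = ky b → (o a).1 ≤ (o b).1) →
      Ch (o r₀).1 (R.map o) (flags F (R.map ky) (ky r₀))
  | [], _, _, _ => trivial
  | r :: R, _, h, hc => ⟨h r List.mem_cons_self,
      fun e => (List.isChain_cons_cons.1 hc).1 (not_not.1 (of_decide_eq_false e)).symm,
      ch_flags ky F o R r (fun s hs => h s (List.mem_cons_of_mem _ hs)) (List.isChain_cons_cons.1 hc).2⟩

theorem ch_flags' {α : Type} [DecidableEq α] (ky : Row → α) (F : α → List Opt) (o : Row → Opt)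
    (R : List Row) (z : α) (h : ∀ r ∈ R, o r ∈ F (ky r))
    (hc : R.IsChain fun a b => ky a = ky b → (o a).1 ≤ (o b).1) :
    Ch 0 (R.map o) (flags F (R.map ky) z) := by
  cases R with
  | nil => trivial
  | cons r R => exact ⟨h r List.mem_cons_self, fun _ => Nat.zero_le _,
      ch_flags ky F o R r (fun s hs => h s (List.mem_cons_of_mem _ hs)) hc⟩

def ms (ty : ℕ) (f : ℤ) : List ℤ :=
  if f = 0 then [0] else match ty with
  | 0 => if f % 3 = 0 then [f, -(f / 3)] else [f]
  | 1 => [f, -f]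
  | 2 => [f, -f, 0]
  | _ => [f, -f, 0, 2 * f]

theorem mem_ms {ty : ℕ} {f m : ℤ} (h : okm ty f m) : m ∈ ms ty f := by
  unfold ms
  match ty, h with
  | 0, h => simp only [okm] at h ⊢; split_ifs <;> simp <;> omega
  | 1, h => simp only [okm] at h ⊢; split_ifs <;> simp <;> omega
  | 2, h => simp only [okm] at h ⊢; split_ifs <;> simp <;> omega
  | _ + 3, h => simp only [okm] at h ⊢; split_ifs <;> simp <;> omega

def mo1 (sg : ℕ → Bool) (k : Key) (m : ℤ) : Opt :=
  ((m + 100).toNat, (k.2.1 * (m * m)).toNat, (co sg k.1 * m + 100).toNat, 0)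

def mcol (sg : ℕ → Bool) (ty : ℕ) (L : List Key) (q s : ℤ) (k : List (Key × ℕ) → Bool) : Bool :=
  an (decide (0 ≤ q)) (run (flags (fun x => (ms ty x.2.2).map (mo1 sg x)) L (0, 0, 0)) q.toNat
    (100 * L.length - s).toNat 0 fun l => k (L.zip l.reverse))

def key2 (r : Row) : Key × ℕ := (key r, (r.m + 100).toNat)

theorem cast_sum {R : List Row} {F : Row → ℕ} {G : Row → ℤ} (h : ∀ r ∈ R, (F r : ℤ) = G r) :
    ((R.map F).sum : ℤ) = sm R G := by
  induction R with
  | nil => rfl
  | cons r R ih =>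
    simp only [List.map_cons, List.sum_cons, sm, Nat.cast_add] at *
    rw [h r List.mem_cons_self, ih fun s hs => h s (List.mem_cons_of_mem _ hs)]

theorem sm_add_const (R : List Row) (F : Row → ℤ) (c : ℤ) :
    sm R (fun r => F r + c) = sm R F + c * R.length := by
  induction R with
  | nil => simp [sm]
  | cons r R ih => simp only [sm, List.map_cons, List.sum_cons, List.length_cons] at *; push_cast; linarith

theorem sm_nonneg {R : List Row} {F : Row → ℤ} (h : ∀ r ∈ R, 0 ≤ F r) : 0 ≤ sm R F :=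
  List.sum_nonneg fun _ hx => by obtain ⟨r, hr, rfl⟩ := List.mem_map.1 hx; exact h r hr

theorem mcol_sound {sg : ℕ → Bool} {ty : ℕ} {R : List Row} {q s : ℤ} {k : List (Key × ℕ) → Bool}
    (hm : ∀ r ∈ R, okm ty r.f r.m) (hb : ∀ r ∈ R, -100 ≤ r.m ∧ r.m ≤ 100)
    (hc : R.IsChain fun a b => key a = key b → (a.m + 100).toNat ≤ (b.m + 100).toNat)
    (hq : sm R (fun r => r.mu * (r.m * r.m)) ≤ q) (hs : s + sm R (fun r => co sg r.d * r.m) = 0)
    (hk : k (R.map key2) = true) : mcol sg ty (R.map key) q s k = true := by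
  have h0 : ∀ r ∈ R, (0 : ℤ) ≤ r.mu * (r.m * r.m) := fun r _ =>
    mul_nonneg (Int.natCast_nonneg _) (mul_self_nonneg _)
  have h1 := sm_nonneg h0
  rw [mcol, an_eq, Bool.and_eq_true, decide_eq_true_eq]
  refine ⟨by omega, run_sound (P := R.map fun r => mo1 sg (key r) r.m)
    (ch_flags' key _ _ R _ (fun r hr => List.mem_map_of_mem (mem_ms (hm r hr))) hc) ?_ ?_ ?_ ?_⟩ <;>
    rw [List.map_map]
  · have := cast_sum (R := R) (F := (fun o : Opt => o.2.1) ∘ fun r => mo1 sg (key r) r.m)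
      (G := fun r => r.mu * (r.m * r.m)) fun r hr => Int.toNat_of_nonneg (h0 r hr)
    omega
  · have := cast_sum (R := R) (F := (fun o : Opt => o.2.2.1) ∘ fun r => mo1 sg (key r) r.m)
      (G := fun r => co sg r.d * r.m + 100) fun r hr => Int.toNat_of_nonneg (by
        have := hb r hr
        show 0 ≤ co sg r.d * r.m + 100
        unfold co
        split_ifs <;> omega)
    rw [sm_add_const] at this
    rw [List.length_map]
    omega
  · exact List.sum_eq_zero fun x hx => by obtain ⟨r, -, rfl⟩ := List.mem_map.1 hx; rfl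
  · rw [List.reverse_reverse, List.zip_map', ← hk]
    rfl

/-- dimension of the fixed space of `u` -/
def m0 (d : ℕ) : ℕ := Bool.rec (Nat.div d 11) (Nat.succ (Nat.div d 11)) (Nat.beq (Nat.mod d 11) 1)

def big : ℕ := 100000000000000

def vo1 (pos : Bool) (mu nd vc a : ℕ) : Opt :=
  (vc, Nat.mul mu (Nat.mul a a), Bool.rec (Nat.sub 2000 vc) vc pos,
    Bool.rec (Nat.sub big (Nat.mul (Nat.mul a a) nd)) (Nat.add big (Nat.mul (Nat.mul a a) nd)) pos)

def fl (n : ℕ) (f : ℕ → List Opt) : List Opt := Nat.rec (f 0) (fun m _ => f (Nat.succ m)) n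

@[simp] theorem fl_eq (n : ℕ) (f : ℕ → List Opt) : fl n f = f n := by cases n <;> rfl

def voL (pos : Bool) (K b d mu nd base n : ℕ) : List Opt :=
  Nat.rec [] (fun j ih => fl (Nat.add base (Nat.mul 20 j)) fun vc =>
    fl (Nat.add (Nat.sub vc 1000) (Nat.sub 1000 vc)) fun a =>
      Bool.rec ih (vo1 pos mu nd vc a :: ih)
        (an (Nat.ble a b) (Nat.beq (Nat.mod (Nat.mul K a) d) 0))) n

theorem mem_voL {pos : Bool} {K b d mu nd base n j vc : ℕ} (hj : j < n) (h0 : vc = base + 20 * j)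
    (h1 : vc - 1000 + (1000 - vc) ≤ b) (h2 : K * (vc - 1000 + (1000 - vc)) % d = 0) :
    vo1 pos mu nd vc (vc - 1000 + (1000 - vc)) ∈ voL pos K b d mu nd base n := by
  induction n with
  | zero => omega
  | succ n ih =>
    have e : voL pos K b d mu nd base (n + 1) = fl (Nat.add base (Nat.mul 20 n)) fun vc =>
      fl (Nat.add (Nat.sub vc 1000) (Nat.sub 1000 vc)) fun a =>
        Bool.rec (voL pos K b d mu nd base n) (vo1 pos mu nd vc a :: voL pos K b d mu nd base n)
          (an (Nat.ble a b) (Nat.beq (Nat.mod (Nat.mul K a) d) 0)) := rfl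
    rw [e, fl_eq, fl_eq]
    rcases Nat.lt_succ_iff_lt_or_eq.1 hj with h | rfl
    · cases an _ _
      · exact ih h
      · exact List.mem_cons_of_mem _ (ih h)
    · simp only [Nat.add_eq, Nat.mul_eq, Nat.sub_eq, ← h0]
      have : an (Nat.ble (vc - 1000 + (1000 - vc)) b)
          (Nat.beq (Nat.mod (K * (vc - 1000 + (1000 - vc))) d) 0) = true := by
        rw [an_eq, Bool.and_eq_true, Nat.ble_eq, Nat.beq_eq]
        exact ⟨h1, h2⟩
      rw [this]
      exact List.mem_cons_self

def vo (sg : ℕ → Bool) (K sq : ℕ) (x : Key × ℕ) : List Opt :=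
  fl x.1.1 fun d => fl (Bool.rec sq (m0 d) (Nat.ble (m0 d) sq)) fun b => fl (Nat.div NN d) fun nd =>
    fl (Nat.add (Nat.mul (Nat.div (Nat.sub 1000 b) 20) 20)
      (Nat.mod (Nat.add (Nat.mul 5 d) (Nat.mul 16 x.2)) 20)) fun base =>
    voL (sg d) K b d x.1.2.1 nd base (Nat.add (Nat.div b 10) 2)

def mkRow (x : (Key × ℕ) × ℕ) : Row := ⟨x.1.1.1, x.1.1.2.1, x.1.1.2.2, (x.1.2 : ℤ) - 100, (x.2 : ℤ) - 1000⟩

def tcol (sg : ℕ → Bool) (K sq : ℕ) (L : List (Key × ℕ)) (q : ℕ) (s x : ℤ) (k : List Row → Bool) : Bool :=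
  run (flags (vo sg K sq) L ((0, 0, 0), 0)) q (1000 * L.length - s).toNat (big * L.length - x).toNat
    fun l => k ((L.zip l.reverse).map mkRow)

theorem tcol_sound {sg : ℕ → Bool} {K sq q : ℕ} {R : List Row} {s x : ℤ} {k : List Row → Bool}
    (hsq : q < (sq + 1) * (sq + 1)) (h400 : sq ≤ 400) (hb : ∀ r ∈ R, -100 ≤ r.m ∧ 0 < r.mu)
    (hv : ∀ r ∈ R, (4 : ℤ) ∣ r.d - r.v ∧ (5 : ℤ) ∣ r.v - r.m ∧ (r.d : ℤ) ∣ K * r.v ∧
      11 * |r.v| ≤ r.d + 10 * a11 r.d)
    (hc : R.IsChain fun a b => key2 a = key2 b → (a.v + 1000).toNat ≤ (b.v + 1000).toNat)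
    (hq : sm R (fun r => r.mu * (r.v * r.v)) ≤ q) (hs : s + sm R (fun r => co sg r.d * r.v) = 0)
    (hx : x + sm R (fun r => co sg r.d * (r.v * r.v * (NN / r.d : ℕ))) = 0)
    (hk : k R = true) : tcol sg K sq (R.map key2) q s x k = true := by
  have h0 : ∀ r ∈ R, (0 : ℤ) ≤ r.mu * (r.v * r.v) := fun r _ =>
    mul_nonneg (Int.natCast_nonneg _) (mul_self_nonneg _)
  have h1 : ∀ r ∈ R, r.v.natAbs ≤ sq := fun r hr => by
    have e1 : r.mu * (r.v * r.v) ≤ sm R fun r => r.mu * (r.v * r.v) :=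
      List.single_le_sum (fun _ hx => by obtain ⟨r, hr, rfl⟩ := List.mem_map.1 hx; exact h0 r hr) _
        (List.mem_map_of_mem (f := fun r : Row => (r.mu : ℤ) * (r.v * r.v)) hr)
    have e2 : r.v * r.v ≤ r.mu * (r.v * r.v) :=
      le_mul_of_one_le_left (mul_self_nonneg _) (by have := (hb r hr).2; omega)
    have e3 : r.v.natAbs * r.v.natAbs < (sq + 1) * (sq + 1) := by
      have := Int.natAbs_mul_self (a := r.v)
      omega
    exact Nat.lt_succ_iff.1 (Nat.mul_self_lt_mul_self_iff.1 e3)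
  have h2 : ∀ r ∈ R, (r.v + 1000).toNat - 1000 + (1000 - (r.v + 1000).toNat) = r.v.natAbs :=
    fun r hr => by have := h1 r hr; omega
  let o : Row → Opt := fun r => vo1 (sg r.d) r.mu (NN / r.d) (r.v + 1000).toNat r.v.natAbs
  have h3 : ∀ r ∈ R, r.v.natAbs * r.v.natAbs * (NN / r.d) ≤ big := fun r hr =>
    (Nat.mul_le_mul (Nat.mul_le_mul ((h1 r hr).trans h400) ((h1 r hr).trans h400))
      (Nat.div_le_self _ _)).trans (by decide)
  refine run_sound (P := R.map o) (ch_flags' key2 _ o R _ (fun r hr => ?_) hc) ?_ ?_ ?_ ?_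
  · obtain ⟨e1, e2, e3, e4⟩ := hv r hr
    have e5 := h1 r hr
    have e6 := (hb r hr).1
    have e7 : r.v.natAbs ≤ m0 r.d := by
      rw [Int.abs_eq_natAbs] at e4
      unfold m0 a11 at *
      rcases e : Nat.beq (Nat.mod r.d 11) 1 with _ | _
      · have : r.d % 11 ≠ 1 := Nat.ne_of_beq_eq_false e
        show _ ≤ r.d / 11
        split_ifs at e4 <;> omega
      · have : r.d % 11 = 1 := Nat.eq_of_beq_eq_true e
        show _ ≤ r.d / 11 + 1
        split_ifs at e4
        omega
    simp only [vo, fl_eq, o, key2, key, Nat.add_eq, Nat.mul_eq, Nat.sub_eq]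
    generalize hb : (Bool.rec sq (m0 r.d) (Nat.ble (m0 r.d) sq) : ℕ) = b
    have e8 : r.v.natAbs ≤ b ∧ b ≤ 400 := by
      subst hb
      rcases e : Nat.ble (m0 r.d) sq with _ | _
      · exact ⟨e5, h400⟩
      · exact ⟨e7, (Nat.le_of_ble_eq_true e).trans h400⟩
    rw [← h2 r hr]
    refine mem_voL (j := (r.v + 1000).toNat / 20 - (1000 - b) / 20) ?_ ?_ ?_ ?_
    · show _ < b / 10 + 2
      omega
    · show _ = (1000 - b) / 20 * 20 + (5 * r.d + 16 * (r.m + 100).toNat) % 20 + _
      omega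
    · omega
    · rw [h2 r hr]
      have := Int.natAbs_dvd_natAbs.2 e3
      rw [Int.natAbs_mul, Int.natAbs_natCast, Int.natAbs_natCast] at this
      exact Nat.mod_eq_zero_of_dvd this
  all_goals rw [List.map_map]
  · have := cast_sum (R := R) (F := (fun o : Opt => o.2.1) ∘ o)
      (G := fun r => r.mu * (r.v * r.v)) fun r hr => by
        rw [← Int.natAbs_mul_self (a := r.v), ← Nat.cast_mul]
        rfl
    omega
  · have := cast_sum (R := R) (F := (fun o : Opt => o.2.2.1) ∘ o)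
      (G := fun r => co sg r.d * r.v + 1000) fun r hr => by
        have := h1 r hr
        simp only [o, vo1, co, Function.comp, Nat.sub_eq]
        cases sg r.d <;> simp <;> omega
    rw [sm_add_const] at this
    rw [List.length_map]
    omega
  · have := cast_sum (R := R) (F := (fun o : Opt => o.2.2.2) ∘ o)
      (G := fun r => co sg r.d * (r.v * r.v * (NN / r.d : ℕ)) + big) fun r hr => by
        have e1 := h3 r hr
        have e2 : r.v * r.v * (NN / r.d : ℕ) = (r.v.natAbs * r.v.natAbs * (NN / r.d) : ℕ) := by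
          rw [← Int.natAbs_mul_self (a := r.v)]; push_cast; rfl
        simp only [o, vo1, co, Function.comp, Nat.sub_eq, Nat.add_eq, Nat.mul_eq, e2]
        generalize r.v.natAbs * r.v.natAbs * (NN / r.d) = z at *
        cases sg r.d <;> simp <;> omega
    rw [sm_add_const] at this
    rw [List.length_map]
    omega
  · rw [List.reverse_reverse, List.zip_map', List.map_map, ← hk]
    congr 1
    conv_rhs => rw [← List.map_id R]
    refine List.map_congr_left fun r hr => ?_
    have e1 := h1 r hr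
    have e2 := (hb r hr).1
    obtain ⟨d, mu, f, m, v⟩ := r
    simp only [Function.comp, mkRow, key2, key, o, vo1, id, Row.mk.injEq, true_and] at *
    omega

end Cfsg.Agent.MT
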