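import Cfsg.Agent.MT.Dfs
import Cfsg.Agent.MK.Prune

/-!
# The rows prime to `23` together with the column of `f`
-/

set_option autoImplicit false

namespace Cfsg.Agent.MT

open Cfsg.Agent.MK Cfsg.Agent.Small

def D12 : List Small.Row := [(12672, -1, 0), (10395, -1, 0), (5544, 1, 0), (3840, -1, 1), (3520, 1, 0),
  (1540, -1, 0), (990, 1, 0), (528, -1, 0), (252, -1, -1), (231, 1, 0), (45, -1, 1), (22, -1, 0)]

def E13 : List ℕ := [11, 12, 264, 495, 540, 770, 1024, 1760, 2772, 3024, 6336, 9856, 11880]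

theorem mem_D12 : ∀ d ∈ dv24, d * d ≤ NN → (d % 11 = 0 ∨ d % 11 = 1 ∨ d % 11 = 10) →
    ((1 < d ∧ (d % 23 = 1 ∨ d % 23 = 22) → (d, c23 d, a11 d) ∈ D12) ∧
      (d % 23 = 11 ∨ d % 23 = 12 → d ∈ E13)) := by decide +kernel

/-- possible values at `f` -/
def fv (cf b d : ℕ) : List ℤ := if d % 5 = 0 then [0] else
  ((List.range (2 * b + 1)).map fun j : ℕ => (j : ℤ) - b).filter fun v =>
    ((d : ℤ) - v) % 5 == 0 && (((NN / cf : ℕ) * v) % d == 0 &&
      (decide (11 * v ≤ d + 10 * a11 d) && decide (-(d + 10 * a11 d) ≤ 44 * v)))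

abbrev Key := ℕ × ℕ × ℤ

def mz (cf i j : ℕ) (ks : List Key) : ℤ := (NN / cf : ℕ) ^ i * (NN / 11 : ℕ) ^ j + (ks.map fun k =>
  c23 k.1 * (k.1 * (om (NN / cf) k.2.2 k.1 ^ i * om (NN / 11) (a11 k.1) k.1 ^ j))).sum

def mo (cf i j : ℕ) (ks : List Key) : Bool :=
  fI (mz cf i j ks) fun Z => Z % (23 * NN : ℕ) == 0 && decide (0 ≤ Z)

def mos (cf : ℕ) (ks : List Key) : Bool :=
  mo cf 2 0 ks && (mo cf 3 0 ks && (mo cf 4 0 ks && (mo cf 1 1 ks && (mo cf 2 1 ks && mo cf 1 2 ks))))

def st2 (cf b e : ℕ) (fin : List Key → Bool) (l : List Small.Row) : Bool :=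
  fP (fv cf b) (prj l) fun R => (fv cf b e).any fun w => Nat.ble (2 * (w.natAbs * w.natAbs) + 5) cf &&
    fN (cf - (2 * (w.natAbs * w.natAbs) + 5)) fun q => fI (c23 e * w) fun s =>
      vs2 (fun l' => fR l' fun l' => mos cf ((e, 2, w) :: (5544, 1, -1) :: l'.map fun x => (x.1, 1, x.2.2)) &&
        fin ((e, 2, w) :: (5544, 1, -1) :: l'.map fun x => (x.1, 1, x.2.2))) R q s []

/-- the search for a given degree `e` of the exceptional pair -/
def chk (cf b : ℕ) (fin : List Key → Bool) (e : ℕ) : Bool :=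
  Nat.ble (2 * (e * e)) 179661370 && fN (179661370 - 2 * (e * e)) fun r => fI (5545 + c23 e * e) fun s =>
    gp (fun l _ => fR l fun l => 1 + c23 e * a11 e + (l.map fun x => x.2.1 * x.2.2).sum == 0 &&
      st2 cf b e fin l) 9 D12 9 r s []

theorem sm_perm {l l' : List Row} (h : l.Perm l') (F : Row → ℤ) : sm l F = sm l' F :=
  (h.map F).sum_eq

theorem sm_app (l l' : List Row) (F : Row → ℤ) : sm (l ++ l') F = sm l F + sm l' F := by
  simp [sm]

theorem sm_cons (r : Row) (l : List Row) (F : Row → ℤ) : sm (r :: l) F = F r + sm l F := by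
  simp [sm]

theorem sm_nonneg {l : List Row} {F : Row → ℤ} (h : ∀ r, 0 ≤ F r) : 0 ≤ sm l F :=
  List.sum_nonneg fun _ hx => by
    obtain ⟨r, -, rfl⟩ := List.mem_map.1 hx
    exact h r

theorem le_sm {l : List Row} {F : Row → ℤ} (h : ∀ r, 0 ≤ F r) {r : Row} (hr : r ∈ l) : F r ≤ sm l F := by
  rw [sm_perm (List.perm_cons_erase hr), sm_cons]
  exact le_add_of_nonneg_right (sm_nonneg h)

theorem sm_congr {l : List Row} {F F' : Row → ℤ} (h : ∀ r ∈ l, F r = F' r) : sm l F = sm l F' := by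
  rw [sm, sm, List.map_congr_left h]

theorem sm_mu {l : List Row} (h : ∀ r ∈ l, r.mu = 1 ∨ r.mu = 2) :
    (l.length : ℤ) ≤ sm l (fun r => r.mu) ∧ (sm l (fun r => r.mu) = l.length → ∀ r ∈ l, r.mu = 1) := by
  induction l with
  | nil => simp [sm]
  | cons a l ih =>
    have h1 := ih fun r hr => h r (List.mem_cons_of_mem _ hr)
    have h2 := h a List.mem_cons_self
    rw [sm_cons, List.length_cons, List.forall_mem_cons]
    exact ⟨by omega, fun e => ⟨by omega, h1.2 (by omega)⟩⟩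

variable {cf d₃ d₄ : ℕ} {C A B : List Row}

theorem TF.shape (h : TF cf d₃ d₄ C A B) : ∃ e r M, (C ++ A).Perm (e :: r :: M) ∧ e.mu = 2 ∧
    key r = (5544, 1, -1) ∧ M.length = 9 ∧ ∀ x ∈ M, x.mu = 1 := by
  have h1 : ∀ r ∈ C ++ A, r.mu = 1 ∨ r.mu = 2 := fun r hr => (h.h23 r hr).imp And.left And.left
  obtain ⟨e, he, e2⟩ : ∃ e ∈ C ++ A, e.mu = 2 := by
    by_contra hn
    have := sm_congr (l := C ++ A) (F := fun r => r.mu) (F' := fun _ => 1) fun r hr => by
      rw [(h1 r hr).resolve_right fun e => hn ⟨r, hr, e⟩]; rfl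
    rw [h.mu23, sm, List.map_const', List.sum_replicate, h.len] at this
    norm_num at this
  obtain ⟨r, hr, r1, r2⟩ := h.fA
  have r3 := h.h23 r (List.mem_append_right _ hr)
  have r4 : r.mu = 1 := by omega
  have p1 := List.perm_cons_erase he
  have r5 : r ∈ (C ++ A).erase e := (List.mem_cons.1 (p1.subset (List.mem_append_right _ hr))).resolve_left
    fun e' => by rw [e'] at r4; omega
  have p2 := p1.trans ((List.perm_cons_erase r5).cons e)
  have l1 := p2.length_eq
  have l2 := sm_perm p2 fun r => r.mu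
  rw [h.len] at l1
  rw [h.mu23, sm_cons, sm_cons] at l2
  simp only [List.length_cons] at l1
  exact ⟨e, r, _, p2, e2, by rw [key, r1, r2, r4], by omega, (sm_mu fun x hx => h1 x
    (p2.symm.subset (List.mem_cons_of_mem _ (List.mem_cons_of_mem _ hx)))).2 (by omega)⟩

theorem TF.mem_fv (h : TF cf d₃ d₄ C A B) {b : ℕ} (hb : cf < (b + 1) * (b + 1)) {r : Row}
    (hr : r ∈ C ++ A ++ B) (h5 : r.d % 5 = 0 → r.f = 0) : r.f ∈ fv cf b r.d := by
  rw [fv]
  split_ifs with e
  · simp [h5 e]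
  obtain ⟨e1, e2, e3, e4⟩ := h.f5 r hr
  have e5 := le_sm (F := fun r => r.mu * (r.f * r.f))
    (fun r => mul_nonneg (by positivity) (mul_self_nonneg _)) hr
  have e6 := h.fn
  have e7 : (1 : ℤ) ≤ r.mu := by
    rcases List.mem_append.1 hr with hr | hr
    · have := h.h23 r hr; omega
    · have := h.hB r hr; omega
  have e8 : r.f * r.f < (b + 1) * (b + 1) := by
    have : (cf : ℤ) < (b + 1) * (b + 1) := by exact_mod_cast hb
    nlinarith [mul_self_nonneg r.f]
  have e9 := abs_lt.1 (abs_lt_of_sq_lt_sq (a := r.f) (b := b + 1) (by rwa [pow_two, pow_two])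
    (by positivity))
  simp only [List.mem_filter, List.mem_map, List.mem_range, Bool.and_eq_true, beq_iff_eq,
    decide_eq_true_eq]
  exact ⟨⟨(r.f + b).toNat, by omega, by omega⟩, Int.emod_eq_zero_of_dvd e1,
    Int.emod_eq_zero_of_dvd e2, e3, e4⟩

theorem TF.mos (h : TF cf d₃ d₄ C A B) {ks : List Key} (hk : ks.Perm ((C ++ A).map key)) :
    mos cf ks = true := by
  have : ∀ i j, mo cf i j ks = true := fun i j => by
    have h1 := h.m23 i j
    rw [mo, fI_eq, mz, (hk.map _).sum_eq, List.map_map, Bool.and_eq_true, beq_iff_eq, decide_eq_true_eq]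
    exact ⟨Int.emod_eq_zero_of_dvd h1.2, h1.1⟩
  simp [MT.mos, this]

theorem cast_sum_map {α : Type} (l : List α) (F : α → ℕ) :
    (((l.map F).sum : ℕ) : ℤ) = (l.map fun x => (F x : ℤ)).sum := by
  induction l with
  | nil => rfl
  | cons a l ih => simp [ih]

theorem TF.chk (h : TF cf d₃ d₄ C A B) {b : ℕ} (hb : cf < (b + 1) * (b + 1))
    (h5 : ∀ r ∈ C ++ A ++ B, r.d % 5 = 0 → r.f = 0) {fin : List Key → Bool}
    (hf : ∀ ks : List Key, ks.Perm ((C ++ A).map key) → fin ks = true) :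
    ∃ e ∈ E13, chk cf b fin e = true := by
  classical
  obtain ⟨e, r, M, p, e2, r1, m1, m2⟩ := h.shape
  simp only [key, Prod.mk.injEq] at r1
  obtain ⟨t, ht, t1, t2⟩ := h.fB
  have t3 := (h.hB t ht).1
  have hs : ∀ x ∈ e :: r :: M, x ∈ C ++ A := fun x hx => p.symm.subset hx
  have hM : ∀ x ∈ M, x ∈ C ++ A := fun x hx => hs x (by simp [hx])
  have he := hs e List.mem_cons_self
  have s1 := h.sq
  have s2 := le_sm (F := fun r => r.mu * (r.d * r.d)) (fun r => by positivity) ht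
  have s3 : (759 * 759 + 506 * 506 : ℤ) ≤ d₃ * d₃ + d₄ * d₄ := by
    rcases h.hd with ⟨rfl, rfl⟩ | ⟨rfl, rfl⟩ <;> norm_num
  have f1 := h.fn
  have f2 := le_sm (F := fun r => r.mu * (r.f * r.f))
    (fun r => mul_nonneg (by positivity) (mul_self_nonneg _)) ht
  have d1 := h.d23
  have g1 := h.f23
  have x1 : 1 + sm (C ++ A) (fun r => c23 r.d * a11 r.d) = 0 := by
    rw [sm_app, sm_congr (l := A) (F' := fun _ => 0) fun r hr => by simp [a11, h.hA r hr]]
    simpa [sm] using h.xu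
  rw [sm_app] at s1 f1
  rw [sm_perm p, sm_cons, sm_cons] at s1 f1 d1 g1 x1
  rw [sm_congr (l := M) (F' := fun r => r.d * r.d) fun x hx => by simp [m2 x hx]] at s1
  rw [sm_congr (l := M) (F' := fun r => r.f * r.f) fun x hx => by simp [m2 x hx]] at f1
  have c1 : c23 5544 = 1 := rfl
  have c2 : a11 5544 = 0 := rfl
  simp only [r1, e2, t1, t2, t3, c1, c2, NN, Nat.cast_ofNat, Nat.cast_one] at s1 s2 f1 f2 d1 g1 x1
  have s4 := sm_nonneg (l := M) (F := fun r => r.d * r.d) fun r => by positivity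
  have f4 := sm_nonneg (l := M) (F := fun r => r.f * r.f) fun r => mul_self_nonneg _
  have hD : ∀ x ∈ C ++ A, x.d * x.d ≤ NN → _ := fun x hx hh =>
    mem_D12 x.d (mem_dv24 (h.dv x (List.mem_append_left _ hx)).1) hh (by
      rcases List.mem_append.1 hx with hx | hx
      · exact .inr (h.hC x hx)
      · exact .inl (h.hA x hx))
  have s5 : 2 * (e.d * e.d) ≤ 179661370 := by zify; linarith
  have hx : ∀ x ∈ M, (x.d, c23 x.d, a11 x.d) ∈ D12 := fun x hx => (hD x (hM x hx) (by
    have := le_sm (F := fun r => r.d * r.d) (fun r => by positivity) hx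
    have : (0 : ℤ) ≤ e.d * e.d := by positivity
    rw [NN]; zify; linarith)).1 ⟨(h.dv x (List.mem_append_left _ (hM x hx))).2, by
      have := h.h23 x (hM x hx); have := m2 x hx; omega⟩
  refine ⟨e.d, (hD e he (by rw [NN]; omega)).2 (by have := h.h23 e he; omega), ?_⟩
  have hD1 : ∀ y ∈ D12, y.2.1 ≠ 0 ∧ y.2.1.natAbs * y.2.1.natAbs = 1 := by decide
  simp only [MT.chk, Bool.and_eq_true, Nat.ble_eq, fN_eq, fI_eq]
  refine ⟨s5, (gp_of_go 9 _ _ _ _ _ (1 + c23 e.d * a11 e.d) _ (by decide) (M12R.go_sound 9 D12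
    (M.map fun x => (x.d, c23 x.d, a11 x.d) : List Small.Row) 9 _ _ _ _ [] ?_ ?_ le_rfl ?_ ?_ le_rfl ?_ ?_
    fun l hl => ?_)).1⟩
  · simpa using hx
  · simpa using fun x h => (hD1 _ (hx x h)).1
  · rw [Multiset.map_coe, Multiset.sum_coe, List.map_map, Function.comp_def,
      List.map_congr_left (g := fun _ => 1) fun x h => (hD1 _ (hx x h)).2]
    simp [m1]
  · rw [Multiset.map_coe, Multiset.sum_coe, List.map_map]
    zify [s5]
    rw [sm] at s1
    simp only [Function.comp_def, List.map_map, Nat.cast_mul]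
    linarith
  · rw [Multiset.map_coe, Multiset.sum_coe, List.map_map]
    rw [sm] at d1
    simp only [Function.comp_def]
    linarith
  · rw [Multiset.map_coe, Multiset.sum_coe, List.map_map]
    rw [sm] at x1
    simp only [Function.comp_def]
    linarith
  obtain ⟨L, l1, rfl⟩ := exists_list (fun x : Row => (x.d, c23 x.d, a11 x.d)) l M (by simpa using hl)
  have l2 : L.Perm M := Multiset.coe_eq_coe.1 l1
  rw [← sm_perm l2, sm] at x1 f1 g1 f4
  have hL : ∀ x ∈ L, x ∈ C ++ A ++ B := fun x hx => List.mem_append_left _ (hM x (l2.subset hx))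
  have f5 : 2 * (e.f.natAbs * e.f.natAbs) + 5 ≤ cf := by zify; rw [abs_mul_abs_self]; linarith
  simp only [fR_eq, st2, fP_eq, Bool.and_eq_true, beq_iff_eq, List.any_eq_true, Nat.ble_eq, fN_eq,
    fI_eq, List.map_map, prj, Function.comp_def]
  refine ⟨by linarith, e.f, h.mem_fv hb (List.mem_append_left _ he) (h5 e (List.mem_append_left _ he)),
    f5, vs2_of_vs _ _ _ _ ?_⟩
  have k1 : ((e.d, 2, e.f) :: (5544, 1, -1) :: ((L.map fun x : Row => (x.d, c23 x.d, x.f)).reverse ++ []).map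
      fun x : Small.Row => ((x.1, 1, x.2.2) : Key)).Perm ((C ++ A).map key) := by
    refine List.Perm.trans ?_ (p.map key).symm
    rw [List.map_cons, List.map_cons, key, key, e2, r1.1, r1.2.1, r1.2.2, List.append_nil, List.map_reverse,
      List.map_map]
    refine (((List.reverse_perm _).trans ?_).cons _).cons _
    rw [List.map_congr_left (g := key) fun x hx => by simp [key, m2 x (l2.subset hx)]]
    exact l2.map key
  have := vs_sound (fin := fun l' => MT.mos cf ((e.d, 2, e.f) :: (5544, 1, -1) ::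
      l'.map fun x => (x.1, 1, x.2.2)) && fin ((e.d, 2, e.f) :: (5544, 1, -1) ::
      l'.map fun x => (x.1, 1, x.2.2))) (vl := fv cf b) (L.map fun x : Row => (x.d, c23 x.d, x.f))
    (cf - (2 * (e.f.natAbs * e.f.natAbs) + 5)) (c23 e.d * e.f) [] ?_ ?_ ?_ ?_
  · simpa only [List.map_map, Function.comp_def] using this
  · simpa using fun x hx => h.mem_fv hb (hL x hx) (h5 x (hL x hx))
  · zify [f5]
    simp only [List.map_map, Function.comp_def, Nat.cast_mul, Nat.cast_natAbs, Int.cast_abs,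
      Int.cast_id, abs_mul_abs_self]
    linarith
  · simp only [List.map_map, Function.comp_def]
    linarith
  · rw [h.mos k1, hf _ k1]
    rfl

end Cfsg.Agent.MT
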