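import Mathlib

/-!
# The arithmetic shadow of the character table of a simple group of order `244823040`
-/

set_option autoImplicit false

namespace Cfsg.Agent.MT

/-- the group order -/
abbrev NN : ℕ := 244823040

/-- degree, multiplicity (`2` for the exceptional pair of the prime `23`), value at an element `f`
of order `5`, mean value at the elements `t f ^ k`, value at the involution `t` -/
structure Row where
  d : ℕ
  mu : ℕ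
  f : ℤ
  m : ℤ
  v : ℤ
deriving DecidableEq

/-- value at an element of order `11` -/
def a11 (d : ℕ) : ℤ := if d % 11 = 1 then 1 else if d % 11 = 10 then -1 else 0

/-- coefficient in the relation of the prime `23` -/
def c23 (d : ℕ) : ℤ := if d % 23 = 1 ∨ d % 23 = 12 then 1 else if d % 23 = 0 then 0 else -1

/-- coefficient in the relation of the prime `11` -/
def c11 (r : Row) : ℤ := r.mu * a11 r.d

/-- sum over a list of rows -/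
def sm (l : List Row) (F : Row → ℤ) : ℤ := (l.map F).sum

/-- central character value: class size `K`, character value `x` -/
def om (K : ℕ) (x : ℤ) (d : ℕ) : ℤ := K * x / d

/-- a class sum test -/
def Mo (p : ℕ) (Z : ℤ) : Prop := 0 ≤ Z ∧ ((p * NN : ℕ) : ℤ) ∣ Z

/-- Degrees and the column of `f` (centralizer order `cf`).  `C`: degrees prime to `253`,
`A`: divisible by `11`, `B`: divisible by `23`; `d₃, d₄`: two degrees divisible by `253`. -/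
structure TF (cf d₃ d₄ : ℕ) (C A B : List Row) : Prop where
  dv : ∀ r ∈ C ++ A ++ B, r.d ∣ NN ∧ 1 < r.d
  hC : ∀ r ∈ C, r.d % 11 = 1 ∨ r.d % 11 = 10
  hA : ∀ r ∈ A, r.d % 11 = 0
  h23 : ∀ r ∈ C ++ A, (r.mu = 1 ∧ (r.d % 23 = 1 ∨ r.d % 23 = 22)) ∨
    (r.mu = 2 ∧ (r.d % 23 = 11 ∨ r.d % 23 = 12))
  hB : ∀ r ∈ B, r.mu = 1 ∧ r.d % 23 = 0 ∧ (r.d % 11 = 1 ∨ r.d % 11 = 10)
  len : (C ++ A).length = 11
  mu23 : sm (C ++ A) (fun r => r.mu) = 12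
  mu11 : sm (C ++ B) (fun r => r.mu) = 10
  d23 : 1 + sm (C ++ A) (fun r => c23 r.d * r.d) = 0
  d11 : 1 + sm (C ++ B) (fun r => c11 r * r.d) = 0
  xu : 1 + sm C (fun r => c23 r.d * a11 r.d) = 0
  sq : 1 + sm (C ++ A ++ B) (fun r => r.mu * (r.d * r.d)) + d₃ * d₃ + d₄ * d₄ ≤ NN
  hd : (d₃ = 2024 ∧ d₄ = 1771) ∨ (d₃ = 759 ∧ d₄ = 506)
  fA : ∃ r ∈ A, r.d = 5544 ∧ r.f = -1
  fB : ∃ r ∈ B, r.d = 5796 ∧ r.f = 1
  f5 : ∀ r ∈ C ++ A ++ B, (5 : ℤ) ∣ r.d - r.f ∧ (r.d : ℤ) ∣ (NN / cf : ℕ) * r.f ∧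
    11 * r.f ≤ r.d + 10 * a11 r.d ∧ -(r.d + 10 * a11 r.d) ≤ 44 * r.f
  fn : 3 + sm (C ++ A ++ B) (fun r => r.mu * (r.f * r.f)) ≤ cf
  f23 : 1 + sm (C ++ A) (fun r => c23 r.d * r.f) = 0
  f11 : 1 + sm (C ++ B) (fun r => c11 r * r.f) = 0
  m23 : ∀ i j : ℕ, Mo 23 ((NN / cf : ℕ) ^ i * (NN / 11 : ℕ) ^ j + sm (C ++ A) fun r =>
    c23 r.d * (r.d * (om (NN / cf) r.f r.d ^ i * om (NN / 11) (a11 r.d) r.d ^ j)))
  m11 : ∀ i : ℕ, Mo 11 ((NN / cf : ℕ) ^ i + sm (C ++ B) fun r =>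
    c11 r * (r.d * om (NN / cf) r.f r.d ^ i))
  /-- Cauchy-Schwarz on the remaining characters -/
  cs : (1 + sm (C ++ A ++ B) (fun r => r.mu * (r.d * r.f)) - d₃ + d₄) ^ 2 ≤
    ((NN : ℤ) - (1 + sm (C ++ A ++ B) (fun r => r.mu * (r.d * r.d)) + d₃ * d₃ + d₄ * d₄)) *
      ((cf : ℤ) - (3 + sm (C ++ A ++ B) fun r => r.mu * (r.f * r.f)))

/-- the admissible mean values -/
def okm (ty : ℕ) (f m : ℤ) : Prop :=
  match ty with
  | 0 => m = f ∨ 3 * m = -f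
  | 1 => m = f ∨ m = -f
  | 2 => m = f ∨ m = -f ∨ m = 0
  | _ => m = f ∨ m = -f ∨ m = 0 ∨ m = 2 * f

/-- type, `|C(t f)|`, `|N(f) ∩ C(t)|` -/
def tys : List (ℕ × ℕ × ℕ) := [(0, 20, 80), (1, 60, 240), (2, 60, 120), (3, 20, 80), (3, 20, 40)]

/-- `|C(t)|`, `d₃`, and the values of `t` on the characters of degrees `5796, 5544, d₃, d₄` -/
def tcs : List (ℕ × ℕ × ℤ × ℤ × ℤ × ℤ) :=
  [(1920, 2024, 16, -16, 24, -9), (2880, 2024, -24, -36, 4, -9), (2880, 2024, -24, 24, -16, 31),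
   (2880, 2024, 36, 24, 24, 11), (3840, 2024, -44, -16, -16, 11), (3840, 2024, -24, -36, 4, -9),
   (3840, 2024, 16, 4, 44, 31), (3840, 2024, 16, 44, 4, 31), (3840, 2024, 36, 24, 24, 11),
   (7680, 2024, -4, -16, 64, 51), (7680, 2024, -4, 64, -16, 51), (7680, 2024, 36, 24, 24, 11),
   (7680, 759, -44, -56, 39, 26), (8640, 2024, 36, -36, 44, -29), (11520, 2024, -24, -36, 4, -9),
   (11520, 2024, 36, 24, 24, 11), (13440, 2024, 56, -56, 64, -49), (17280, 2024, 36, -36, 44, -29),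
   (23040, 2024, -84, -96, -16, -29), (23040, 2024, 36, 24, 24, 11),
   (40320, 2024, -84, 84, -76, 91), (138240, 2024, 36, -216, 104, -149)]

/-- The columns of `t f` and of `t` (centralizer order `c`), for `|C(f)| = 60`. -/
structure TT (ty ch n c d₃ d₄ : ℕ) (v₁ v₂ v₃ v₄ : ℤ) (C A B : List Row) : Prop
    extends TF 60 d₃ d₄ C A B where
  hty : (ty, ch, n) ∈ tys
  hn : c % n = 0 ∧ c / n % 5 = 1
  htc : (c, d₃, v₁, v₂, v₃, v₄) ∈ tcs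
  tA : ∃ r ∈ A, r.d = 5544 ∧ r.f = -1 ∧ r.m = -1 ∧ r.v = v₂
  tB : ∃ r ∈ B, r.d = 5796 ∧ r.f = 1 ∧ r.m = 1 ∧ r.v = v₁
  hm : ∀ r ∈ C ++ A ++ B, okm ty r.f r.m
  mn : 3 + sm (C ++ A ++ B) (fun r => r.mu * (r.m * r.m)) ≤ ch
  n23 : 1 + sm (C ++ A) (fun r => c23 r.d * r.m) = 0
  n11 : 1 + sm (C ++ B) (fun r => c11 r * r.m) = 0
  mf : Mo 23 (4 * (((NN / ch : ℕ) : ℤ) * (NN / 60 : ℕ) + sm (C ++ A) fun r =>
    c23 r.d * ((NN / ch : ℕ) * r.m * om (NN / 60) r.f r.d)))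
  hv : ∀ r ∈ C ++ A ++ B, (4 : ℤ) ∣ r.d - r.v ∧ (5 : ℤ) ∣ r.v - r.m ∧ (r.d : ℤ) ∣ (NN / c : ℕ) * r.v ∧
    11 * |r.v| ≤ r.d + 10 * a11 r.d
  vn : 1 + v₃ * v₃ + v₄ * v₄ + sm (C ++ A ++ B) (fun r => r.mu * (r.v * r.v)) ≤ c
  v23 : 1 + sm (C ++ A) (fun r => c23 r.d * r.v) = 0
  v11 : 1 + sm (C ++ B) (fun r => c11 r * r.v) = 0
  q23 : (NN : ℤ) + sm (C ++ A) (fun r => c23 r.d * (r.v * r.v * (NN / r.d : ℕ))) = 0
  q11 : (NN : ℤ) + sm (C ++ B) (fun r => c11 r * (r.v * r.v * (NN / r.d : ℕ))) = 11 * (c * c)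
  t23 : ∀ i j : ℕ, Mo 23 ((NN / c : ℕ) ^ i * (NN / 60 : ℕ) ^ j + sm (C ++ A) fun r =>
    c23 r.d * (r.d * (om (NN / c) r.v r.d ^ i * om (NN / 60) r.f r.d ^ j)))
  t11 : ∀ i j : ℕ, Mo 11 ((NN / c : ℕ) ^ i * (NN / 60 : ℕ) ^ j + sm (C ++ B) fun r =>
    c11 r * (r.d * (om (NN / c) r.v r.d ^ i * om (NN / 60) r.f r.d ^ j)))

end Cfsg.Agent.MT
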