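import Cfsg.Agent.MT.Def

/-!
# A generic search for one more column
-/

set_option autoImplicit false

namespace Cfsg.Agent.MT

/-- degree, multiplicity and value at `f` -/
def key (r : Row) : ℕ × ℕ × ℤ := (r.d, r.mu, r.f)

/-- evaluate `n` first -/
def fc (n : ℕ) (f : ℕ → Bool) : Bool := Nat.rec (f 0) (fun m _ => f (Nat.succ m)) n

@[simp] theorem fc_eq (n : ℕ) (f : ℕ → Bool) : fc n f = f n := by cases n <;> rfl

/-- evaluate `b` first -/
def fb (b : Bool) (f : Bool → Bool) : Bool := Bool.rec (f false) (f true) b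

@[simp] theorem fb_eq (b : Bool) (f : Bool → Bool) : fb b f = f b := by cases b <;> rfl

/-- code of the value, cost, linear term, quadratic term -/
abbrev Opt := ℕ × ℕ × ℕ × ℕ

/-- evaluate a list of options first -/
def fo (l : List Opt) : (List Opt → Bool) → Bool :=
  List.rec (fun f => f []) (fun x _ ih f => fc x.1 fun a => fc x.2.1 fun b => fc x.2.2.1 fun c =>
    fc x.2.2.2 fun d => ih fun l => f ((a, b, c, d) :: l)) l

@[simp] theorem fo_eq (l : List Opt) (f : List Opt → Bool) : fo l f = f l := by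
  induction l generalizing f with
  | nil => rfl
  | cons x l ih => exact (by simpa [fo] using ih fun l => f (x :: l))

def anyL {α : Type} (l : List α) (F : α → Bool) : Bool :=
  List.rec false (fun x _ ih => Bool.rec ih true (F x)) l

@[simp] theorem anyL_eq {α : Type} (l : List α) (F : α → Bool) : anyL l F = l.any F := by
  induction l with
  | nil => rfl
  | cons x l ih =>
    rw [List.any_cons, ← ih]
    show (Bool.rec (anyL l F) true (F x) : Bool) = _
    cases F x <;> rfl

def an (a b : Bool) : Bool := Bool.rec false b a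

@[simp] theorem an_eq (a b : Bool) : an a b = (a && b) := by cases a <;> rfl

def mnL (l : List Opt) (F : Opt → ℕ) (z : ℕ) : ℕ :=
  List.rec z (fun x _ ih => Bool.rec ih (F x) (Nat.ble (F x) ih)) l

def mxL (l : List Opt) (F : Opt → ℕ) : ℕ :=
  List.rec 0 (fun x _ ih => Bool.rec ih (F x) (Nat.ble ih (F x))) l

theorem mnL_le {l : List Opt} (F : Opt → ℕ) (z : ℕ) {o : Opt} (h : o ∈ l) : mnL l F z ≤ F o := by
  induction l with
  | nil => cases h
  | cons x l ih =>
    show (Bool.rec (mnL l F z) (F x) (Nat.ble (F x) (mnL l F z)) : ℕ) ≤ _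
    rcases e : Nat.ble (F x) (mnL l F z) with _ | _
    · have : ¬ F x ≤ mnL l F z := fun h => by simp [Nat.ble_eq_true_of_le h] at e
      rcases List.mem_cons.1 h with rfl | h
      · show mnL l F z ≤ _; omega
      · exact ih h
    · rcases List.mem_cons.1 h with rfl | h
      · exact le_rfl
      · exact (Nat.le_of_ble_eq_true e).trans (ih h)

theorem le_mxL {l : List Opt} (F : Opt → ℕ) {o : Opt} (h : o ∈ l) : F o ≤ mxL l F := by
  induction l with
  | nil => cases h
  | cons x l ih =>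
    show _ ≤ (Bool.rec (mxL l F) (F x) (Nat.ble (mxL l F) (F x)) : ℕ)
    rcases e : Nat.ble (mxL l F) (F x) with _ | _
    · have : ¬ mxL l F ≤ F x := fun h => by simp [Nat.ble_eq_true_of_le h] at e
      rcases List.mem_cons.1 h with rfl | h
      · show _ ≤ mxL l F; omega
      · exact ih h
    · rcases List.mem_cons.1 h with rfl | h
      · exact le_rfl
      · exact (ih h).trans (Nat.le_of_ble_eq_true e)

/-- `new row` flag, bounds for the sums over the later rows, options -/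
abbrev Ent := Bool × ℕ × ℕ × ℕ × ℕ × List Opt

def dfs (fin : List ℕ → Bool) (E : List Ent) : ℕ → ℕ → ℕ → ℕ → List ℕ → Bool :=
  List.rec (fun _ _ _ _ acc => fin acc)
    (fun e _ ih pv q rs rx acc => anyL e.2.2.2.2.2 fun o =>
      an (Nat.ble (Nat.add o.2.2.1 e.2.1) rs) (an (Nat.ble rs (Nat.add o.2.2.1 e.2.2.1))
      (an (Nat.ble (Nat.add o.2.2.2 e.2.2.2.1) rx) (an (Nat.ble rx (Nat.add o.2.2.2 e.2.2.2.2.1))
      (an (Nat.ble o.2.1 q) (an (Bool.rec (Nat.ble pv o.1) true e.1)
        (fc (Nat.sub q o.2.1) fun q' => fc (Nat.sub rs o.2.2.1) fun rs' =>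
          fc (Nat.sub rx o.2.2.2) fun rx' => ih o.1 q' rs' rx' (o.1 :: acc)))))))) E

theorem dfs_cons (fin : List ℕ → Bool) (e : Ent) (E : List Ent) (pv q rs rx : ℕ) (acc : List ℕ) :
    dfs fin (e :: E) pv q rs rx acc = anyL e.2.2.2.2.2 fun o =>
      an (Nat.ble (Nat.add o.2.2.1 e.2.1) rs) (an (Nat.ble rs (Nat.add o.2.2.1 e.2.2.1))
      (an (Nat.ble (Nat.add o.2.2.2 e.2.2.2.1) rx) (an (Nat.ble rx (Nat.add o.2.2.2 e.2.2.2.2.1))
      (an (Nat.ble o.2.1 q) (an (Bool.rec (Nat.ble pv o.1) true e.1)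
        (fc (Nat.sub q o.2.1) fun q' => fc (Nat.sub rs o.2.2.1) fun rs' =>
          fc (Nat.sub rx o.2.2.2) fun rx' => dfs fin E o.1 q' rs' rx' (o.1 :: acc))))))) := rfl

def prep (l : List (Bool × List Opt)) : (ℕ → ℕ → ℕ → ℕ → List Ent → Bool) → Bool :=
  List.rec (fun k => k 0 0 0 0 []) (fun x _ ih k => fo x.2 fun os => an (!os.isEmpty) (fb x.1 fun b =>
    ih fun a₁ a₂ a₃ a₄ E =>
      fc (Nat.add a₁ (mnL os (fun o => o.2.2.1) 1000000)) fun b₁ =>
      fc (Nat.add a₂ (mxL os fun o => o.2.2.1)) fun b₂ =>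
      fc (Nat.add a₃ (mnL os (fun o => o.2.2.2) 100000000000000000000)) fun b₃ =>
      fc (Nat.add a₄ (mxL os fun o => o.2.2.2)) fun b₄ => k b₁ b₂ b₃ b₄ ((b, a₁, a₂, a₃, a₄, os) :: E))) l

theorem prep_cons (x : Bool × List Opt) (l : List (Bool × List Opt))
    (k : ℕ → ℕ → ℕ → ℕ → List Ent → Bool) : prep (x :: l) k =
    fo x.2 fun os => an (!os.isEmpty) (fb x.1 fun b =>
    prep l fun a₁ a₂ a₃ a₄ E =>
      fc (Nat.add a₁ (mnL os (fun o => o.2.2.1) 1000000)) fun b₁ =>
      fc (Nat.add a₂ (mxL os fun o => o.2.2.1)) fun b₂ =>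
      fc (Nat.add a₃ (mnL os (fun o => o.2.2.2) 100000000000000000000)) fun b₃ =>
      fc (Nat.add a₄ (mxL os fun o => o.2.2.2)) fun b₄ => k b₁ b₂ b₃ b₄ ((b, a₁, a₂, a₃, a₄, os) :: E)) :=
  rfl

/-- the search -/
def run (l : List (Bool × List Opt)) (q rs rx : ℕ) (fin : List ℕ → Bool) : Bool :=
  fc q fun q => fc rs fun rs => fc rx fun rx => prep l fun _ _ _ _ E => dfs fin E 0 q rs rx []

/-- the chosen options -/
def Ch : ℕ → List Opt → List (Bool × List Opt) → Prop
  | _, [], [] => True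
  | pv, o :: P, x :: l => o ∈ x.2 ∧ (x.1 = false → pv ≤ o.1) ∧ Ch o.1 P l
  | _, _, _ => False

theorem prep_sound {fin : List ℕ → Bool} : ∀ (l : List (Bool × List Opt)) (P : List Opt) (pv : ℕ)
    (k : ℕ → ℕ → ℕ → ℕ → List Ent → Bool), Ch pv P l →
    (∀ a₁ a₂ a₃ a₄ E, a₁ ≤ (P.map fun o => o.2.2.1).sum → (P.map fun o => o.2.2.1).sum ≤ a₂ →
      a₃ ≤ (P.map fun o => o.2.2.2).sum → (P.map fun o => o.2.2.2).sum ≤ a₄ →
      (∀ q acc, (P.map fun o => o.2.1).sum ≤ q → fin ((P.map fun o => o.1).reverse ++ acc) = true →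
        dfs fin E pv q (P.map fun o => o.2.2.1).sum (P.map fun o => o.2.2.2).sum acc = true) →
      k a₁ a₂ a₃ a₄ E = true) → prep l k = true
  | [], [], _, k, _, hk => hk 0 0 0 0 [] le_rfl le_rfl le_rfl le_rfl fun _ _ _ h => h
  | [], _ :: _, _, _, h, _ => h.elim
  | _ :: _, [], _, _, h, _ => h.elim
  | x :: l, o :: P, pv, k, ⟨h1, h2, h3⟩, hk => by
    rw [prep_cons, fo_eq, an_eq, fb_eq, Bool.and_eq_true, Bool.not_eq_true', List.isEmpty_eq_false_iff]
    refine ⟨List.ne_nil_of_mem h1, prep_sound (fin := fin) l P o.1 _ h3 fun a₁ a₂ a₃ a₄ E e1 e2 e3 e4 e5 => ?_⟩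
    simp only [fc_eq]
    have f1 := mnL_le (fun o => o.2.2.1) 1000000 h1
    have f2 := le_mxL (fun o => o.2.2.1) h1
    have f3 := mnL_le (fun o => o.2.2.2) 100000000000000000000 h1
    have f4 := le_mxL (fun o => o.2.2.2) h1
    refine hk _ _ _ _ _ ?_ ?_ ?_ ?_ fun q acc g1 g2 => ?_ <;>
      simp only [List.map_cons, List.sum_cons, Nat.add_eq] at *
    · omega
    · omega
    · omega
    · omega
    rw [dfs_cons, anyL_eq, List.any_eq_true]
    refine ⟨o, h1, ?_⟩
    simp only [an_eq, fc_eq, Bool.and_eq_true, Nat.ble_eq, Nat.add_eq, Nat.sub_eq,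
      Nat.add_sub_cancel_left]
    refine ⟨by omega, by omega, by omega, by omega, by omega, ?_, e5 _ _ (by omega) (by simpa using g2)⟩
    rcases e : x.1 with _ | _
    · exact Nat.ble_eq_true_of_le (h2 e)
    · rfl

theorem run_sound {fin : List ℕ → Bool} {l : List (Bool × List Opt)} {P : List Opt} {q rs rx : ℕ}
    (h : Ch 0 P l) (hq : (P.map fun o => o.2.1).sum ≤ q) (hs : (P.map fun o => o.2.2.1).sum = rs)
    (hx : (P.map fun o => o.2.2.2).sum = rx) (hf : fin (P.map fun o => o.1).reverse = true) :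
    run l q rs rx fin = true := by
  simp only [run, fc_eq]
  subst hs hx
  exact prep_sound (fin := fin) l P 0 _ h fun _ _ _ _ _ _ _ _ _ e => e _ _ hq (by simpa using hf)

/-- rows with the same key can be sorted -/
theorem exists_sorted {α κ : Type} [DecidableEq α] (ky : α → κ) (g : α → ℕ) : ∀ (L : List κ) (M : List α),
    (M.map ky).Perm L → ∃ R : List α, R.Perm M ∧ R.map ky = L ∧
      R.IsChain fun a b => ky a = ky b → g a ≤ g b
  | [], M, h => ⟨[], by simpa using h.eq_nil, rfl, List.isChain_nil⟩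
  | k :: L, M, h => by
    classical
    obtain ⟨a, ha, hk⟩ := List.mem_map.1 (h.symm.subset List.mem_cons_self)
    obtain ⟨b, hb, hm⟩ := Finset.exists_min_image (M.toFinset.filter fun r => ky r = k) g
      ⟨a, by simp [ha, hk]⟩
    rw [Finset.mem_filter, List.mem_toFinset] at hb
    have h1 := List.perm_cons_erase hb.1
    have h2 : ((M.erase b).map ky).Perm L := by
      have := (h1.map ky).symm.trans h
      rw [List.map_cons, hb.2] at this
      exact this.cons_inv
    obtain ⟨R, r1, r2, r3⟩ := exists_sorted ky g L _ h2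
    refine ⟨b :: R, (r1.cons b).trans h1.symm, by rw [List.map_cons, hb.2, r2], ?_⟩
    cases R with
    | nil => exact List.isChain_singleton _
    | cons c R =>
      refine List.isChain_cons_cons.2 ⟨fun e => hm c ?_, r3⟩
      simp only [Finset.mem_filter, List.mem_toFinset]
      exact ⟨List.mem_of_mem_erase (r1.subset List.mem_cons_self), e ▸ hb.2⟩

end Cfsg.Agent.MT
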