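import Cfsg.Agent.MT.FactB

/-!
# Bounds from the fixed space of an element of prime order
-/

set_option autoImplicit false
set_option linter.unusedSectionVars false

namespace Cfsg.Agent.MT

open Subgroup Finset Cfsg.Agent.M11 Cfsg.Agent.Char Cfsg.Agent.MK Cfsg.Agent.Zass Cfsg.Agent.Small
open scoped ComplexConjugate

variable {G : Type*} [Group G] [Fintype G] {x t f : G} {p e X : ℕ}

open Polynomial in
/-- a rational value is invariant under coprime powers -/
theorem fc_gal {χ : G → ℂ} (hχ : IsCharacter G χ) {φ : ℤ} (h : χ f = φ) {k : ℕ}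
    (hk : k.Coprime (orderOf f)) : χ (f ^ k) = φ := by
  obtain ⟨n, ρ, rfl⟩ := hχ
  have h0 := (orderOf_pos f).ne'
  obtain ⟨κ, _, z, h1, h2, -⟩ := Small.exists_diag (ρ f) h0
    (by rw [← map_pow, pow_orderOf_eq_one, map_one])
  have h3 : ∀ m : ℕ, ρ.character (f ^ m) = ∑ i, z i ^ m := fun m => by rw [← h2, ← map_pow]; rfl
  have hζ := Complex.isPrimitiveRoot_exp _ h0
  generalize Complex.exp _ = ζ at hζ
  have : NeZero (orderOf f) := ⟨h0⟩
  choose a _ ha using fun i => hζ.eq_pow_of_pow_eq_one (h1 i)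
  have h4 : ∀ y : ℂ, aeval y (∑ i, X ^ a i - C φ : ℤ[X]) = ∑ i, y ^ a i - φ := fun y => by simp
  have h5 := h3 1
  simp only [pow_one, h, ← ha] at h5
  obtain ⟨q, hq⟩ := minpoly.isIntegrallyClosed_dvd (hζ.isIntegral (orderOf_pos f))
    ((h4 ζ).trans (by rw [h5, sub_self]))
  have h6 := hζ.pow_isRoot_minpoly hk
  rw [IsRoot, eval_map, ← algebraMap_int_eq, ← aeval_def] at h6
  have h7 := h4 (ζ ^ k)
  rw [hq, map_mul, h6, zero_mul] at h7
  rw [h3]
  simp only [← ha, ← pow_mul, mul_comm _ k] at h7 ⊢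
  linear_combination -h7

theorem fc_two {V W : Type*} [AddCommGroup V] [Fintype V] [AddCommGroup W] [Fintype W] {χ : G → ℂ}
    (hχ : IsCharacter G χ) (a : V → G) (ha : ∀ u v, a (u + v) = a u * a v) (b : W → G)
    (hb : ∀ u v, b (u + v) = b u * b v) (hab : ∀ w, ∃ σ : V ≃ V, ∀ v, b w * a v = a (σ v) * b w) :
    ∃ m n : ℕ, ∑ w, ∑ v, χ (a v * b w) = Fintype.card V * Fintype.card W * m ∧
      ∑ v, χ (a v) = Fintype.card V * (m + n) := by
  obtain ⟨n, ρ, rfl⟩ := hχ
  have hc : (Fintype.card V : ℂ) ≠ 0 := by exact_mod_cast Fintype.card_ne_zero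
  have hd : (Fintype.card W : ℂ) ≠ 0 := by exact_mod_cast Fintype.card_ne_zero
  have h1 := param_idem ρ a ha (fun _ => 1) (by simp)
  have h2 := param_idem ρ b hb (fun _ => 1) (by simp)
  simp only [one_smul] at h1 h2
  have h3 : Commute ((Fintype.card V : ℂ)⁻¹ • ∑ v, ρ (a v)) ((Fintype.card W : ℂ)⁻¹ • ∑ w, ρ (b w)) := by
    refine (Commute.smul_left (Commute.sum_right _ _ _ fun w _ => ?_) _).smul_right _
    obtain ⟨σ, hσ⟩ := hab w
    change _ = _
    rw [mul_sum, sum_mul]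
    exact (Fintype.sum_equiv σ _ _ fun v => by simp [← map_mul, hσ]).symm
  have h4 := (LinearMap.IsIdempotentElem.isProj_range _ (h1.mul_of_commute h3 h2)).trace
  have h5 := (LinearMap.IsIdempotentElem.isProj_range _ (h1.mul_of_commute
    ((Commute.one_right _).sub_right h3) h2.one_sub)).trace
  obtain ⟨k, hk⟩ : ∃ k : ℕ, _ = (k : ℂ) := ⟨_, h4⟩
  obtain ⟨l, hl⟩ : ∃ k : ℕ, _ = (k : ℂ) := ⟨_, h5⟩
  rw [mul_sub, map_sub, hk, mul_one] at hl
  simp only [smul_mul_assoc, mul_smul_comm, sum_mul, mul_sum, ← map_mul, map_smul,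
    map_sum, smul_eq_mul] at hk hl
  refine ⟨k, l, ?_, ?_⟩
  · rw [← hk]
    simp only [← mul_sum, Representation.character]
    field_simp
  · rw [← hl]
    simp only [← mul_sum, Representation.character]
    field_simp
    ring

theorem fc_sum [Fact p.Prime] (h : LD p e X x) (h2 : p ≠ 2) (he : e + 1 = p) {χ : G → ℂ}
    (hχ : IsCharacter G χ) : ∑ i : ZMod p, χ (x ^ i.val) = deg χ + e * χ x := by
  classical
  have hp : PP p x := ⟨h2, h.ord, h.sq⟩
  have hE : EE p x = univ.erase 0 := eq_of_subset_of_card_le (fun i hi =>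
    mem_erase.2 ⟨fun e => hp.E0 (e ▸ hi), mem_univ _⟩) (by
      rw [card_erase_of_mem (mem_univ _), card_univ, ZMod.card, h.ee h2]; omega)
  rw [← add_sum_erase _ _ (mem_univ 0), ← hE, sum_congr rfl fun i hi =>
    (classFun_of_isConj (char_isClassFunction hχ) (mem_EE.1 hi)).symm, sum_const, h.ee h2,
    ZMod.val_zero, pow_zero, char_deg hχ, nsmul_eq_mul]

theorem fc_conj [Fact p.Prime] (h : LD p e 1 x) (h2 : p ≠ 2) {g : G}
    (hg : g ∈ normalizer (zpowers x : Set G)) (hc : ¬ orderOf g ∣ p) (i : ZMod p) :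
    IsConj g (x ^ i.val * g) := by
  have hp : PP p x := ⟨h2, h.ord, h.sq⟩
  obtain ⟨j, hj⟩ := hp.exists_xp (Local.conj_mem_of_mem_normalizer hg (mem_zpowers x))
  have h1 : 1 - j ≠ 0 := fun e => hc (by
    rw [← sub_eq_zero.1 e, hp.one', mul_inv_eq_iff_eq_mul] at hj
    simpa [h.ccx] using orderOf_dvd_cc hj)
  refine isConj_iff.2 ⟨x ^ (i / (1 - j)).val, ?_⟩
  have h3 := hp.conj_mul hj (-(i / (1 - j)))
  rw [mul_inv_eq_iff_eq_mul] at h3
  rw [← hp.neg, mul_assoc, h3, ← mul_assoc, ← hp.add,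
    show i / (1 - j) + j * -(i / (1 - j)) = i by field_simp; ring]

theorem fc_bnd (h : LD 11 10 1 x) (hf : orderOf f = 5) (hn : f ∈ normalizer (zpowers x : Set G))
    {χ : G → ℂ} (hχ : IsCharacter G χ) {φ a : ℤ} (h1 : χ f = φ) (h2 : χ x = a) :
    11 * φ ≤ deg χ + 10 * a ∧ -(deg χ + 10 * a) ≤ 44 * φ := by
  have := Fact.mk h.pr
  have : Fact (Nat.Prime 5) := ⟨by norm_num⟩
  have hp : PP 11 x := ⟨by norm_num, h.ord, h.sq⟩
  have hf5 : f ^ 5 = 1 := hf ▸ pow_orderOf_eq_one f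
  obtain ⟨m, n, h3, h4⟩ := fc_two hχ (fun i : ZMod 11 => x ^ i.val) hp.add
    (fun i : ZMod 5 => f ^ i.val) (pow_val_add hf5) fun w => by
      obtain ⟨j, hj⟩ := hp.exists_xp
        (Local.conj_mem_of_mem_normalizer (pow_mem hn w.val) (mem_zpowers x))
      have hj0 : j ≠ 0 := fun e => hp.E0 (e ▸ mem_EE.2 (isConj_iff.2 ⟨_, hj⟩))
      exact ⟨Equiv.mulLeft₀ j hj0, fun v => mul_inv_eq_iff_eq_mul.1 (hp.conj_mul hj v)⟩
  have h5 := fc_sum h (by norm_num) rfl hχ
  have h6 : ∀ w ∈ univ.erase (0 : ZMod 5), ∑ v : ZMod 11, χ (x ^ v.val * f ^ w.val) = 11 * φ := by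
    intro w hw
    have e1 : w.val.Coprime (orderOf f) := by
      have e3 := ZMod.val_lt w
      have e4 : w.val ≠ 0 := fun e => (mem_erase.1 hw).1 ((ZMod.val_eq_zero w).1 e)
      rw [hf]
      interval_cases w.val <;> simp_all +decide
    have e2 : ¬ orderOf (f ^ w.val) ∣ 11 := by
      rw [e1.symm.orderOf_pow, hf]
      norm_num
    rw [sum_congr rfl fun v _ => (classFun_of_isConj (char_isClassFunction hχ)
      (fc_conj h (by norm_num) (pow_mem hn _) e2 v)).symm, fc_gal hχ h1 e1, sum_const, card_univ,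
      ZMod.card, nsmul_eq_mul]
    norm_num
  rw [← add_sum_erase _ _ (mem_univ 0), sum_congr rfl h6, sum_const, card_erase_of_mem (mem_univ _),
    card_univ, nsmul_eq_mul] at h3
  simp only [ZMod.val_zero, pow_zero, mul_one, ZMod.card] at h3 h4
  rw [h5, h2] at h3 h4
  have h7 : (deg χ : ℤ) + 10 * a + 4 * (11 * φ) = 11 * 5 * m := by exact_mod_cast h3
  have h8 : (deg χ : ℤ) + 10 * a = 11 * (m + n) := by exact_mod_cast h4
  constructor <;> omega

theorem fc_inv (h : LD 11 10 1 x) (ht : orderOf t = 2) (htx : t * x * t⁻¹ = x⁻¹)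
    {χ : G → ℂ} (hχ : IsCharacter G χ) {v a : ℤ} (h1 : χ t = v) (h2 : χ x = a) :
    11 * |v| ≤ deg χ + 10 * a := by
  have := Fact.mk h.pr
  have hp : PP 11 x := ⟨by norm_num, h.ord, h.sq⟩
  have h4 : ∀ i : ZMod 11, t * x ^ i.val = x ^ (-i).val * t := fun i => by
    rw [hp.neg, ← mul_inv_eq_iff_eq_mul, ← conj_pow, htx, inv_pow]
  have h3 : (2 : ZMod 11) ≠ 0 := fun e => by
    have := (ZMod.natCast_eq_zero_iff 2 11).1 (by exact_mod_cast e)
    omega
  have h5 := fc_sum h (by norm_num) rfl hχ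
  have h6 := dihedral_bound hχ (fun i : ZMod 11 => x ^ i.val) hp.add (Block.mul_self_of_orderOf ht) h4
    (fun i => by
      rw [← char_isClassFunction hχ t (x ^ (i / 2).val), ← hp.neg, mul_assoc, h4, neg_neg,
        ← mul_assoc, ← hp.add, show i / 2 + i / 2 = i by field_simp; ring]) h1
    (m := deg χ + 10 * a) (by rw [h5, h2]; push_cast; ring)
  rw [ZMod.card] at h6
  simpa using h6

end Cfsg.Agent.MT
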