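import Cfsg.Agent.MT.Def
import Cfsg.Agent.MT.FactC
import Cfsg.Agent.BT.Main
import Cfsg.Agent.Zass.Coef

/-!
# Character facts for the table of a group with Sylow normalisers `23:11` and `11:10`
-/

set_option autoImplicit false
set_option linter.unusedSectionVars false

namespace Cfsg.Agent.MT

open Subgroup Finset Cfsg.Agent.M11 Cfsg.Agent.Char Cfsg.Agent.MK Cfsg.Agent.Zass Cfsg.Agent.Small
open scoped ComplexConjugate

/-- `χ x + χ x⁻¹` for `x` of order `23` -/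
def w23 (d : ℕ) : ℤ := if d % 23 = 11 ∨ d % 23 = 12 then c23 d else 2 * c23 d

variable {G : Type*} [Group G] [Fintype G] {x u t f : G}

theorem fa_w (hx : LD 23 11 1 x) : (∀ χ : IrrCharacter G, χ.1 x + χ.1 x⁻¹ = w23 (deg χ.1)) ∧
    (∀ χ : IrrCharacter G, deg χ.1 % 23 ∈ [0, 1, 22, 11, 12]) ∧
    (∀ χ : IrrCharacter G, (23 : ℤ) ∣ w23 (deg χ.1) - 2 * deg χ.1) ∧
    ∑ χ : IrrCharacter G, w23 (deg χ.1) ^ 2 = 46 := by
  obtain ⟨U, h1, h2, -, h4⟩ := hx.uval rfl rfl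
  have h5 : ∀ χ : IrrCharacter G, deg χ.1 % 23 ∈ [0, 1, 22, 11, 12] := fun χ => by
    obtain ⟨w, e1, e2⟩ := BT.brauer hx χ.2
    simp only [List.mem_cons, List.not_mem_nil, or_false]
    obtain rfl | rfl | rfl | rfl | rfl : w = -2 ∨ w = -1 ∨ w = 0 ∨ w = 1 ∨ w = 2 := by omega
    all_goals omega
  have h6 : ∀ χ, U χ = w23 (deg χ.1) := fun χ => by
    have e1 := single_le_sum (f := fun χ => U χ ^ 2) (fun _ _ => sq_nonneg _) (mem_univ χ)
    rw [h4] at e1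
    have e2 : -6 ≤ U χ ∧ U χ ≤ 6 := by push_cast at e1; constructor <;> nlinarith
    have e3 := h2 χ
    have e4 := h5 χ
    simp only [List.mem_cons, List.not_mem_nil, or_false] at e4
    rw [w23, c23]
    split_ifs <;> omega
  simp only [h6] at h1 h2 h4
  exact ⟨h1, h5, h2, h4⟩

theorem fa_nr (hx : LD 23 11 1 x) : ¬ IsConj x x⁻¹ := fun h => by
  obtain ⟨g, hg⟩ := isConj_iff.1 h
  have := Fact.mk hx.pr
  have hp : PP 23 x := ⟨by norm_num, hx.ord, hx.sq⟩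
  have h1 : -1 ∈ EE 23 x := mem_EE.2 (isConj_iff.2 ⟨g, by rw [hg, hp.neg, hp.one']⟩)
  have h3 : (2 : ZMod 23) ≠ 0 := fun e => by
    have := (ZMod.natCast_eq_zero_iff 2 23).1 (by exact_mod_cast e)
    omega
  have h2 : ∑ _j ∈ EE 23 x, (1 : ZMod 2) = 0 := sum_involution (fun j _ => -j) (fun _ _ => rfl)
    (fun j hj _ e => hp.E0 (by
      have : j = 0 := (mul_eq_zero.1 (show 2 * j = 0 by linear_combination -e)).resolve_left h3
      exact this ▸ hj))
    (fun j hj => by simpa using hp.Emul _ h1 _ hj) fun _ _ => neg_neg _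
  rw [sum_const, hx.ee (by norm_num), nsmul_eq_mul, mul_one, ZMod.natCast_eq_zero_iff] at h2
  omega

theorem fa_k (hx : LD 23 11 1 x) (χ : IrrCharacter G) : ∃ k : ℕ, ∃ n : ℤ,
    χ.1 x * conj (χ.1 x) = n ∧ 4 * n = w23 (deg χ.1) ^ 2 + 23 * k ∧
      (χ.1 x - χ.1 x⁻¹) * conj (χ.1 x - χ.1 x⁻¹) = 23 * k := by
  obtain ⟨h1, -, h2, -⟩ := fa_w hx
  have hχ := irr_isCharacter χ.2
  have hψ := char_mul hχ (char_conj' hχ)
  choose m hm using fun θ : IrrCharacter G => inner_char_char hψ (irr_isCharacter θ.2)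
  have h3 := fun g => classFun_apply (char_isClassFunction hψ) g
  simp only [hm, Pi.mul_apply] at h3
  have h4 : χ.1 x * conj (χ.1 x) * ((2 : ℤ) : ℂ) = ((∑ θ, m θ * w23 (deg θ.1) : ℤ) : ℂ) := by
    have e1 := h3 x⁻¹
    rw [char_apply_inv hχ, Complex.conj_conj] at e1
    push_cast
    simp only [← h1, mul_add, sum_add_distrib, ← h3 x, ← e1]
    ring
  have h5 : (deg χ.1 : ℤ) * deg χ.1 = ∑ θ, m θ * (deg θ.1 : ℤ) := by
    have e1 := h3 1
    simp only [fun θ : IrrCharacter G => irr_deg θ.2, map_natCast] at e1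
    exact_mod_cast e1
  obtain ⟨n, hn⟩ := int_of_isIntegral_of_mul (char_isIntegral hψ x) (b := 2) (by norm_num)
    ((mul_comm _ _).trans h4)
  change χ.1 x * conj (χ.1 x) = n at hn
  rw [hn] at h4
  have h6 : n * 2 = ∑ θ, m θ * w23 (deg θ.1) := by exact_mod_cast h4
  have h7 : (23 : ℤ) ∣ n * 2 - 2 * (deg χ.1 * deg χ.1) := by
    rw [h5, h6, mul_sum, ← sum_sub_distrib]
    exact dvd_sum fun θ _ => by
      have := (h2 θ).mul_left (m θ)
      rwa [mul_sub, mul_left_comm] at this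
  have h8 : (χ.1 x - χ.1 x⁻¹) * conj (χ.1 x - χ.1 x⁻¹) = ((4 * n - w23 (deg χ.1) ^ 2 : ℤ) : ℂ) := by
    push_cast
    rw [← h1, ← hn, map_sub, char_apply_inv hχ, Complex.conj_conj]
    ring
  have h9 : 0 ≤ 4 * n - w23 (deg χ.1) ^ 2 := by
    rw [Complex.mul_conj] at h8
    have e1 := Complex.normSq_nonneg (χ.1 x - χ.1 x⁻¹)
    have e2 : Complex.normSq (χ.1 x - χ.1 x⁻¹) = ((4 * n - w23 (deg χ.1) ^ 2 : ℤ) : ℝ) := by
      exact_mod_cast h8
    rw [e2] at e1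
    exact_mod_cast e1
  obtain ⟨a, ha⟩ := h7
  obtain ⟨b, hb⟩ := h2 χ
  have h10 : 4 * n - w23 (deg χ.1) ^ 2 = 23 * (2 * a - b * (4 * deg χ.1 + 23 * b)) := by
    rw [show w23 (deg χ.1) = 2 * deg χ.1 + 23 * b by linarith]
    linear_combination 2 * ha
  generalize 2 * a - b * (4 * deg χ.1 + 23 * b) = k at h10
  obtain ⟨k, rfl⟩ := Int.eq_ofNat_of_zero_le (show 0 ≤ k by omega)
  exact ⟨k, n, hn, by linarith, by rw [h8, h10]; push_cast; ring⟩

theorem xcol (hx : LD 23 11 1 x) :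
    (∀ χ : IrrCharacter G, χ.1 x + χ.1 x⁻¹ = w23 (deg χ.1)) ∧
    (∀ χ : IrrCharacter G, deg χ.1 % 23 ∈ [0, 1, 22, 11, 12]) ∧
    #{χ : IrrCharacter G | deg χ.1 % 23 = 1 ∨ deg χ.1 % 23 = 22} = 11 ∧
    ∃ e₁ e₂ : IrrCharacter G, e₁ ≠ e₂ ∧
      (∀ χ : IrrCharacter G, (deg χ.1 % 23 = 11 ∨ deg χ.1 % 23 = 12) ↔ (χ = e₁ ∨ χ = e₂)) ∧
      ∀ g : G, (orderOf g).Coprime 23 → e₁.1 g = e₂.1 g := by
  classical
  obtain ⟨h1, h2, -, h3⟩ := fa_w hx
  choose k n hn hk hD using fa_k hx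
  have h4 : ∑ χ, n χ = 23 := by
    have := sum_irr_mul_conj x x
    rw [if_pos (IsConj.refl x), ← cc, hx.ccx] at this
    simp only [hn] at this
    exact_mod_cast this
  have h5 : ∑ χ, k χ = 2 := by
    have := congrArg (4 * ·) h4
    simp only [mul_sum, hk, sum_add_distrib, h3] at this
    rw [← mul_sum, ← Nat.cast_sum] at this
    omega
  obtain ⟨e, -, he⟩ := exists_ne_zero_of_sum_ne_zero (h5 ▸ two_ne_zero : ∑ χ, k χ ≠ 0)
  have hi := char_apply_inv (irr_isCharacter e.2)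
  have h6 : (cjI e).1 x - (cjI e).1 x⁻¹ = -(e.1 x - e.1 x⁻¹) := by
    simp only [cjI, cj_apply, ← hi, inv_inv, neg_sub]
  have h7 : k (cjI e) = k e := by
    have := hD (cjI e)
    rw [h6, map_neg, neg_mul_neg, hD] at this
    exact_mod_cast (mul_left_cancel₀ (by norm_num) this).symm
  have h8 : conj (e.1 x - e.1 x⁻¹) ≠ 0 := fun e' => he (by simpa [e'] using hD e)
  have h9 : e ≠ cjI e := fun e' => h8 (by
    rw [← e'] at h6
    rw [show e.1 x - e.1 x⁻¹ = 0 by linear_combination h6 / 2, map_zero])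
  have h10 : ∀ χ, k χ = if χ = e ∨ χ = cjI e then 1 else 0 := fun χ => by
    have e1 := sum_le_sum_of_subset (f := k) (subset_univ {e, cjI e})
    rw [sum_pair h9] at e1
    split_ifs with h
    · rcases h with rfl | rfl <;> omega
    have e2 := sum_le_sum_of_subset (f := k) (subset_univ (insert χ {e, cjI e}))
    rw [sum_insert (by simpa using h), sum_pair h9] at e2
    omega
  have h11 : ∀ χ : IrrCharacter G, (deg χ.1 % 23 = 11 ∨ deg χ.1 % 23 = 12) ↔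
      (χ = e ∨ χ = cjI e) := fun χ => by
    have e1 := hk χ
    have e2 := h2 χ
    simp only [List.mem_cons, List.not_mem_nil, or_false] at e2
    rw [h10, w23, c23] at e1
    by_cases h : χ = e ∨ χ = cjI e
    · simp only [h, if_true, iff_true] at e1 ⊢
      split_ifs at e1 <;> omega
    · simp only [h, if_false, iff_false] at e1 ⊢
      split_ifs at e1 <;> omega
  refine ⟨h1, h2, ?_, e, cjI e, h9, h11, fun g hg => ?_⟩
  · have e1 : ∀ χ : IrrCharacter G, w23 (deg χ.1) ^ 2 = 4 * (if deg χ.1 % 23 = 1 ∨ deg χ.1 % 23 = 22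
        then 1 else 0) + k χ := fun χ => by
      have e2 := h2 χ
      simp only [List.mem_cons, List.not_mem_nil, or_false] at e2
      rw [h10]
      simp only [← h11, w23, c23]
      split_ifs <;> first | rfl | omega
    simp only [e1, sum_add_distrib, ← mul_sum, sum_boole, ← Nat.cast_sum, h5] at h3
    omega
  · have e1 := sum_irr_mul_conj x g
    have e2 := sum_irr_mul_conj x⁻¹ g
    rw [if_neg fun e => by simp [← isConj_orderOf e, hx.ord] at hg] at e1 e2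
    have e3 : ∑ χ : IrrCharacter G, χ.1 g * conj (χ.1 x - χ.1 x⁻¹) = 0 := by
      simp only [map_sub, mul_sub, sum_sub_distrib, e1, e2, sub_self]
    rw [← sum_subset (subset_univ {e, cjI e}) fun χ _ h => ?_, sum_pair h9, h6, map_neg] at e3
    · exact mul_right_cancel₀ h8 (by linear_combination e3)
    have e4 := hD χ
    rw [h10, if_neg (by simpa using h), Complex.mul_conj] at e4
    have e5 : Complex.normSq (χ.1 x - χ.1 x⁻¹) = 0 := by simpa using e4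
    rw [Complex.normSq_eq_zero.1 e5, map_zero, mul_zero]

theorem ucol (hu : LD 11 10 1 u) :
    (∀ χ : IrrCharacter G, χ.1 u = a11 (deg χ.1)) ∧
    (∀ χ : IrrCharacter G, deg χ.1 % 11 ∈ [0, 1, 10]) ∧
    #{χ : IrrCharacter G | deg χ.1 % 11 ≠ 0} = 11 := by
  obtain ⟨U, h1, h2, -, h4⟩ := hu.rval (by norm_num) rfl
  have h5 : ∀ χ : IrrCharacter G, deg χ.1 % 11 ∈ [0, 1, 10] := fun χ => by
    obtain ⟨w, e1, e2⟩ := BT.brauer hu χ.2
    simp only [List.mem_cons, List.not_mem_nil, or_false]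
    obtain rfl | rfl | rfl : w = -1 ∨ w = 0 ∨ w = 1 := by omega
    all_goals omega
  have h6 : ∀ χ, U χ = a11 (deg χ.1) := fun χ => by
    have e1 := single_le_sum (f := fun χ => U χ ^ 2) (fun _ _ => sq_nonneg _) (mem_univ χ)
    rw [h4] at e1
    have e2 : -3 ≤ U χ ∧ U χ ≤ 3 := by push_cast at e1; constructor <;> nlinarith
    have e3 := h2 χ
    have e4 := h5 χ
    simp only [List.mem_cons, List.not_mem_nil, or_false] at e4
    rw [a11]
    split_ifs <;> omega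
  simp only [h6] at h1 h4
  refine ⟨h1, h5, ?_⟩
  have e1 : ∀ χ : IrrCharacter G, a11 (deg χ.1) ^ 2 = if deg χ.1 % 11 ≠ 0 then 1 else 0 := fun χ => by
    have e4 := h5 χ
    simp only [List.mem_cons, List.not_mem_nil, or_false] at e4
    rw [a11]
    split_ifs <;> first | rfl | omega
  simp only [e1, sum_boole] at h4
  exact_mod_cast h4

theorem mom23 (hx : LD 23 11 1 x) {ι : Type} (s : Finset ι) (L : ι → List G)
    (hL : ∀ k ∈ s, ∀ g ∈ L k, (orderOf g).Coprime 23) (Ω : IrrCharacter G → ℤ)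
    (hΩ : ∀ χ : IrrCharacter G, ∑ k ∈ s, χ.1 1 * ((L k).map (MK.om χ.1)).prod = Ω χ) :
    ∃ n : ℕ, ∑ χ : IrrCharacter G, w23 (deg χ.1) * Ω χ = 2 * (23 * Nat.card G * n) := by
  obtain ⟨n, hn⟩ : 23 ∣ ∑ k ∈ s, FN (L k) x := dvd_sum fun k hk => fb_dvd hx (by norm_num) _ (hL k hk)
  refine ⟨n, fb_sum (fa_w hx).1 ?_⟩
  simp only [← hΩ, mul_sum]
  rw [sum_comm]
  simp only [fb_col, ← mul_sum, ← Nat.cast_sum, hn]
  push_cast
  ring

theorem mom11 (hu : LD 11 10 1 u) (L : List G)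
    (hL : ∀ g ∈ L, (orderOf g).Coprime 11) (Ω : IrrCharacter G → ℤ)
    (hΩ : ∀ χ : IrrCharacter G, χ.1 1 * (L.map (MK.om χ.1)).prod = Ω χ) :
    ∃ n : ℕ, ∑ χ : IrrCharacter G, a11 (deg χ.1) * Ω χ = 11 * Nat.card G * n := by
  obtain ⟨n, hn⟩ := fb_dvd hu (by norm_num) L hL
  have h1 := fb_col L u
  simp only [hΩ, (ucol hu).1, map_intCast, hn] at h1
  exact ⟨n, by rw [mul_comm 11, mul_assoc]; exact_mod_cast h1⟩

theorem fa_sq (v : IrrCharacter G → ℤ) (hv : ∀ χ : IrrCharacter G, χ.1 t = v χ) (y : G) :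
    ∑ χ : IrrCharacter G, conj (χ.1 y) * ((v χ * v χ * (Nat.card G / deg χ.1 : ℕ) : ℤ) : ℂ) =
      FN [t, t] y * (cc t * cc t) := by
  refine mul_left_cancel₀ (card_ne_zero' G) ?_
  rw [← mul_assoc, ← fb_col, mul_sum, sum_mul]
  exact sum_congr rfl fun χ _ => by linear_combination -conj (χ.1 y) * fb_sq v hv χ

theorem q23 (hx : LD 23 11 1 x) (ht : orderOf t = 2) (v : IrrCharacter G → ℤ)
    (hv : ∀ χ : IrrCharacter G, χ.1 t = v χ) :
    ∑ χ : IrrCharacter G, w23 (deg χ.1) * (v χ * v χ * (Nat.card G / deg χ.1 : ℕ)) = 0 :=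
  fb_sum (M := 0) (fa_w hx).1 (by rw [fa_sq v hv, fb_zero (fa_nr hx) ht]; simp)

theorem q11 (hu : LD 11 10 1 u) (ht : orderOf t = 2) (htu : t * u * t⁻¹ = u⁻¹)
    (v : IrrCharacter G → ℤ) (hv : ∀ χ : IrrCharacter G, χ.1 t = v χ) :
    ∑ χ : IrrCharacter G, a11 (deg χ.1) * (v χ * v χ * (Nat.card G / deg χ.1 : ℕ)) =
      11 * (cc t * cc t) := by
  have h1 := fa_sq v hv u
  simp only [(ucol hu).1, map_intCast, fb_cnt hu (by norm_num) ht htu] at h1
  exact_mod_cast h1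

theorem bnd_f (hu : LD 11 10 1 u) (hf : orderOf f = 5) (hn : f ∈ normalizer (zpowers u : Set G))
    {χ : G → ℂ} (hχ : IsIrrCharacter G χ) {φ : ℤ} (h : χ f = φ) :
    11 * φ ≤ deg χ + 10 * a11 (deg χ) ∧ -(deg χ + 10 * a11 (deg χ)) ≤ 44 * φ :=
  fc_bnd hu hf hn (irr_isCharacter hχ) h ((ucol hu).1 ⟨χ, hχ⟩)

theorem bnd_t (hu : LD 11 10 1 u) (ht : orderOf t = 2) (htu : t * u * t⁻¹ = u⁻¹)
    {χ : G → ℂ} (hχ : IsIrrCharacter G χ) {v : ℤ} (h : χ t = v) :
    11 * |v| ≤ deg χ + 10 * a11 (deg χ) :=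
  fc_inv hu ht htu (irr_isCharacter hχ) h ((ucol hu).1 ⟨χ, hχ⟩)

end Cfsg.Agent.MT
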