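import Cfsg.Agent.MK.Mom
import Cfsg.Agent.MK.UVal

/-!
# Class sums evaluated at a self-centralising element of prime order
-/

set_option autoImplicit false
set_option linter.unusedSectionVars false

namespace Cfsg.Agent.MT

open Subgroup Finset Cfsg.Agent.M11 Cfsg.Agent.Char Cfsg.Agent.MK Cfsg.Agent.Zass Cfsg.Agent.Small
open scoped ComplexConjugate

variable {G : Type*} [Group G] [Fintype G] {x t : G} {p e X : ℕ}

theorem fb_col (L : List G) (y : G) : ∑ χ : IrrCharacter G,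
    conj (χ.1 y) * (χ.1 1 * (L.map (MK.om χ.1)).prod) = Nat.card G * FN L y := by
  have hcl : IsClassFunction G fun g => (FN L g : ℂ) := fun g u => by simp only [FN_conj]
  have h1 := congrArg conj (classFun_apply hcl y)
  rw [map_natCast, map_sum] at h1
  rw [h1, mul_sum]
  refine sum_congr rfl fun χ _ => ?_
  have hN := card_ne_zero' G
  rw [map_mul, Char.inner_conj_symm, classInner, ← FN_irr χ.2]
  simp only [map_natCast, mul_comm (χ.1 _) (FN L _ : ℂ)]
  field_simp

theorem fb_dvd (h : LD p e X x) (h2 : p ≠ 2) (L : List G) (hL : ∀ g ∈ L, (orderOf g).Coprime p) :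
    p ∣ FN L x := by
  have := Fact.mk h.pr
  have hp : PP p x := ⟨h2, h.ord, h.sq⟩
  refine dvd_FN hp L hL x (mem_centralizer_singleton_iff.2 rfl) fun e => ?_
  have := e.2
  rw [h.ord] at this
  exact h.pr.one_lt.ne' (Nat.coprime_self _ |>.1 this)

open Classical in
theorem fb_two (t y : G) : FN [t, t] y = #{a | IsConj t a ∧ IsConj t (a⁻¹ * y)} := by
  simp only [FN]
  rw [card_filter, sum_filter]
  refine sum_congr rfl fun a _ => ?_
  by_cases h : IsConj t a
  · simp only [h, if_true, true_and, inv_mul_eq_one, sum_ite_eq', mem_filter, mem_univ]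
  · rw [if_neg h, if_neg fun e => h e.1]

theorem fb_inv (ht : orderOf t = 2) {a y : G} (h1 : IsConj t a) (h2 : IsConj t (a⁻¹ * y)) :
    a * y * a⁻¹ = y⁻¹ := by
  have e1 := Block.mul_self_of_orderOf ((isConj_orderOf h1).symm.trans ht)
  have e2 := Block.mul_self_of_orderOf ((isConj_orderOf h2).symm.trans ht)
  have e3 : a⁻¹ = a := inv_eq_of_mul_eq_one_right e1
  rw [e3] at e2 ⊢
  exact eq_inv_of_mul_eq_one_left (by rw [← e2]; group)

theorem fb_sq (v : IrrCharacter G → ℤ) (hv : ∀ χ : IrrCharacter G, χ.1 t = v χ) (χ : IrrCharacter G) :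
    (cc t * cc t : ℂ) * (χ.1 1 * ([t, t].map (MK.om χ.1)).prod) =
      Nat.card G * ((v χ * v χ * (Nat.card G / deg χ.1 : ℕ) : ℤ) : ℂ) := by
  have h4 : (deg χ.1 : ℂ) ≠ 0 := Nat.cast_ne_zero.2 (irr_deg_pos χ.2).ne'
  have h3 : (cc t : ℂ) ≠ 0 := Nat.cast_ne_zero.2 (cc_pos t).ne'
  rw [Int.cast_mul, Int.cast_natCast, Nat.cast_div (deg_dvd_card χ.2) h4]
  simp only [List.map_cons, List.map_nil, List.prod_cons, List.prod_nil, MK.om, hv, irr_deg χ.2]
  push_cast
  field_simp

theorem fb_cen (h : LD p e 1 x) : centralizer {x} = zpowers x :=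
  (eq_of_le_of_card_ge (zpowers_le.2 (mem_centralizer_singleton_iff.2 rfl))
    (by rw [Nat.card_zpowers, h.ord, ← cc, h.ccx, mul_one])).symm

theorem fb_cnt (h : LD p e 1 x) (h2 : p ≠ 2) (ht : orderOf t = 2) (htx : t * x * t⁻¹ = x⁻¹) :
    FN [t, t] x = p := by
  classical
  have := Fact.mk h.pr
  have hp : PP p x := ⟨h2, h.ord, h.sq⟩
  have e1 := Block.mul_self_of_orderOf ht
  have e3 : t⁻¹ = t := inv_eq_of_mul_eq_one_right e1
  have h4 : ∀ i : ZMod p, t * x ^ i.val = x ^ (-i).val * t := fun i => by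
    rw [hp.neg, ← mul_inv_eq_iff_eq_mul, ← conj_pow, htx, inv_pow]
  have h5 : (2 : ZMod p) ≠ 0 := fun e => h2 ((Nat.prime_dvd_prime_iff_eq h.pr Nat.prime_two).1
    ((ZMod.natCast_eq_zero_iff 2 p).1 (by exact_mod_cast e)))
  have h6 : ∀ i : ZMod p, IsConj t (x ^ i.val * t) := fun i => isConj_iff.2 ⟨x ^ (i / 2).val, by
    rw [← hp.neg, mul_assoc, h4, neg_neg, ← mul_assoc, ← hp.add,
      show i / 2 + i / 2 = i by field_simp; ring]⟩
  have h7 : ({a | IsConj t a ∧ IsConj t (a⁻¹ * x)} : Finset G) =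
      univ.image fun i : ZMod p => x ^ i.val * t := by
    ext a
    simp only [mem_filter, mem_univ, true_and, mem_image]
    constructor
    · rintro ⟨a1, a2⟩
      have a3 := fb_inv ht a1 a2
      have a4 : a * t ∈ centralizer ({x} : Set G) := by
        rw [mem_centralizer_singleton_iff, ← mul_inv_eq_iff_eq_mul, mul_inv_rev,
          show a * t * x * (t⁻¹ * a⁻¹) = a * (t * x * t⁻¹) * a⁻¹ by group, htx, ← conj_inv, a3, inv_inv]
      obtain ⟨i, hi⟩ := hp.exists_xp (fb_cen h ▸ a4)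
      exact ⟨i, by rw [← hi, mul_assoc, e1, mul_one]⟩
    · rintro ⟨i, rfl⟩
      refine ⟨h6 i, ?_⟩
      have := h6 (-(-i + 1))
      rwa [← h4, hp.add, hp.one', hp.neg, ← mul_assoc, ← e3, ← mul_inv_rev, e3] at this
  rw [fb_two, h7, card_image_of_injective _ fun i j e => hp.inj (mul_right_cancel e), card_univ,
    ZMod.card]

theorem fb_zero (hx : ¬ IsConj x x⁻¹) (ht : orderOf t = 2) : FN [t, t] x = 0 := by
  classical
  rw [fb_two, card_eq_zero, filter_eq_empty_iff]
  exact fun a _ e => hx (isConj_iff.2 ⟨a, fb_inv ht e.1 e.2⟩)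

/-- from one column to the sum of the two conjugate columns -/
theorem fb_sum {w Ω : IrrCharacter G → ℤ} (hw : ∀ χ : IrrCharacter G, χ.1 x + χ.1 x⁻¹ = w χ) {M : ℤ}
    (h : ∑ χ : IrrCharacter G, conj (χ.1 x) * Ω χ = M) : ∑ χ, w χ * Ω χ = 2 * M := by
  have h1 := congrArg conj h
  simp only [map_sum, map_mul, map_intCast, Complex.conj_conj] at h1
  have h2 : ∑ χ, (w χ : ℂ) * Ω χ = 2 * M := by
    simp only [← hw, fun χ : IrrCharacter G => char_apply_inv (irr_isCharacter χ.2) x, add_mul,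
      sum_add_distrib, h, h1]
    ring
  exact_mod_cast h2

end Cfsg.Agent.MT
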