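import Cfsg.Agent.MT.Ck

/-!
# Kernel checks
-/

set_option autoImplicit false
set_option maxRecDepth 100000
set_option Elab.async false

namespace Cfsg.Agent.MT

theorem cka_0 : ck 0 20 80 33 0 = false := by decide +kernel
theorem cka_1 : ck 0 20 80 33 1 = false := by decide +kernel
theorem cka_2 : ck 0 20 80 33 2 = false := by decide +kernel
theorem cka_3 : ck 0 20 80 33 3 = false := by decide +kernel
theorem cka_4 : ck 0 20 80 33 4 = false := by decide +kernel
theorem cka_5 : ck 0 20 80 33 5 = false := by decide +kernel
theorem cka_6 : ck 0 20 80 33 6 = false := by decide +kernel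
theorem cka_7 : ck 0 20 80 33 7 = false := by decide +kernel
theorem ckb_0 : ck 1 60 240 12 0 = false := by decide +kernel
theorem ckb_1 : ck 1 60 240 12 1 = false := by decide +kernel
theorem ckb_2 : ck 1 60 240 12 2 = false := by decide +kernel
theorem ckb_3 : ck 1 60 240 12 3 = false := by decide +kernel
theorem ckb_4 : ck 1 60 240 12 4 = false := by decide +kernel
theorem ckb_5 : ck 1 60 240 12 5 = false := by decide +kernel
theorem ckb_6 : ck 1 60 240 12 6 = false := by decide +kernel
theorem ckb_7 : ck 1 60 240 12 7 = false := by decide +kernel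
theorem ckb_8 : ck 1 60 240 12 8 = false := by decide +kernel
theorem ckb_9 : ck 1 60 240 12 9 = false := by decide +kernel
theorem ckb_10 : ck 1 60 240 12 10 = false := by decide +kernel
theorem ckb_11 : ck 1 60 240 12 11 = false := by decide +kernel
theorem ckb_12 : ck 1 60 240 12 12 = false := by decide +kernel
theorem ckb_13 : ck 1 60 240 12 13 = false := by decide +kernel
theorem ckb_14 : ck 1 60 240 12 14 = false := by decide +kernel
theorem ckb_15 : ck 1 60 240 12 15 = false := by decide +kernel
theorem ckb_16 : ck 1 60 240 12 16 = false := by decide +kernel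
theorem ckb_17 : ck 1 60 240 12 17 = false := by decide +kernel
theorem ckb_18 : ck 1 60 240 12 18 = false := by decide +kernel
theorem ckb_19 : ck 1 60 240 12 19 = false := by decide +kernel
theorem ckb_20 : ck 1 60 240 12 20 = false := by decide +kernel
theorem ckb_21 : ck 1 60 240 12 21 = false := by decide +kernel

end Cfsg.Agent.MT
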