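import Cfsg.Agent.MT.Ck

/-!
# Kernel checks
-/

set_option autoImplicit false
set_option maxRecDepth 100000
set_option Elab.async false

namespace Cfsg.Agent.MT

theorem ckc_0 : ck 2 60 120 8 0 = false := by decide +kernel
theorem ckc_1 : ck 2 60 120 8 1 = false := by decide +kernel
theorem ckc_2 : ck 2 60 120 8 2 = false := by decide +kernel
theorem ckc_3 : ck 2 60 120 8 3 = false := by decide +kernel
theorem ckc_4 : ck 2 60 120 8 4 = false := by decide +kernel
theorem ckc_5 : ck 2 60 120 8 5 = false := by decide +kernel
theorem ckc_6 : ck 2 60 120 8 6 = false := by decide +kernel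
theorem ckc_7 : ck 2 60 120 8 7 = false := by decide +kernel
theorem ckc_8 : ck 2 60 120 8 8 = false := by decide +kernel
theorem ckc_9 : ck 2 60 120 8 9 = false := by decide +kernel
theorem ckc_10 : ck 2 60 120 8 10 = false := by decide +kernel
theorem ckc_11 : ck 2 60 120 8 11 = false := by decide +kernel
theorem ckc_12 : ck 2 60 120 8 12 = false := by decide +kernel
theorem ckc_13 : ck 2 60 120 8 13 = false := by decide +kernel
theorem ckc_14 : ck 2 60 120 8 14 = false := by decide +kernel
theorem ckc_15 : ck 2 60 120 8 15 = false := by decide +kernel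
theorem ckc_16 : ck 2 60 120 8 16 = false := by decide +kernel

end Cfsg.Agent.MT
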