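import Cfsg.Agent.MT.Ck

/-!
# Kernel checks
-/

set_option autoImplicit false
set_option maxRecDepth 100000
set_option Elab.async false

namespace Cfsg.Agent.MT

theorem ckc_17 : ck 2 60 120 8 17 = false := by decide +kernel
theorem ckc_18 : ck 2 60 120 8 18 = false := by decide +kernel
theorem ckc_19 : ck 2 60 120 8 19 = false := by decide +kernel
theorem ckc_20 : ck 2 60 120 8 20 = false := by decide +kernel
theorem ckc_21 : ck 2 60 120 8 21 = false := by decide +kernel
theorem ckc_22 : ck 2 60 120 8 22 = false := by decide +kernel
theorem ckc_23 : ck 2 60 120 8 23 = false := by decide +kernel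
theorem ckc_24 : ck 2 60 120 8 24 = false := by decide +kernel
theorem ckc_25 : ck 2 60 120 8 25 = false := by decide +kernel
theorem ckc_26 : ck 2 60 120 8 26 = false := by decide +kernel
theorem ckc_27 : ck 2 60 120 8 27 = false := by decide +kernel
theorem ckc_28 : ck 2 60 120 8 28 = false := by decide +kernel
theorem ckc_29 : ck 2 60 120 8 29 = false := by decide +kernel
theorem ckc_30 : ck 2 60 120 8 30 = false := by decide +kernel
theorem ckc_31 : ck 2 60 120 8 31 = false := by decide +kernel
theorem ckc_32 : ck 2 60 120 8 32 = false := by decide +kernel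

end Cfsg.Agent.MT
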