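import Cfsg.Agent.MT.Ck

/-!
# Kernel checks
-/

set_option autoImplicit false
set_option maxRecDepth 100000
set_option Elab.async false

namespace Cfsg.Agent.MT

theorem cke_17 : ck 3 20 40 8 17 = false := by decide +kernel
theorem cke_18 : ck 3 20 40 8 18 = false := by decide +kernel
theorem cke_19 : ck 3 20 40 8 19 = false := by decide +kernel
theorem cke_20 : ck 3 20 40 8 20 = false := by decide +kernel
theorem cke_21 : ck 3 20 40 8 21 = false := by decide +kernel
theorem cke_22 : ck 3 20 40 8 22 = false := by decide +kernel
theorem cke_23 : ck 3 20 40 8 23 = false := by decide +kernel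
theorem cke_24 : ck 3 20 40 8 24 = false := by decide +kernel
theorem cke_25 : ck 3 20 40 8 25 = false := by decide +kernel
theorem cke_26 : ck 3 20 40 8 26 = false := by decide +kernel
theorem cke_27 : ck 3 20 40 8 27 = false := by decide +kernel
theorem cke_28 : ck 3 20 40 8 28 = false := by decide +kernel
theorem cke_29 : ck 3 20 40 8 29 = false := by decide +kernel
theorem cke_30 : ck 3 20 40 8 30 = false := by decide +kernel
theorem cke_31 : ck 3 20 40 8 31 = false := by decide +kernel
theorem cke_32 : ck 3 20 40 8 32 = false := by decide +kernel

end Cfsg.Agent.MT
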