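import Cfsg.Agent.MT.S12A

/-! Kernel computations for the columns of `f`. -/

set_option autoImplicit false
set_option maxRecDepth 100000

namespace Cfsg.Agent.MT.E

theorem kg : ∀ T ∈ (tab.drop 46).take 1, chk11 T = false := by decide +kernel

theorem kf : ∀ T ∈ (tab.drop 45).take 1, chk11 T = false := by decide +kernel


end Cfsg.Agent.MT.E
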