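import Cfsg.Agent.MT.S12A

/-! Kernel computations for the columns of `f`. -/

set_option autoImplicit false
set_option maxRecDepth 100000

namespace Cfsg.Agent.MT.E

theorem k11 : chk 60 7 fin23 11 = false := by decide +kernel

theorem k12 : chk 60 7 fin23 12 = false := by decide +kernel

theorem k264 : chk 60 7 fin23 264 = false := by decide +kernel

theorem k495 : chk 60 7 fin23 495 = false := by decide +kernel

theorem k540 : chk 60 7 fin23 540 = false := by decide +kernel

theorem k770 : chk 60 7 fin23 770 = false := by decide +kernel


end Cfsg.Agent.MT.E
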