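import Cfsg.Agent.MT.S12A

/-! Kernel computations for the columns of `f`. -/

set_option autoImplicit false
set_option maxRecDepth 100000

namespace Cfsg.Agent.MT.E

theorem k1024 : chk 60 7 fin23 1024 = false := by decide +kernel

theorem k1760 : chk 60 7 fin23 1760 = false := by decide +kernel

theorem k2772 : chk 60 7 fin23 2772 = false := by decide +kernel

theorem k3024 : chk 60 7 fin23 3024 = false := by decide +kernel

theorem k6336 : chk 60 7 fin23 6336 = false := by decide +kernel

theorem k9856 : chk 60 7 fin23 9856 = false := by decide +kernel

theorem k11880 : chk 60 7 fin23 11880 = false := by decide +kernel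


end Cfsg.Agent.MT.E
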