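import Cfsg.Agent.MT.S12K1
import Cfsg.Agent.MT.S12K2
import Cfsg.Agent.MT.S12K3
import Cfsg.Agent.MT.S12K4
import Cfsg.Agent.MT.S12K5

/-!
# Degrees and values at `f` on both blocks
-/

set_option autoImplicit false

namespace Cfsg.Agent.MT.E

theorem k23 : ∀ e ∈ E13, chk 60 7 fin23 e = false := by
  simp only [E13, List.forall_mem_cons, k11, k12, k264, k495, k540, k770, k1024, k1760, k2772, k3024,
    k6336, k9856, k11880, List.not_mem_nil, false_imp_iff, implies_true, and_self]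

theorem ktab : ∀ T ∈ tab, chk11 T = false := by
  have h : tab = (tab.drop 0).take 7 ++ ((tab.drop 7).take 1 ++ ((tab.drop 8).take 15 ++
      ((tab.drop 23).take 12 ++ ((tab.drop 35).take 10 ++ ((tab.drop 45).take 1 ++
        (tab.drop 46).take 1))))) := rfl
  rw [h]
  simp only [List.forall_mem_append]
  exact ⟨ka, kb, kc, kd, ke, kf, kg⟩

variable {d₃ d₄ : ℕ} {C A B : List Row}

theorem s2 (h : TF 60 d₃ d₄ C A B) (h5 : ∀ r ∈ C ++ A ++ B, r.d % 5 = 0 → r.f = 0) :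
    ∃ L ∈ L23, ((C ++ A).map key).Perm L := (s12 h h5 k23 ktab).1

theorem s1 (h : TF 60 d₃ d₄ C A B) (h5 : ∀ r ∈ C ++ A ++ B, r.d % 5 = 0 → r.f = 0) :
    ∃ L ∈ L11, ((C ++ B).map key).Perm L := (s12 h h5 k23 ktab).2

end Cfsg.Agent.MT.E
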