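import Cfsg.Agent.MT.E23
import Cfsg.Agent.MT.S12D

/-!
# The searches on both blocks for `|C(f)| = 60`
-/

set_option autoImplicit false

namespace Cfsg.Agent.MT.E

open Cfsg.Agent.MK Cfsg.Agent.Small

def fK : List Key → (List Key → Bool) → Bool
  | [], f => f []
  | x :: l, f => fN x.1 fun d => fN x.2.1 fun a => fI x.2.2 fun v => fK l fun l => f ((d, a, v) :: l)

@[simp] theorem fK_eq (l : List Key) (f : List Key → Bool) : fK l f = f l := by
  induction l generalizing f with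
  | nil => rfl
  | cons x l ih => simp [fK, ih]

def enc (ks : List Key) : ℕ :=
  (srtD (ks.map fun k => k.1 * 1000 + k.2.1 * 100 + (k.2.2 + 50).toNat)).foldl
    (fun n x => n * 16777216 + x) 0

def ct (n : ℕ) (l : List ℕ) : Bool := List.rec false (fun x _ ih => Bool.rec ih true (Nat.beq x n)) l

theorem ct_ok {n : ℕ} {l : List ℕ} (h : ct n l = true) : n ∈ l := by
  induction l with
  | nil => cases h
  | cons x l ih =>
    change (Bool.rec (ct n l) true (Nat.beq x n) : Bool) = true at h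
    rcases e : Nat.beq x n with _ | _
    · rw [e] at h
      exact List.mem_cons_of_mem _ (ih h)
    · exact Nat.eq_of_beq_eq_true e ▸ List.mem_cons_self

def inL (cs : List ℕ) (ks : List Key) : Bool := fc (enc ks) fun n => ct n cs && (dec n).isPerm ks

theorem inL_ok {cs : List ℕ} {ks : List Key} (h : inL cs ks = true) : ∃ n ∈ cs, (dec n).Perm ks := by
  simp only [inL, fc_eq, Bool.and_eq_true, List.isPerm_iff] at h
  exact ⟨_, ct_ok h.1, h.2⟩

def sk (ks : List Key) (F : Key → ℤ) : ℤ := (ks.map F).sum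

theorem sk_perm {ks : List Key} {l : List Row} (h : ks.Perm (l.map key)) (F : Key → ℤ) :
    sk ks F = sm l fun r => F (key r) := by
  rw [sk, (h.map F).sum_eq, List.map_map, sm]
  rfl

def fin23 (ks : List Key) : Bool := fK ks fun ks => fK (ks.filter fun k => k.1 % 11 != 0) fun KC =>
  fN (enc KC) fun n => !tab.any fun T => T.1 == n && ((dec n).isPerm KC &&
    (!(decide ((T.2.1 : ℤ) + sk ks (fun k => k.2.1 * (k.1 * k.1)) ≤ 210397306) &&
      decide ((T.2.2.1 : ℤ) + sk ks (fun k => k.2.1 * (k.2.2 * k.2.2)) ≤ 56)) || inL c23s ks))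

def D17 : List Small.Row := [(15456, 1, 0), (12880, -1, 0), (12420, 1, 0), (8832, -1, 0), (7360, 1, 0),
  (5796, -1, 0), (4830, 1, 0), (3312, 1, 0), (2760, -1, 0), (1288, 1, 0), (1242, -1, 0), (1035, 1, 0),
  (736, -1, 0), (483, -1, 0), (276, 1, 0), (230, -1, 0), (23, 1, 0)]

theorem mem_D17 : ∀ d ∈ dv24, d * d ≤ NN → d % 23 = 0 → (d % 11 = 1 ∨ d % 11 = 10) →
    (d, a11 d, 0) ∈ D17 := by decide +kernel

def mo11 (i : ℕ) (ks : List Key) : Bool :=
  fI ((NN / 60 : ℕ) ^ i + sk ks fun k => k.2.1 * a11 k.1 * (k.1 * om (NN / 60) k.2.2 k.1 ^ i)) fun Z =>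
    Z % (11 * NN : ℕ) == 0 && decide (0 ≤ Z)

def fin11 (T : ℕ × ℕ × ℕ × List ℕ) (KC : List Key) (l : List Small.Row) : Bool :=
  fK (l.map fun x => (x.1, 1, x.2.2)) fun l => fK (KC ++ (5796, 1, 1) :: l) fun ks =>
    mo11 2 ks && (mo11 3 ks && (mo11 4 ks && !(decide ((T.2.1 : ℤ) ≤ sk l fun k => k.1 * k.1) &&
      (decide ((T.2.2.1 : ℤ) ≤ sk l fun k => k.2.2 * k.2.2) && inL T.2.2.2 ks))))

def chk11 (T : ℕ × ℕ × ℕ × List ℕ) : Bool := fK (dec T.1) fun KC =>
  fN (9 - sk KC fun k => k.2.1).toNat fun k =>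
  fN (179661370 - sk KC fun k => k.2.1 * (k.1 * k.1)).toNat fun r =>
  fN (55 - sk KC fun k => k.2.1 * (k.2.2 * k.2.2)).toNat fun q =>
  fI (-5795 + sk KC fun k => k.2.1 * a11 k.1 * k.1) fun s =>
  fI (sk KC fun k => k.2.1 * a11 k.1 * k.2.2) fun sv =>
  gp (fun l _ => fP (fv 60 7) (prj l) fun R => R.isEmpty || vs2 (fin11 T KC) R q sv []) k D17 k r s []

variable {d₃ d₄ : ℕ} {C A B : List Row}

theorem chk11_ok (h : TF 60 d₃ d₄ C A B) (h5 : ∀ r ∈ C ++ A ++ B, r.d % 5 = 0 → r.f = 0)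
    {T : ℕ × ℕ × ℕ × List ℕ} (hT : (dec T.1).Perm (C.map key)) (hk : chk11 T = false) :
    (T.2.1 : ℤ) + 5796 * 5796 ≤ sm B (fun r => r.mu * (r.d * r.d)) ∧
      (T.2.2.1 : ℤ) + 1 ≤ sm B (fun r => r.mu * (r.f * r.f)) ∧
      ∃ n ∈ T.2.2.2, ((C ++ B).map key).Perm (dec n) := by
  classical
  by_contra hn
  rw [← Bool.not_eq_true] at hk
  refine hk ?_
  obtain ⟨t, ht, t1, t2⟩ := h.fB
  obtain ⟨u, hu, u1, u2⟩ := h.fA
  have t3 := (h.hB t ht).1
  have u3 : u.mu = 1 := by have := h.h23 u (List.mem_append_right _ hu); omega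
  have p := List.perm_cons_erase ht
  generalize B.erase t = M at p
  have hM : ∀ x ∈ M, x ∈ B := fun x hx => p.symm.subset (List.mem_cons_of_mem _ hx)
  have m2 : ∀ x ∈ M, x.mu = 1 := fun x hx => (h.hB x (hM x hx)).1
  have s1 := h.sq
  have s2 := le_sm (F := fun r => r.mu * (r.d * r.d)) (fun r => by positivity) hu
  have s3 : (759 * 759 + 506 * 506 : ℤ) ≤ d₃ * d₃ + d₄ * d₄ := by
    rcases h.hd with ⟨rfl, rfl⟩ | ⟨rfl, rfl⟩ <;> norm_num
  have f1 := h.fn
  have f2 := le_sm (F := fun r => r.mu * (r.f * r.f))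
    (fun r => mul_nonneg (by positivity) (mul_self_nonneg _)) hu
  have d1 := h.d11
  have g1 := h.f11
  have n1 := h.mu11
  rw [sm_app, sm_app] at s1 f1
  rw [sm_app] at d1 g1 n1
  rw [sm_perm p, sm_cons] at s1 f1 d1 g1 n1
  rw [sm_perm p, sm_perm p, sm_cons, sm_cons] at hn
  rw [sm_congr (l := M) (F := fun r => r.mu * (r.d * r.d)) (F' := fun r => r.d * r.d)
    fun x hx => by simp [m2 x hx]] at s1 hn
  rw [sm_congr (l := M) (F := fun r => r.mu * (r.f * r.f)) (F' := fun r => r.f * r.f)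
    fun x hx => by simp [m2 x hx]] at f1 hn
  rw [sm_congr (l := M) (F' := fun r => a11 r.d * r.d) fun x hx => by simp [c11, m2 x hx]] at d1
  rw [sm_congr (l := M) (F' := fun r => a11 r.d * r.f) fun x hx => by simp [c11, m2 x hx]] at g1
  rw [sm_congr (l := M) (F' := fun _ => 1) fun x hx => by simp [m2 x hx], sm, sm, List.map_const',
    List.sum_replicate, nsmul_eq_mul, mul_one, ← sm] at n1
  have c2 : a11 5796 = -1 := rfl
  simp only [u1, u2, u3, t1, t2, t3, c11, c2, NN, Nat.cast_ofNat, Nat.cast_one] at s1 s2 f1 f2 d1 g1 n1 hn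
  have s4 := sm_nonneg (l := M) (F := fun r => r.d * r.d) fun r => by positivity
  have s5 := sm_nonneg (l := C) (F := fun r => r.mu * (r.d * r.d)) fun r => by positivity
  have hx : ∀ x ∈ M, (x.d, a11 x.d, 0) ∈ D17 := fun x hx => mem_D17 x.d
    (mem_dv24 (h.dv x (List.mem_append_right _ (hM x hx))).1) (by
      have := le_sm (F := fun r => r.d * r.d) (fun r => by positivity) hx
      rw [NN]; zify; linarith) (h.hB x (hM x hx)).2.1 (h.hB x (hM x hx)).2.2
  have hD1 : ∀ y ∈ D17, y.2.1 ≠ 0 ∧ y.2.1.natAbs * y.2.1.natAbs = 1 := by decide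
  simp only [chk11, fN_eq, fI_eq, fK_eq, sk_perm hT, key]
  refine (gp_of_go _ _ _ _ _ _ 0 _ (by decide) (M12R.go_sound _ D17
    (M.map fun x => (x.d, a11 x.d, 0) : List Small.Row) _ _ _ _ _ [] ?_ ?_ le_rfl ?_ ?_ le_rfl ?_ ?_
    fun l hl => ?_)).1
  · simpa using hx
  · simpa using fun x h => (hD1 _ (hx x h)).1
  · rw [Multiset.map_coe, Multiset.sum_coe, List.map_map, Function.comp_def,
      List.map_congr_left (g := fun _ => 1) fun x h => (hD1 _ (hx x h)).2, List.map_const',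
      List.sum_replicate, smul_eq_mul, mul_one]
    omega
  · rw [Multiset.map_coe, Multiset.sum_coe, List.map_map]
    refine (Int.le_toNat (by linarith)).2 ?_
    rw [sm.eq_1 M] at s1
    simp only [cast_sum_map, Function.comp_def, Nat.cast_mul]
    linarith
  · rw [Multiset.map_coe, Multiset.sum_coe, List.map_map]
    rw [sm.eq_1 M] at d1
    simp only [Function.comp_def]
    linarith
  · simp [Function.comp_def]
  obtain ⟨L, l1, rfl⟩ := exists_list (fun x : Row => (x.d, a11 x.d, (0 : ℤ))) l M (by simpa using hl)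
  have l2 : L.Perm M := Multiset.coe_eq_coe.1 l1
  have f4 := sm_nonneg (l := M) (F := fun r => r.f * r.f) fun r => mul_self_nonneg _
  have hL : ∀ x ∈ L, x ∈ C ++ A ++ B := fun x hx => List.mem_append_right _ (hM x (l2.subset hx))
  simp only [fP_eq, List.map_map, prj, Function.comp_def, Bool.or_eq_true]
  refine .inr (vs2_of_vs _ _ _ _ ?_)
  have k0 : (((L.map fun x : Row => (x.d, a11 x.d, x.f)).reverse ++ []).map
      fun x : Small.Row => ((x.1, 1, x.2.2) : Key)).Perm (M.map key) := by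
    rw [List.append_nil, List.map_reverse, List.map_map]
    refine (List.reverse_perm _).trans ?_
    rw [List.map_congr_left (g := key) fun x hx => by simp [key, m2 x (l2.subset hx)]]
    exact l2.map key
  have := vs_sound (fin := fin11 T (dec T.1)) (vl := fv 60 7) (L.map fun x : Row => (x.d, a11 x.d, x.f))
    (55 - sm C fun r => r.mu * (r.f * r.f)).toNat (sm C fun r => r.mu * a11 r.d * r.f) [] ?_ ?_ ?_ ?_
  · simpa only [List.map_map, Function.comp_def] using this
  · simpa using fun x hx => mem_fv h (by norm_num) (hL x hx) (h5 x (hL x hx))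
  · refine (Int.le_toNat (by linarith)).2 ?_
    rw [← sm_perm l2, sm.eq_1 L] at f1
    simp only [cast_sum_map, List.map_map, Function.comp_def, Nat.cast_mul, Nat.cast_natAbs, Int.cast_abs,
      Int.cast_id, abs_mul_abs_self]
    linarith
  · rw [← sm_perm l2, sm.eq_1 L] at g1
    simp only [List.map_map, Function.comp_def]
    linarith
  generalize (L.map fun x : Row => (x.d, a11 x.d, x.f)).reverse ++ [] = Z at k0
  have k1 : (dec T.1 ++ (5796, 1, 1) :: Z.map fun x : Small.Row => ((x.1, 1, x.2.2) : Key)).Perm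
      ((C ++ B).map key) := by
    rw [List.map_append]
    refine hT.append (List.Perm.trans ?_ (p.map key).symm)
    rw [List.map_cons, key, t1, t2, t3]
    exact k0.cons _
  have k2 : ∀ i, mo11 i (dec T.1 ++ (5796, 1, 1) :: Z.map fun x : Small.Row => ((x.1, 1, x.2.2) : Key)) =
      true := fun i => by
    have h1 := h.m11 i
    rw [mo11, fI_eq, sk_perm k1, Bool.and_eq_true, beq_iff_eq, decide_eq_true_eq]
    exact ⟨Int.emod_eq_zero_of_dvd h1.2, h1.1⟩
  simp only [fin11, fK_eq, k2, Bool.true_and, sk_perm k0, key, Bool.not_eq_true', ← Bool.not_eq_true,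
    Bool.and_eq_true, decide_eq_true_eq]
  rintro ⟨e1, e2, e3⟩
  obtain ⟨n, e4, e5⟩ := inL_ok e3
  exact hn ⟨by linarith, by linarith, n, e4, k1.symm.trans e5.symm⟩

theorem s12 (h : TF 60 d₃ d₄ C A B) (h5 : ∀ r ∈ C ++ A ++ B, r.d % 5 = 0 → r.f = 0)
    (k23 : ∀ e ∈ E13, chk 60 7 fin23 e = false) (k11 : ∀ T ∈ tab, chk11 T = false) :
    (∃ L ∈ L23, ((C ++ A).map key).Perm L) ∧ ∃ L ∈ L11, ((C ++ B).map key).Perm L := by
  obtain ⟨ks, k1, k2⟩ : ∃ ks : List Key, ks.Perm ((C ++ A).map key) ∧ ¬ fin23 ks = true := by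
    by_contra hn
    obtain ⟨e, he, h1⟩ := chk_ok h (b := 7) (by norm_num) h5 (fin := fin23) fun ks hk =>
      not_not.1 fun e => hn ⟨ks, hk, e⟩
    rw [k23 e he] at h1
    cases h1
  simp only [fin23, fK_eq, fN_eq, Bool.not_eq_true', Bool.not_eq_false, List.any_eq_true,
    Bool.and_eq_true, beq_iff_eq, List.isPerm_iff, Bool.or_eq_true, ← Bool.not_eq_true,
    decide_eq_true_eq, sk_perm k1, key, not_not] at k2
  obtain ⟨T, hT, e1, e2, e3⟩ := k2
  have k3 : (ks.filter fun k => k.1 % 11 != 0).Perm (C.map key) := by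
    refine (k1.filter _).trans ?_
    rw [List.map_append, List.filter_append, List.filter_eq_self.2, List.filter_eq_nil_iff.2,
      List.append_nil]
    · simpa [key] using h.hA
    · simpa [key] using fun r hr => by have := h.hC r hr; omega
  obtain ⟨b1, b2, n, b3, b4⟩ := chk11_ok h h5 (T := T) (e1 ▸ e2.trans k3) (k11 T hT)
  refine ⟨?_, dec n, List.mem_map_of_mem (List.mem_flatMap.2 ⟨T, hT, b3⟩), b4⟩
  have s1 := h.sq
  have s3 : (759 * 759 + 506 * 506 : ℤ) ≤ d₃ * d₃ + d₄ * d₄ := by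
    rcases h.hd with ⟨rfl, rfl⟩ | ⟨rfl, rfl⟩ <;> norm_num
  have f1 := h.fn
  rw [sm_app] at s1 f1
  simp only [NN, Nat.cast_ofNat] at s1 f1
  obtain ⟨m, c1, c2⟩ := inL_ok (e3.resolve_left fun e => e ⟨by linarith, by linarith⟩)
  exact ⟨dec m, List.mem_map_of_mem c1, k1.symm.trans c2.symm⟩

end Cfsg.Agent.MT.E
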