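import Cfsg.Agent.MT.S192D

/-!
# The search for `|C(f)| = 960`, part 5
-/

set_option autoImplicit false

namespace Cfsg.Agent.MT.S192

theorem chk_7 : chk 13 7 = false := by decide +kernel

theorem chk_9 : chk 13 9 = false := by decide +kernel

theorem chk_12 : chk 13 12 = false := by decide +kernel

end Cfsg.Agent.MT.S192
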