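import Cfsg.Agent.MT.S192P
import Cfsg.Agent.MT.S192K0
import Cfsg.Agent.MT.S192K1
import Cfsg.Agent.MT.S192K2
import Cfsg.Agent.MT.S192K3
import Cfsg.Agent.MT.S192K4
import Cfsg.Agent.MT.S192K5
import Cfsg.Agent.MT.S192K6

/-!
# The centralizer of the element of order `5` does not have order `960`
-/

set_option autoImplicit false

namespace Cfsg.Agent.MT

open S192

theorem TF.not960' {d₃ d₄ : ℕ} {C A B : List Row} (h : TF 960 d₃ d₄ C A B)
    (h5 : ∀ r ∈ C ++ A ++ B, r.d % 5 = 0 → r.f = 0) : False := by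
  obtain ⟨X, Y, h⟩ := ab_of h h5
  have e := h.chk 13
  have l : (X.map fun x => x.1).sum / 11 % 13 < 13 := Nat.mod_lt _ (by norm_num)
  generalize (X.map fun x => x.1).sum / 11 % 13 = i at e l
  interval_cases i
  · exact Bool.false_ne_true (chk_0.symm.trans e)
  · exact Bool.false_ne_true (chk_1.symm.trans e)
  · exact Bool.false_ne_true (chk_2.symm.trans e)
  · exact Bool.false_ne_true (chk_3.symm.trans e)
  · exact Bool.false_ne_true (chk_4.symm.trans e)
  · exact Bool.false_ne_true (chk_5.symm.trans e)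
  · exact Bool.false_ne_true (chk_6.symm.trans e)
  · exact Bool.false_ne_true (chk_7.symm.trans e)
  · exact Bool.false_ne_true (chk_8.symm.trans e)
  · exact Bool.false_ne_true (chk_9.symm.trans e)
  · exact Bool.false_ne_true (chk_10.symm.trans e)
  · exact Bool.false_ne_true (chk_11.symm.trans e)
  · exact Bool.false_ne_true (chk_12.symm.trans e)

theorem TF.not960 {d₃ d₄ : ℕ} {C A B : List Row} (h : TF 960 d₃ d₄ C A B)
    (h5 : ∀ r ∈ C ++ A ++ B, r.d % 5 = 0 → r.f = 0 ∧ r.m = 0) : False :=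
  h.not960' fun r hr e => (h5 r hr e).1

end Cfsg.Agent.MT
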