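import Cfsg.Agent.MT.S192D

/-!
# Soundness of the search for `|C(f)| = 960`
-/

set_option autoImplicit false

namespace Cfsg.Agent.MT.S192

instance (c : ℕ → ℤ) (E : List En) (T : List (ℕ × List Opt)) (M : ℕ) (x : ℕ × ℤ) :
    Decidable (Gd c E T M x) := by unfold Gd; infer_instance

/-- admissible values -/
def okf (d : ℕ) (f : ℤ) : Prop :=
  (d % 5 = 0 → f = 0) ∧ ((d : ℤ) - f) % 5 = 0 ∧ (255024 * f) % d = 0 ∧ 11 * f ≤ d + 10 * a11 d ∧
    -(d + 10 * a11 d) ≤ 44 * f ∧ mu d * (f * f) ≤ 955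

instance (d : ℕ) (f : ℤ) : Decidable (okf d f) := by unfold okf; infer_instance

def tab (P : ℕ → Bool) (c : ℕ → ℤ) (E : List En) (T : List (ℕ × List Opt)) (M : ℕ) : Bool :=
  (List.range 15647).all fun d => !(244823040 % d == 0 && (Nat.ble 2 d && P d)) ||
    (List.range 63).all fun j : ℕ => !decide (okf d ((j : ℤ) - 31)) || decide (Gd c E T M (d, (j : ℤ) - 31))

theorem one_le_mu (d : ℕ) : 1 ≤ mu d := by unfold mu; split_ifs <;> omega

theorem abs_lt_abs_of_mul_self_lt {f : ℤ} (h : f * f < 31 * 31) : |f| < 31 :=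
  abs_lt_of_sq_lt_sq (by rwa [sq, sq]) (by norm_num)

theorem gd_of {P : ℕ → Bool} {c : ℕ → ℤ} {E : List En} {T : List (ℕ × List Opt)} {M : ℕ}
    (h : tab P c E T M = true) {d : ℕ} {f : ℤ} (h1 : d ∣ NN) (h2 : 1 < d)
    (h3 : (mu d : ℤ) * (d * d) ≤ NN) (h4 : P d = true) (h5 : okf d f) : Gd c E T M (d, f) := by
  have m1 : (1 : ℤ) ≤ mu d := by exact_mod_cast one_le_mu d
  have e1 : d < 15647 := by
    by_contra e
    have e' : (15647 : ℤ) ≤ d := by exact_mod_cast not_lt.1 e
    have e'' := mul_le_mul e' e' (by omega) (by omega)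
    have := le_mul_of_one_le_left (mul_self_nonneg (d : ℤ)) m1
    have : ((NN : ℕ) : ℤ) = 244823040 := rfl
    omega
  have e2 : f * f < 31 * 31 := by
    have := le_mul_of_one_le_left (mul_self_nonneg f) m1
    have := h5.2.2.2.2.2
    omega
  obtain ⟨e3, e4⟩ := abs_lt.1 (abs_lt_abs_of_mul_self_lt e2)
  simp only [tab, List.all_eq_true, List.mem_range, Bool.or_eq_true, Bool.not_eq_true',
    decide_eq_true_eq, decide_eq_false_iff_not] at h
  rcases h d e1 with h | h
  · simp [Nat.mod_eq_zero_of_dvd h1, h4, Nat.ble_eq_true_of_le h2] at h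
  · have := h (f + 31).toNat (by omega)
    rw [show (((f + 31).toNat : ℕ) : ℤ) - 31 = f by omega] at this
    exact this.resolve_left (not_not.2 h5)

theorem tabA : tab (fun d => decide ((d % 23 = 1 ∨ d % 23 = 22 ∨ d % 23 = 11 ∨ d % 23 = 12) ∧
    (d % 11 = 0 ∨ d % 11 = 1 ∨ d % 11 = 10))) c23 EA TA 5630929920 = true := by decide +kernel

theorem tabB : tab (fun d => decide (d % 23 = 0 ∧ (d % 11 = 1 ∨ d % 11 = 10))) e11 EB TB
    2693053440 = true := by decide +kernel

theorem sd_eq {acc : List ℕ} {X : List (ℕ × ℤ)} (h : acc.Perm (X.map fun x => x.1)) (F : ℕ → ℤ) :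
    sd acc F = sp X fun d _ => F d := by
  rw [sd, (h.map F).sum_eq, List.map_map]; rfl

theorem sp_nonneg (X : List (ℕ × ℤ)) {F : ℕ → ℤ → ℤ} (h : ∀ d f, 0 ≤ F d f) : 0 ≤ sp X F :=
  List.sum_nonneg fun y hy => by
    obtain ⟨x, -, rfl⟩ := List.mem_map.1 hy
    exact h _ _

/-- the data in terms of pairs -/
structure AB (X Y : List (ℕ × ℤ)) : Prop where
  hX : ∀ x ∈ X, Gd c23 EA TA 5630929920 x
  hY : ∀ x ∈ Y, Gd e11 EB TB 2693053440 x
  len : X.length = 10
  mu23 : sp X (fun d _ => mu d) = 11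
  mu11 : sp X (fun d _ => e11 d * a11 d) + Y.length = 9
  muY : sp Y (fun d _ => mu d) = Y.length
  d23 : 5545 + sp X (fun d _ => c23 d * d) = 0
  d11 : sp X (fun d _ => e11 d * d) - 5795 + sp Y (fun d _ => e11 d * d) = 0
  sq : sp X (fun d _ => mu d * (d * d)) + sp Y (fun d _ => mu d * (d * d)) ≤ 179661370
  fn : sp X (fun d f => mu d * (f * f)) + sp Y (fun d f => mu d * (f * f)) ≤ 955
  f23 : sp X (fun d f => c23 d * f) = 0
  f11 : sp X (fun d f => e11 d * f) + sp Y (fun d f => e11 d * f) = 0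
  m23 : ∀ i j, Mo 23 (T23 i j ((5544, -1) :: X))
  m11 : ∀ i, Mo 11 (T11 i (X ++ (5796, 1) :: Y))
  cs : (sp (X ++ Y) fun d f => mu d * (d * f)) ^ 2 ≤
    (179661370 - sp X (fun d _ => mu d * (d * d)) - sp Y (fun d _ => mu d * (d * d))) *
      (955 - sp (X ++ Y) fun d f => mu d * (f * f))

theorem dvd_emod_add {M : ℕ} (hM : 0 < M) {a b : ℤ} (h : (M : ℤ) ∣ a + b) :
    (M : ℤ) ∣ ((a % M).toNat : ℕ) + b := by
  rw [Int.toNat_of_nonneg (Int.emod_nonneg _ (by omega))]
  have := h.sub (Int.dvd_self_sub_emod (x := a) (m := M))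
  rwa [show a + b - (a - a % M) = a % M + b by ring] at this

theorem AB.chk {X Y : List (ℕ × ℤ)} (h : AB X Y) (n : ℕ) :
    chk n ((X.map fun x => x.1).sum / 11 % n) = true := by
  have n1 := sp_nonneg X (F := fun d _ => mu d * (d * d)) fun _ _ => by positivity
  have n2 := sp_nonneg Y (F := fun d _ => mu d * (d * d)) fun _ _ => by positivity
  have n3 := sp_nonneg X (F := fun d f => mu d * (f * f)) fun _ f =>
    mul_nonneg (by positivity) (mul_self_nonneg f)
  have n4 := sp_nonneg Y (F := fun d f => mu d * (f * f)) fun _ f =>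
    mul_nonneg (by positivity) (mul_self_nonneg f)
  have q1 := h.sq
  have q2 := h.fn
  refine side_sound (X := X) (by norm_num) (by decide +kernel) h.hX h.len h.mu23 (by omega) h.d23
    (by omega) (by rw [h.f23]; rfl) ?_ (fun acc ha => by rw [ha.sum_eq]; simp) fun acc r X' ha hr hX' => ?_
  · refine dvd_emod_add (M := 5630929920) (by norm_num) ?_
    have := (h.m23 2 0).2
    simp only [T23, sp_cons, sp_nil, pow_zero, mul_one, add_zero] at this ⊢
    rw [add_assoc]
    exact this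
  have l1 : ∀ F : ℕ → ℤ → ℤ, (∀ d, F d 0 = 0) → sp X' F = sp X F := fun F hF => by
    rw [sp_perm hX', sp_live (fun x hx => (h.hX x hx).2.2.1) hF]
  have l2 : ∀ i j, mo 23 (T23 (i + 1) j ((5544, -1) :: X')) = true := fun i j => by
    have := h.m23 (i + 1) j
    rw [T23, sp_cons, ← l1 _ fun d => by simp [om]] at this
    refine mo_of ?_
    rw [T23, sp_cons]
    exact this
  simp only [finA, Bool.and_eq_true]
  refine ⟨l2 2 0, l2 3 0, l2 0 1, l2 1 1, l2 0 2, ?_⟩
  have k1 : (9 - sd acc fun d => e11 d * a11 d).toNat = Y.length := by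
    rw [sd_eq ha]; have := h.mu11; omega
  rw [k1, sd_eq ha, l1 _ fun d => by simp, l1 _ fun d => by simp]
  refine side_sound (X := Y) (by norm_num) (by decide +kernel) h.hY rfl h.muY (by omega) h.d11
    (by omega) h.f11 ?_ (fun _ _ => rfl) fun acc' r' Y' _ hr' hY' => ?_
  · refine dvd_emod_add (M := 2693053440) (by norm_num) ?_
    have := (h.m11 2).2
    simp only [T11, sp_cons, sp_append] at this ⊢
    rw [l1 _ fun d => by simp [om], add_assoc, add_comm (e11 _ * _), add_assoc]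
    exact this
  have l3 : ∀ F : ℕ → ℤ → ℤ, (∀ d, F d 0 = 0) → sp Y' F = sp Y F := fun F hF => by
    rw [sp_perm hY', sp_live (fun x hx => (h.hY x hx).2.2.1) hF]
  have l4 : ∀ i, mo 11 (T11 (i + 1) (X' ++ (5796, 1) :: Y')) = true := fun i => by
    have := h.m11 (i + 1)
    rw [T11, sp_append, sp_cons, ← l1 _ fun d => by simp [om], ← l3 _ fun d => by simp [om]] at this
    refine mo_of ?_
    rw [T11, sp_append, sp_cons]
    exact this
  simp only [finB, Bool.and_eq_true, decide_eq_true_eq]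
  refine ⟨?_, l4 2, l4 3⟩
  have := h.cs
  simp only [sp_append] at this ⊢
  rw [l1 _ fun d => by simp, l1 _ fun d => by simp, l3 _ fun d => by simp, l3 _ fun d => by simp,
    hr', hr]
  exact this

theorem sm_sp {l : List Row} {r : Row} (hr : r ∈ l) {F : Row → ℤ} (G : ℕ → ℤ → ℤ)
    (h : ∀ s ∈ l, F s = G s.d s.f) :
    sm l F = G r.d r.f + sp ((l.erase r).map fun s => (s.d, s.f)) G := by
  rw [sm, List.map_congr_left h, ((List.perm_cons_erase hr).map _).sum_eq, List.map_cons,
    List.sum_cons, sp, List.map_map]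
  rfl

theorem sm_app (l l' : List Row) (F : Row → ℤ) : sm (l ++ l') F = sm l F + sm l' F := by simp [sm]

theorem sm_congr {l : List Row} {F G : Row → ℤ} (h : ∀ r ∈ l, F r = G r) : sm l F = sm l G := by
  rw [sm, List.map_congr_left h, sm]

theorem sm_single {l : List Row} {F : Row → ℤ} (h : ∀ r, 0 ≤ F r) {r : Row} (hr : r ∈ l) :
    F r ≤ sm l F :=
  List.single_le_sum (fun y hy => by obtain ⟨x, -, rfl⟩ := List.mem_map.1 hy; exact h x) _
    (List.mem_map_of_mem hr)

theorem ab_of {d₃ d₄ : ℕ} {C A B : List Row} (h : TF 960 d₃ d₄ C A B)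
    (h5 : ∀ r ∈ C ++ A ++ B, r.d % 5 = 0 → r.f = 0) : ∃ X Y, AB X Y := by
  obtain ⟨a, a1, a2, a3⟩ := h.fA
  obtain ⟨b, b1, b2, b3⟩ := h.fB
  have a4 : a ∈ C ++ A := List.mem_append_right _ a1
  have hmu : ∀ r ∈ C ++ A ++ B, r.mu = mu r.d := fun r hr => by
    unfold mu
    rcases List.mem_append.1 hr with e | e
    · have := h.h23 r e
      split_ifs <;> omega
    · have := h.hB r e
      split_ifs <;> omega
  have mA : ∀ r ∈ C ++ A, r.mu = mu r.d := fun r hr => hmu r (List.mem_append_left _ hr)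
  have mB : ∀ r ∈ B, r.mu = mu r.d := fun r hr => hmu r (List.mem_append_right _ hr)
  have sA : ∀ (F : Row → ℤ) (G : ℕ → ℤ → ℤ), (∀ s ∈ C ++ A, F s = G s.d s.f) → sm (C ++ A) F =
      G 5544 (-1) + sp (((C ++ A).erase a).map fun s => (s.d, s.f)) G := fun F G hF => by
    rw [sm_sp a4 G hF, a2, a3]
  have sB : ∀ (F : Row → ℤ) (G : ℕ → ℤ → ℤ), (∀ s ∈ B, F s = G s.d s.f) → sm B F =
      G 5796 1 + sp ((B.erase b).map fun s => (s.d, s.f)) G := fun F G hF => by
    rw [sm_sp b1 G hF, b2, b3]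
  have xA : ∀ x ∈ ((C ++ A).erase a).map fun s => (s.d, s.f), ∃ r ∈ C ++ A, x = (r.d, r.f) :=
    fun x hx => by
      obtain ⟨r, hr, rfl⟩ := List.mem_map.1 hx
      exact ⟨r, List.mem_of_mem_erase hr, rfl⟩
  have xB : ∀ x ∈ (B.erase b).map fun s => (s.d, s.f), ∃ r ∈ B, x = (r.d, r.f) :=
    fun x hx => by
      obtain ⟨r, hr, rfl⟩ := List.mem_map.1 hx
      exact ⟨r, List.mem_of_mem_erase hr, rfl⟩
  have lA : (((C ++ A).erase a).map fun s => (s.d, s.f)).length = 10 := by
    rw [List.length_map, List.length_erase_of_mem a4, h.len]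
  generalize ((C ++ A).erase a).map (fun s => (s.d, s.f)) = X at sA xA lA
  generalize (B.erase b).map (fun s => (s.d, s.f)) = Y at sB xB
  have zA : ∀ r ∈ A, e11 r.d = 0 := fun r hr => by simp [e11, a11, h.hA r hr]
  have sC : ∀ (F : Row → ℤ) (G : ℕ → ℤ → ℤ), (∀ s ∈ C ++ B, F s = e11 s.d * G s.d s.f) →
      sm (C ++ B) F = sp X (fun d f => e11 d * G d f) - G 5796 1 +
        sp Y fun d f => e11 d * G d f := fun F G hF => by
    have e1 := sA (fun s => e11 s.d * G s.d s.f) (fun d f => e11 d * G d f) fun _ _ => rfl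
    have e2 : sm A (fun s => e11 s.d * G s.d s.f) = 0 := by
      rw [sm_congr (G := fun _ => 0) fun r hr => by rw [zA r hr, zero_mul]]
      simp [sm]
    rw [sm_app, e2, show e11 5544 = 0 by decide] at e1
    rw [sm_app, sB F (fun d f => e11 d * G d f) fun s hs => hF s (List.mem_append_right _ hs),
      sm_congr fun s hs => hF s (List.mem_append_left _ hs), show e11 5796 = -1 by decide]
    linear_combination e1
  have cC : ∀ s ∈ C ++ B, c11 s = e11 s.d := fun s hs => by
    rw [c11, e11, hmu s (by rcases List.mem_append.1 hs with e | e <;> simp [e])]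
  have sT : ∀ G : ℕ → ℤ → ℤ, sm (C ++ A ++ B) (fun r => r.mu * G r.d r.f) = G 5544 (-1) + G 5796 1 +
      (sp X (fun d f => mu d * G d f) + sp Y fun d f => mu d * G d f) := fun G => by
    rw [sm_app, sA _ (fun d f => mu d * G d f) fun s hs => by rw [mA s hs],
      sB _ (fun d f => mu d * G d f) fun s hs => by rw [mB s hs], show mu 5544 = 1 by decide,
      show mu 5796 = 1 by decide]
    push_cast
    ring
  have hN : ((NN : ℕ) : ℤ) = 244823040 := rfl
  have q1 := h.sq
  have q2 := h.fn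
  have q3 := h.cs
  have ok : ∀ r ∈ C ++ A ++ B, (mu r.d : ℤ) * (r.d * r.d) ≤ NN ∧ (r.mu * (r.f * r.f) ≤ 955 → okf r.d r.f) :=
    fun r hr => by
      obtain ⟨e1, e2, e3, e4⟩ := h.f5 r hr
      have := sm_single (F := fun r => r.mu * (r.d * r.d)) (fun _ => by positivity) hr
      rw [← hmu r hr]
      refine ⟨by nlinarith [mul_self_nonneg (d₃ : ℤ), mul_self_nonneg (d₄ : ℤ)], fun e =>
        ⟨h5 r hr, Int.emod_eq_zero_of_dvd e1, Int.emod_eq_zero_of_dvd e2, e3, e4, ?_⟩⟩
      rwa [← hmu r hr]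
  rw [sT fun d _ => d * d] at q1 q3
  rw [sT fun _ f => f * f] at q2 q3
  rw [sT fun d f => d * f] at q3
  have n1 := sp_nonneg X (F := fun d f => mu d * (f * f)) fun _ f =>
    mul_nonneg (by positivity) (mul_self_nonneg f)
  have n2 := sp_nonneg Y (F := fun d f => mu d * (f * f)) fun _ f =>
    mul_nonneg (by positivity) (mul_self_nonneg f)
  have s1 : ∀ {Z : List (ℕ × ℤ)} {x : ℕ × ℤ}, x ∈ Z →
      mu x.1 * (x.2 * x.2) ≤ sp Z fun d f => mu d * (f * f) := fun hx =>
    List.single_le_sum (fun y hy => by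
      obtain ⟨x, -, rfl⟩ := List.mem_map.1 hy
      exact mul_nonneg (by positivity) (mul_self_nonneg _)) _ (List.mem_map_of_mem hx)
  have mY : sp Y (fun d _ => mu d) = Y.length := by
    have := sp_cast Y (fun _ => 1) (fun d _ => mu d) fun x hx => by
      obtain ⟨r, hr, rfl⟩ := xB x hx
      rw [← mB r hr, (h.hB r hr).1]
    simpa using this.symm
  have hd := h.hd
  refine ⟨X, Y, fun x hx => ?_, fun x hx => ?_, lA, ?_, ?_, mY, ?_, ?_, ?_, ?_, ?_, ?_,
    fun i j => ?_, fun i => ?_, ?_⟩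
  · have s := s1 hx
    obtain ⟨r, hr, rfl⟩ := xA x hx
    have hr' := List.mem_append_left B hr
    refine gd_of tabA (h.dv r hr').1 (h.dv r hr').2 (ok r hr').1 (decide_eq_true ⟨?_, ?_⟩)
      ((ok r hr').2 (by rw [mA r hr]; dsimp only at s; omega))
    · have := h.h23 r hr; omega
    · rcases List.mem_append.1 hr with e | e
      · exact .inr (h.hC r e)
      · exact .inl (h.hA r e)
  · have s := s1 hx
    obtain ⟨r, hr, rfl⟩ := xB x hx
    have hr' := List.mem_append_right (C ++ A) hr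
    exact gd_of tabB (h.dv r hr').1 (h.dv r hr').2 (ok r hr').1 (decide_eq_true (h.hB r hr).2)
      ((ok r hr').2 (by rw [mB r hr]; dsimp only at s; omega))
  · have := h.mu23
    rw [sA _ (fun d _ => mu d) fun s hs => by rw [mA s hs], show mu 5544 = 1 by decide] at this
    omega
  · have := h.mu11
    rw [sC _ (fun d _ => a11 d) fun s hs => ?_, show a11 5796 = -1 by decide] at this
    · have e : sp Y (fun d _ => e11 d * a11 d) = Y.length := by
        have := sp_cast Y (fun _ => 1) (fun d _ => e11 d * a11 d) fun x hx => by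
          obtain ⟨r, hr, rfl⟩ := xB x hx
          obtain ⟨e1, e2, e3 | e3⟩ := h.hB r hr <;> simp [e11, a11, ← mB r hr, e1, e3]
        simpa using this.symm
      omega
    · have : s.d % 11 = 1 ∨ s.d % 11 = 10 := by
        rcases List.mem_append.1 hs with e | e
        · exact h.hC s e
        · exact (h.hB s e).2.2
      rw [← cC s hs, c11]
      rcases this with e | e <;> simp [a11, e]
  · have := h.d23
    rw [sA _ (fun d _ => c23 d * d) fun _ _ => rfl, show c23 5544 = 1 by decide] at this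
    omega
  · have := h.d11
    rw [sC _ (fun d _ => d) fun s hs => by rw [cC s hs]] at this
    omega
  · rcases hd with ⟨rfl, rfl⟩ | ⟨rfl, rfl⟩ <;> omega
  · omega
  · have := h.f23
    rw [sA _ (fun d f => c23 d * f) fun _ _ => rfl, show c23 5544 = 1 by decide] at this
    omega
  · have := h.f11
    rw [sC _ (fun _ f => f) fun s hs => by rw [cC s hs]] at this
    omega
  · have := h.m23 i j
    rw [show NN / 960 = 255024 from rfl, show NN / 11 = 22256640 from rfl, sA _ (fun d f => c23 d * (d * (om 255024 f d ^ i * om 22256640 (a11 d) d ^ j)))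
      fun _ _ => rfl] at this
    rw [T23, sp_cons]
    exact this
  · have := h.m11 i
    rw [show NN / 960 = 255024 from rfl,
      sC _ (fun d f => d * om 255024 f d ^ i) fun s hs => by rw [cC s hs]] at this
    rw [T11, sp_append, sp_cons, show e11 (5796, (1 : ℤ)).1 = -1 by decide, neg_one_mul,
      ← add_assoc (sp X _), ← sub_eq_add_neg]
    exact this
  · simp only [sp_append]
    refine le_trans (le_of_eq ?_) (q3.trans (mul_le_mul ?_ (le_of_eq ?_) ?_ ?_))
    · rcases hd with ⟨rfl, rfl⟩ | ⟨rfl, rfl⟩ <;> push_cast <;> ring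
    · rcases hd with ⟨rfl, rfl⟩ | ⟨rfl, rfl⟩ <;> omega
    · push_cast; ring
    · omega
    · rcases hd with ⟨rfl, rfl⟩ | ⟨rfl, rfl⟩ <;> omega

end Cfsg.Agent.MT.S192
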