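import Cfsg.Agent.MT.Col

/-!
# The search for the columns of `t f` and `t` on both blocks
-/

set_option autoImplicit false

namespace Cfsg.Agent.MT

abbrev TC := ℕ × ℕ × ℤ × ℤ × ℤ × ℤ

def tcd40 : List (TC × ℕ × ℕ × ℕ) :=
  [((3840, 2024, -44, -16, -16, 11), 63756, 1270, 35),
   ((3840, 2024, -24, -36, 4, -9), 63756, 1870, 43),
   ((3840, 2024, 16, 4, 44, 31), 63756, 670, 25),
   ((3840, 2024, 16, 44, 4, 31), 63756, 670, 25),
   ((3840, 2024, 36, 24, 24, 11), 63756, 1270, 35),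
   ((8640, 2024, 36, -36, 44, -29), 28336, 3270, 57),
   ((13440, 2024, 56, -56, 64, -49), 18216, 670, 25),
   ((23040, 2024, -84, -96, -16, -29), 10626, 5670, 75),
   ((23040, 2024, 36, 24, 24, 11), 10626, 20470, 143),
   ((138240, 2024, 36, -216, 104, -149), 1771, 57270, 239)]

def tcd80 : List (TC × ℕ × ℕ × ℕ) :=
  [((2880, 2024, -24, -36, 4, -9), 85008, 910, 30),
   ((2880, 2024, -24, 24, -16, 31), 85008, 510, 22),
   ((2880, 2024, 36, 24, 24, 11), 85008, 310, 17),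
   ((7680, 2024, -4, -16, 64, 51), 31878, 710, 26),
   ((7680, 2024, -4, 64, -16, 51), 31878, 710, 26),
   ((7680, 2024, 36, 24, 24, 11), 31878, 5110, 71),
   ((7680, 759, -44, -56, 39, 26), 31878, 410, 20),
   ((17280, 2024, 36, -36, 44, -29), 14168, 11910, 109)]

def tcd120 : List (TC × ℕ × ℕ × ℕ) :=
  [((1920, 2024, 16, -16, 24, -9), 127512, 750, 27),
   ((11520, 2024, -24, -36, 4, -9), 21252, 9550, 97),
   ((11520, 2024, 36, 24, 24, 11), 21252, 8950, 94),
   ((40320, 2024, -84, 84, -76, 91), 6072, 12150, 110)]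

def tcd240 : List (TC × ℕ × ℕ × ℕ) :=
  [((3840, 2024, -44, -16, -16, 11), 63756, 1270, 35),
   ((3840, 2024, -24, -36, 4, -9), 63756, 1870, 43),
   ((3840, 2024, 16, 4, 44, 31), 63756, 670, 25),
   ((3840, 2024, 16, 44, 4, 31), 63756, 670, 25),
   ((3840, 2024, 36, 24, 24, 11), 63756, 1270, 35),
   ((8640, 2024, 36, -36, 44, -29), 28336, 3270, 57),
   ((13440, 2024, 56, -56, 64, -49), 18216, 670, 25),
   ((23040, 2024, -84, -96, -16, -29), 10626, 5670, 75),
   ((23040, 2024, 36, 24, 24, 11), 10626, 20470, 143),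
   ((138240, 2024, 36, -216, 104, -149), 1771, 57270, 239)]

def tcd (n : ℕ) : List (TC × ℕ × ℕ × ℕ) :=
  if n = 40 then tcd40 else if n = 80 then tcd80 else if n = 120 then tcd120 else tcd240

def fz (z : ℤ) (f : ℤ → Bool) : Bool := match z with
  | .ofNat n => fc n fun n => f (Int.ofNat n)
  | .negSucc n => fc n fun n => f (Int.negSucc n)

@[simp] theorem fz_eq (z : ℤ) (f : ℤ → Bool) : fz z f = f z := by cases z <;> simp [fz]

def fk (l : List Key) : (List Key → Bool) → Bool :=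
  List.rec (fun f => f []) (fun x _ ih f => fc x.1 fun a => fc x.2.1 fun b => fz x.2.2 fun c =>
    ih fun l => f ((a, b, c) :: l)) l

@[simp] theorem fk_eq (l : List Key) (f : List Key → Bool) : fk l f = f l := by
  induction l generalizing f with
  | nil => rfl
  | cons x l ih => exact (by simpa [fk] using ih fun l => f (x :: l))

def fk2 (l : List (Key × ℕ)) : (List (Key × ℕ) → Bool) → Bool :=
  List.rec (fun f => f []) (fun x _ ih f => fc x.1.1 fun a => fc x.1.2.1 fun b => fz x.1.2.2 fun c =>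
    fc x.2 fun d => ih fun l => f (((a, b, c), d) :: l)) l

@[simp] theorem fk2_eq (l : List (Key × ℕ)) (f : List (Key × ℕ) → Bool) : fk2 l f = f l := by
  induction l generalizing f with
  | nil => rfl
  | cons x l ih => exact (by simpa [fk2] using ih fun l => f (x :: l))

def fr (l : List Row) : (List Row → Bool) → Bool :=
  List.rec (fun f => f []) (fun x _ ih f => fc x.d fun a => fc x.mu fun b => fz x.f fun c =>
    fz x.m fun d => fz x.v fun e => ih fun l => f (⟨a, b, c, d, e⟩ :: l)) l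

@[simp] theorem fr_eq (l : List Row) (f : List Row → Bool) : fr l f = f l := by
  induction l generalizing f with
  | nil => rfl
  | cons x l ih => exact (by simpa [fr] using ih fun l => f (x :: l))

def cd (k : Key) : ℕ := (if k.1 % 32 = 0 ∨ k.1 = 540 then k.1 else k.1 + 20000) * 100 + (k.2.2 + 50).toNat

def srt (L : List Key) : List Key := L.insertionSort fun a b => cd a ≤ cd b

def moB (p : ℕ) (Z : ℤ) : Bool := fz Z fun Z => decide (0 ≤ Z) && Z % (p * NN : ℕ) == 0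

theorem Mo.moB {p : ℕ} {Z : ℤ} (h : Mo p Z) : moB p Z = true := by
  simp only [MT.moB, fz_eq, Bool.and_eq_true, decide_eq_true_eq, beq_iff_eq]
  exact ⟨h.1, Int.emod_eq_zero_of_dvd h.2⟩

/-- the mixed class sums -/
def mx (c i j : ℕ) (F : Row → ℤ) (R : List Row) : ℤ :=
  (NN / c : ℕ) ^ i * (NN / 60 : ℕ) ^ j + sm R fun r =>
    F r * (r.d * (om (NN / c) r.v r.d ^ i * om (NN / 60) r.f r.d ^ j))

def tst (p c : ℕ) (F : Row → ℤ) (R : List Row) : Bool :=
  moB p (mx c 3 0 F R) && (moB p (mx c 4 0 F R) && moB p (mx c 1 1 F R))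

def sg23 (d : ℕ) : Bool := d % 23 == 1 || d % 23 == 12

def sg11 (d : ℕ) : Bool := d % 11 == 1

def mfZ (ch : ℕ) (L : List (Key × ℕ)) : ℤ :=
  4 * (((NN / ch : ℕ) : ℤ) * (NN / 60 : ℕ) + (L.map fun x =>
    c23 x.1.1 * ((NN / ch : ℕ) * ((x.2 : ℤ) - 100) * om (NN / 60) x.1.2.2 x.1.1)).sum)

def sqrt' (q : ℕ) : ℕ := Nat.rec 0 (fun j ih => Bool.rec ih j (Nat.ble (Nat.mul j j) q)) 401

/-- the goal fails -/
def bad (R B : List Row) : Bool :=
  !(R.all (fun r => decide (r.d ≤ 275 → r.d ∈ [45, 231, 252])) &&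
    (B.map Row.d).isPerm [23, 483, 1035, 1035, 1035, 3312, 5796])

def s4 (L11 : List (List Key)) (ty ch : ℕ) (tc : TC) (R : List Row) : Bool :=
  fr (R.filter fun r => r.d % 11 != 0) fun C => fk (C.map key) fun KC =>
  fz ((NN : ℤ) - 1 - sm R (fun r => r.mu * (r.d * r.d)) - tc.2.1 * tc.2.1) fun qd =>
  fz (57 - sm R fun r => r.mu * (r.f * r.f)) fun qf =>
  fz ((ch : ℤ) - 4 - sm R fun r => r.mu * (r.m * r.m)) fun qm =>
  fc ((tc.1 : ℤ) - 1 - tc.2.2.1 * tc.2.2.1 - tc.2.2.2.2.1 * tc.2.2.2.2.1 - tc.2.2.2.2.2 * tc.2.2.2.2.2 -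
    sm R fun r => r.mu * (r.v * r.v)).toNat fun qv => fc (sqrt' qv) fun sq =>
  fz (sm C fun r => c11 r * r.m) fun s₁ => fz (1 - tc.2.2.1 + sm C fun r => c11 r * r.v) fun s₂ =>
  fz ((NN : ℤ) - tc.2.2.1 * tc.2.2.1 * (NN / 5796 : ℕ) - 11 * (tc.1 * tc.1) +
    sm C fun r => c11 r * (r.v * r.v * (NN / r.d : ℕ))) fun s₃ => fc (NN / tc.1) fun K =>
  anyL L11 fun L => an ((L.filter fun k => k.1 % 23 != 0).isPerm KC)
    (fk (L.filter fun k => k.1 % 23 == 0) fun LB =>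
      an (decide ((LB.map fun k => (k.1 : ℤ) * k.1).sum ≤ qd)) (an (decide ((LB.map fun k => k.2.2 * k.2.2).sum ≤ qf))
      (fk (srt (LB.erase (5796, 1, 1))) fun L' => mcol sg11 ty L' qm s₁ fun L₂ => fk2 L₂ fun L₂ =>
        tcol sg11 K sq L₂ qv s₂ s₃ fun B => fr (⟨5796, 1, 1, 1, tc.2.2.1⟩ :: B) fun B =>
          an (tst 11 tc.1 c11 (C ++ B)) (bad R B))))

def s3 (ty ch n : ℕ) (fin : TC → List Row → Bool) (L : List Key) : Bool :=
  fk (srt (L.erase (5544, 1, -1))) fun L' => mcol sg23 ty L' (ch - 5) 0 fun L₂ => fk2 L₂ fun L₂ =>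
    an (ch == 20 || moB 23 (mfZ ch (((5544, 1, -1), 99) :: L₂)))
      (anyL (tcd n) fun x => tcol sg23 x.2.1 x.2.2.2 L₂ x.2.2.1 (1 + x.1.2.2.2.1)
        (NN + x.1.2.2.2.1 * x.1.2.2.2.1 * (NN / 5544 : ℕ)) fun R =>
          fr (⟨5544, 1, -1, -1, x.1.2.2.2.1⟩ :: R) fun R =>
            an (tst 23 x.1.1 (fun r => c23 r.d) R) (fin x.1 R))

end Cfsg.Agent.MT
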