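import Cfsg.Agent.MT.S4

/-!
# Soundness of the search on the block of the prime `23`
-/

set_option autoImplicit false

namespace Cfsg.Agent.MT

set_option synthInstance.maxSize 2000 in
set_option synthInstance.maxHeartbeats 200000 in
theorem s3b_tcd : ∀ t ∈ tys, ∀ y ∈ tcs, y.1 % t.2.2 = 0 → y.1 / t.2.2 % 5 = 1 →
    ∃ x ∈ tcd t.2.2, x.1 = y ∧ x.2.1 = NN / y.1 ∧
      (x.2.2.1 : ℤ) = y.1 - 1 - y.2.2.1 * y.2.2.1 - y.2.2.2.1 * y.2.2.2.1 - y.2.2.2.2.1 * y.2.2.2.2.1 -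
        y.2.2.2.2.2 * y.2.2.2.2.2 ∧ x.2.2.1 < (x.2.2.2 + 1) * (x.2.2.2 + 1) ∧ x.2.2.2 ≤ 400 := by
  decide +kernel

variable {ty ch n c d₃ d₄ : ℕ} {v₁ v₂ v₃ v₄ : ℤ} {C A B : List Row}

theorem s3b_sound (h : TT ty ch n c d₃ d₄ v₁ v₂ v₃ v₄ C A B) {L : List Key}
    (hL : ((C ++ A).map key).Perm L) {fin : TC → List Row → Bool}
    (hf : ∀ R : List Row, R.Perm (C ++ A) → fin (c, d₃, v₁, v₂, v₃, v₄) R = true) :
    s3 ty ch n fin L = true := by
  obtain ⟨r₀, hr₀, e1, e2, e3, e4⟩ := h.tA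
  replace hr₀ : r₀ ∈ C ++ A := List.mem_append_right _ hr₀
  have e0 : r₀.mu = 1 := by have := h.h23 r₀ hr₀; omega
  obtain rfl : r₀ = ⟨5544, 1, -1, -1, v₂⟩ := by
    obtain ⟨d, mu, f, m, v⟩ := r₀
    simp only at e0 e1 e2 e3 e4
    subst e0 e1 e2 e3 e4
    rfl
  have hB1 := List.perm_cons_erase hr₀
  generalize (C ++ A).erase ⟨5544, 1, -1, -1, v₂⟩ = M at hB1
  have hk : (M.map key).Perm (srt (L.erase (5544, 1, -1))) := by
    have := (hL.symm.trans (hB1.map key)).erase (5544, 1, -1)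
    rw [List.map_cons, show key ⟨5544, 1, -1, -1, v₂⟩ = (5544, 1, -1) from rfl,
      List.erase_cons_head] at this
    exact this.symm.trans (List.perm_insertionSort _ _).symm
  obtain ⟨S, hS, hS2, hS3⟩ := exists_sorted key
    (fun r => (r.m + 100).toNat * 10000 + (r.v + 1000).toNat) _ _ hk
  have hB2 : (C ++ A).Perm (⟨5544, 1, -1, -1, v₂⟩ :: S) := hB1.trans (hS.symm.cons _)
  have hSB : ∀ r ∈ S, r ∈ C ++ A := fun r hr => hB2.symm.subset (List.mem_cons_of_mem _ hr)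
  have hSA : ∀ r ∈ S, r ∈ C ++ A ++ B := fun r hr => List.mem_append_left _ (hSB r hr)
  have hmu : ∀ r ∈ S, 0 < r.mu := fun r hr => by have := h.h23 r (hSB r hr); omega
  have hbd := fun r hr => h.bd (hSA r hr) (hmu r hr)
  have hco : ∀ r ∈ S, c23 r.d = co sg23 r.d := fun r hr => by
    have := h.h23 r (hSB r hr)
    unfold c23 co sg23
    rcases this with ⟨-, e | e⟩ | ⟨-, e | e⟩ <;> simp [e]
  have sAll : ∀ F, sm (C ++ A ++ B) F = F ⟨5544, 1, -1, -1, v₂⟩ + sm S F + sm B F := fun F => by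
    rw [s4_app, s4_perm hB2, s4_cons]
  have sCA : ∀ F : Row → ℤ, sm (C ++ A) (fun r => c23 r.d * F r) =
      F ⟨5544, 1, -1, -1, v₂⟩ + sm S fun r => co sg23 r.d * F r := fun F => by
    rw [s4_perm hB2, s4_cons, s4_congr (l := S) (F' := fun r => co sg23 r.d * F r)
      fun r hr => by rw [hco r hr], show c23 (⟨5544, 1, -1, -1, v₂⟩ : Row).d = 1 by simp [c23], one_mul]
  obtain ⟨r₁, hr₁, -, -, g3, g4⟩ := h.tB
  have g1 := s4_le (F := fun r => r.mu * (r.m * r.m))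
    (fun r _ => mul_nonneg (Int.natCast_nonneg _) (mul_self_nonneg _)) hr₁
  have g2 := s4_le (F := fun r => r.mu * (r.v * r.v))
    (fun r _ => mul_nonneg (Int.natCast_nonneg _) (mul_self_nonneg _)) hr₁
  simp only [(h.hB r₁ hr₁).1, g3, g4, Nat.cast_one, one_mul] at g1 g2
  obtain ⟨x, hx, x1, x2, x3, x4, x5⟩ := s3b_tcd _ h.hty _ h.htc h.hn.1 h.hn.2
  simp only [s3, fr_eq, fk_eq, anyL_eq, an_eq, fk2_eq]
  rw [← hS2]
  refine mcol_sound (fun r hr => h.hm r (hSA r hr)) (fun r hr => (hbd r hr).1) ?_ ?_ ?_ ?_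
  · refine List.IsChain.imp_of_mem_imp (fun a b ha hb hab e => ?_) hS3
    have := hab e
    have := hbd a ha
    have := hbd b hb
    omega
  · have e5 := h.mn
    rw [sAll] at e5
    simp only at e5
    omega
  · have e5 := h.n23
    rw [sCA] at e5
    simp only at e5
    omega
  rw [Bool.and_eq_true, Bool.or_eq_true, List.any_eq_true]
  refine ⟨Or.inr (Mo.moB ?_), x, hx, ?_⟩
  · have e5 := h.mf
    rw [s4_perm hB2, s4_cons] at e5
    rw [mfZ, List.map_cons, List.map_map, List.sum_cons]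
    have e6 : (S.map ((fun x : Key × ℕ => c23 x.1.1 * ((NN / ch : ℕ) * ((x.2 : ℤ) - 100) *
        om (NN / 60) x.1.2.2 x.1.1)) ∘ key2)).sum =
        sm S fun r => c23 r.d * ((NN / ch : ℕ) * r.m * om (NN / 60) r.f r.d) := by
      refine s4_congr (l := S) fun r hr => ?_
      have := hbd r hr
      simp only [key2, key, Function.comp]
      rw [Int.toNat_of_nonneg (by omega), add_sub_cancel_right]
    rw [e6]
    exact e5
  have e5 := h.vn
  rw [sAll] at e5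
  simp only [Nat.cast_one, one_mul] at e5 x2 x3
  rw [x1, x2]
  refine tcol_sound x4 x5 (fun r hr => ⟨(hbd r hr).1.1, hmu r hr⟩)
    (fun r hr => h.hv r (hSA r hr)) ?_ (by omega) ?_ ?_ ?_
  · refine List.IsChain.imp (fun a b hab e => ?_) hS3
    have := hab (congrArg Prod.fst e)
    have : (a.m + 100).toNat = (b.m + 100).toNat := congrArg Prod.snd e
    omega
  · have e5 := h.v23
    rw [sCA] at e5
    simp only at e5 ⊢
    omega
  · have e5 := h.q23
    rw [sCA] at e5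
    simp only at e5 ⊢
    omega
  rw [Bool.and_eq_true]
  refine ⟨?_, hf _ hB2.symm⟩
  simp only [tst, mx, Bool.and_eq_true, s4_perm hB2.symm]
  exact ⟨(h.t23 3 0).moB, (h.t23 4 0).moB, (h.t23 1 1).moB⟩

end Cfsg.Agent.MT
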