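import Cfsg.Agent.MT.S3

/-!
# Soundness of the search on the block of the prime `23`
-/

set_option autoImplicit false

namespace Cfsg.Agent.MT

theorem s3_perm {l l' : List Row} (h : l.Perm l') (F : Row → ℤ) : sm l F = sm l' F := (h.map F).sum_eq

theorem s3_cons (r : Row) (l : List Row) (F : Row → ℤ) : sm (r :: l) F = F r + sm l F := rfl

theorem s3_app (l l' : List Row) (F : Row → ℤ) : sm (l ++ l') F = sm l F + sm l' F := by simp [sm]

theorem s3_congr {l : List Row} {F F' : Row → ℤ} (h : ∀ r ∈ l, F r = F' r) : sm l F = sm l F' := by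
  rw [sm, List.map_congr_left h]; rfl

theorem s3_le {l : List Row} {F : Row → ℤ} (h : ∀ r ∈ l, 0 ≤ F r) {r : Row} (hr : r ∈ l) : F r ≤ sm l F :=
  List.single_le_sum (fun _ hx => by obtain ⟨r, hr, rfl⟩ := List.mem_map.1 hx; exact h r hr) _
    (List.mem_map_of_mem hr)

set_option synthInstance.maxSize 1000 in
theorem mem_tcd : ∀ x ∈ tys, ∀ tc ∈ tcs, tc.1 % x.2.2 = 0 → tc.1 / x.2.2 % 5 = 1 →
    ∃ y ∈ tcd x.2.2, y.1 = tc ∧ y.2.1 = NN / tc.1 ∧ (y.2.2.1 : ℤ) = tc.1 - 1 - tc.2.2.1 * tc.2.2.1 -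
      tc.2.2.2.1 * tc.2.2.2.1 - tc.2.2.2.2.1 * tc.2.2.2.2.1 - tc.2.2.2.2.2 * tc.2.2.2.2.2 ∧
      y.2.2.1 < (y.2.2.2 + 1) * (y.2.2.2 + 1) ∧ y.2.2.2 ≤ 400 ∧ x.2.1 ≤ 60 ∧ tc.1 ≤ 138240 := by
  decide +kernel

theorem mfZ_eq (ch : ℕ) {R : List Row} (h : ∀ r ∈ R, -100 ≤ r.m) :
    4 * (((NN / ch : ℕ) : ℤ) * (NN / 60 : ℕ) + sm R fun r =>
      c23 r.d * ((NN / ch : ℕ) * r.m * om (NN / 60) r.f r.d)) = mfZ ch (R.map key2) := by
  unfold mfZ
  generalize NN / ch = a
  generalize NN / 60 = b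
  rw [List.map_map, sm]
  congr 3
  refine List.map_congr_left fun r hr => ?_
  have := h r hr
  simp only [Function.comp, key2, key]
  rw [Int.toNat_of_nonneg (by omega), add_sub_cancel_right]

theorem s3_sound {ty ch n c d₃ d₄ : ℕ} {v₁ v₂ v₃ v₄ : ℤ} {C A B : List Row}
    (h : TT ty ch n c d₃ d₄ v₁ v₂ v₃ v₄ C A B) {L : List Key} (hL : ((C ++ A).map key).Perm L)
    {fin : TC → List Row → Bool}
    (hf : ∀ R : List Row, R.Perm (C ++ A) → fin (c, d₃, v₁, v₂, v₃, v₄) R = true) :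
    s3 ty ch n fin L = true := by
  obtain ⟨r₀, a0, a1, a2, a3, a4⟩ := h.tA
  obtain ⟨r₁, b0, b1, b2, b3, b4⟩ := h.tB
  have a5 : r₀ ∈ C ++ A := List.mem_append_right _ a0
  have a6 : r₀.mu = 1 := by have := h.h23 r₀ a5; omega
  have b5 := (h.hB r₁ b0).1
  obtain rfl : r₀ = ⟨5544, 1, -1, -1, v₂⟩ := by cases r₀; simp_all
  have p1 := List.perm_cons_erase a5
  have p2 : (((C ++ A).erase ⟨5544, 1, -1, -1, v₂⟩).map key).Perm (srt (L.erase (5544, 1, -1))) := by
    have := ((p1.map key).symm.trans hL).erase (5544, 1, -1)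
    rw [List.map_cons, show key ⟨5544, 1, -1, -1, v₂⟩ = (5544, 1, -1) from rfl, List.erase_cons_head] at this
    exact this.trans (List.perm_insertionSort _ _).symm
  obtain ⟨R, r1, r2, r3⟩ := exists_sorted key
    (fun r : Row => (r.m + 100).toNat * 10000 + (r.v + 1000).toNat) _ _ p2
  have p3 : (⟨5544, 1, -1, -1, v₂⟩ :: R).Perm (C ++ A) := (r1.cons _).trans p1.symm
  have m1 : ∀ r ∈ R, r ∈ C ++ A := fun r hr => p3.subset (List.mem_cons_of_mem _ hr)
  have m2 : ∀ r ∈ R, r ∈ C ++ A ++ B := fun r hr => List.mem_append_left _ (m1 r hr)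
  obtain ⟨y, y0, y1, y2, y3, y4, y5, y6, y7⟩ := mem_tcd _ h.hty _ h.htc h.hn.1 h.hn.2
  simp only at y0 y2 y3 y6 y7
  have hco : ∀ r ∈ R, c23 r.d = co sg23 r.d := fun r hr => by
    have := h.h23 r (m1 r hr)
    simp only [c23, co, sg23, Bool.or_eq_true, beq_iff_eq]
    split_ifs <;> omega
  have hmu : ∀ r ∈ R, 0 < r.mu := fun r hr => by have := h.h23 r (m1 r hr); omega
  have n0 : ∀ (F : Row → ℤ) (r : Row), (0 : ℤ) ≤ r.mu * (F r * F r) := fun F r =>
    mul_nonneg (Int.natCast_nonneg _) (mul_self_nonneg _)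
  have q1 : sm R (fun r => r.mu * (r.m * r.m)) ≤ ch - 5 := by
    have e1 := h.mn
    have e2 := s3_le (fun r _ => n0 Row.m r) b0
    rw [s3_app, ← s3_perm p3, s3_cons] at e1
    simp only [b5, b3] at e1 e2
    omega
  have q2 : sm R (fun r => r.mu * (r.v * r.v)) ≤ y.2.2.1 := by
    have e1 := h.vn
    have e2 := s3_le (fun r _ => n0 Row.v r) b0
    rw [s3_app, ← s3_perm p3, s3_cons] at e1
    simp only [b5, b4] at e1 e2
    omega
  have sq : ∀ (F : Row → ℤ) (r : Row), r ∈ R → F r * F r ≤ sm R fun r => r.mu * (F r * F r) :=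
    fun F r hr => (le_mul_of_one_le_left (mul_self_nonneg _) (by have := hmu r hr; omega)).trans
      (s3_le (fun r _ => n0 F r) hr)
  have hb : ∀ r ∈ R, -100 ≤ r.m ∧ r.m ≤ 100 := fun r hr => by
    have := sq Row.m r hr
    constructor <;> nlinarith
  have hb' : ∀ r ∈ R, -1000 ≤ r.v ∧ r.v ≤ 1000 := fun r hr => by
    have := sq Row.v r hr
    have e : y.2.2.1 < 401 * 401 := y4.trans_le (Nat.mul_le_mul (by omega) (by omega))
    have e' : r.v * r.v < 401 * 401 := by omega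
    constructor <;> nlinarith
  rw [s3, fk_eq, ← r2]
  refine mcol_sound (fun r hr => h.hm r (m2 r hr)) hb (r3.imp_of_mem_imp fun a b ha hb e1 e2 => ?_) q1 ?_ ?_
  · have := e1 e2
    have := hb' a ha
    have := hb' b hb
    omega
  · have e1 := h.n23
    rw [← s3_perm p3, s3_cons, s3_congr (F' := fun r => co sg23 r.d * r.m) fun r hr => by rw [hco r hr]] at e1
    simpa [c23] using e1
  simp only [fk2_eq, an_eq, anyL_eq, fr_eq, Bool.and_eq_true, Bool.or_eq_true, List.any_eq_true]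
  refine ⟨.inr (Mo.moB ?_), y, y0, ?_⟩
  · have e1 := h.mf
    rw [← s3_perm p3] at e1
    rw [show ((5544, 1, -1), 99) :: R.map key2 = (⟨5544, 1, -1, -1, v₂⟩ :: R).map key2 from rfl,
      ← mfZ_eq ch fun r hr => by
        rcases List.mem_cons.1 hr with rfl | hr
        · norm_num
        · exact (hb r hr).1]
    exact e1
  simp only [y1]
  refine tcol_sound y4 y5 (fun r hr => ⟨(hb r hr).1, hmu r hr⟩) (fun r hr => y2 ▸ h.hv r (m2 r hr))
    (r3.imp_of_mem_imp fun a b ha hb e1 e2 => ?_) q2 ?_ ?_ ?_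
  · obtain ⟨e3, e4⟩ := Prod.mk.inj e2
    have := e1 e3
    omega
  · have e1 := h.v23
    rw [← s3_perm p3, s3_cons, s3_congr (F' := fun r => co sg23 r.d * r.v) fun r hr => by rw [hco r hr]] at e1
    simpa [c23, add_assoc] using e1
  · have e1 := h.q23
    rw [← s3_perm p3, s3_cons, s3_congr (F' := fun r => co sg23 r.d * (r.v * r.v * (NN / r.d : ℕ)))
      fun r hr => by rw [hco r hr]] at e1
    have e2 : c23 5544 = 1 := by decide
    simp only [e2, one_mul] at e1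
    rw [add_assoc]
    exact e1
  · simp only [tst, mx, s3_perm p3, Bool.and_eq_true]
    exact ⟨⟨(h.t23 3 0).moB, (h.t23 4 0).moB, (h.t23 1 1).moB⟩, hf _ p3⟩

end Cfsg.Agent.MT
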