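import Cfsg.Agent.MT.S3

/-!
# Soundness of the search on the block of the prime `11`
-/

set_option autoImplicit false

namespace Cfsg.Agent.MT

theorem s4_perm {l l' : List Row} (h : l.Perm l') (F : Row → ℤ) : sm l F = sm l' F :=
  (h.map F).sum_eq

theorem s4_app (l l' : List Row) (F : Row → ℤ) : sm (l ++ l') F = sm l F + sm l' F := by
  simp [sm]

theorem s4_cons (r : Row) (l : List Row) (F : Row → ℤ) : sm (r :: l) F = F r + sm l F := by
  simp [sm]

theorem s4_congr {l : List Row} {F F' : Row → ℤ} (h : ∀ r ∈ l, F r = F' r) : sm l F = sm l F' := by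
  unfold sm; rw [List.map_congr_left h]

theorem s4_le {l : List Row} {F : Row → ℤ} (h : ∀ r ∈ l, 0 ≤ F r) {r : Row} (hr : r ∈ l) :
    F r ≤ sm l F :=
  List.single_le_sum (fun _ hx => by obtain ⟨r, hr, rfl⟩ := List.mem_map.1 hx; exact h r hr) _
    (List.mem_map_of_mem hr)

theorem s4_sqrt (q n : ℕ) :
    (Nat.rec 0 (fun j ih => Bool.rec ih j (Nat.ble (Nat.mul j j) q)) (n + 1) : ℕ) ≤ n ∧
    ∀ j ≤ n, j * j ≤ q →
      j ≤ (Nat.rec 0 (fun j ih => Bool.rec ih j (Nat.ble (Nat.mul j j) q)) (n + 1) : ℕ) := by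
  induction n with
  | zero =>
    refine ⟨?_, fun j hj _ => hj.trans (Nat.zero_le _)⟩
    show (Bool.rec 0 0 (Nat.ble (Nat.mul 0 0) q) : ℕ) ≤ 0
    cases Nat.ble (Nat.mul 0 0) q <;> exact le_rfl
  | succ n ih =>
    generalize hs : (Nat.rec 0 (fun j ih => Bool.rec ih j (Nat.ble (Nat.mul j j) q)) (n + 1) : ℕ) = s
      at ih
    have e : (Nat.rec 0 (fun j ih => Bool.rec ih j (Nat.ble (Nat.mul j j) q)) (n + 1 + 1) : ℕ) =
        Bool.rec s (n + 1) (Nat.ble (Nat.mul (n + 1) (n + 1)) q) := by rw [← hs]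
    rw [e]
    rcases e' : Nat.ble (Nat.mul (n + 1) (n + 1)) q with _ | _
    · refine ⟨ih.1.trans (Nat.le_succ _), fun j hj h => ?_⟩
      rcases Nat.lt_or_eq_of_le hj with h' | rfl
      · exact ih.2 j (Nat.lt_succ_iff.1 h') h
      · rw [show Nat.ble (Nat.mul (n + 1) (n + 1)) q = true from Nat.ble_eq_true_of_le h] at e'
        cases e'
    · exact ⟨le_rfl, fun j hj _ => hj⟩

theorem sqrt'_spec {q : ℕ} (hq : q ≤ 160000) : q < (sqrt' q + 1) * (sqrt' q + 1) ∧ sqrt' q ≤ 400 := by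
  have h := s4_sqrt q 400
  refine ⟨?_, h.1⟩
  have h1 : Nat.sqrt q ≤ 400 := by
    have := Nat.sqrt_le_sqrt hq
    rwa [show Nat.sqrt 160000 = 400 from Nat.sqrt_eq 400] at this
  have h2 : Nat.sqrt q ≤ sqrt' q := h.2 _ h1 (Nat.sqrt_le q)
  exact (Nat.lt_succ_sqrt q).trans_le (Nat.mul_le_mul (Nat.succ_le_succ h2) (Nat.succ_le_succ h2))

theorem tcs_le : ∀ x ∈ tcs, x.1 ≤ 138240 := by decide

theorem tys_le : ∀ x ∈ tys, x.2.1 ≤ 60 := by decide

variable {ty ch n c d₃ d₄ : ℕ} {v₁ v₂ v₃ v₄ : ℤ} {C A B : List Row}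

theorem TT.bd (h : TT ty ch n c d₃ d₄ v₁ v₂ v₃ v₄ C A B) {r : Row} (hr : r ∈ C ++ A ++ B)
    (hmu : 0 < r.mu) : (-100 ≤ r.m ∧ r.m ≤ 100) ∧ -1000 ≤ r.v ∧ r.v ≤ 1000 := by
  have e1 := s4_le (F := fun r => r.mu * (r.m * r.m))
    (fun r _ => mul_nonneg (Int.natCast_nonneg _) (mul_self_nonneg _)) hr
  have e2 := s4_le (F := fun r => r.mu * (r.v * r.v))
    (fun r _ => mul_nonneg (Int.natCast_nonneg _) (mul_self_nonneg _)) hr
  have e3 : r.m * r.m ≤ r.mu * (r.m * r.m) := le_mul_of_one_le_left (mul_self_nonneg _) (by omega)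
  have e4 : r.v * r.v ≤ r.mu * (r.v * r.v) := le_mul_of_one_le_left (mul_self_nonneg _) (by omega)
  have e5 := h.mn
  have e6 := h.vn
  have e7 : c ≤ 138240 := tcs_le _ h.htc
  have e8 : ch ≤ 60 := tys_le _ h.hty
  have e9 := mul_self_nonneg v₃
  have e10 := mul_self_nonneg v₄
  have f1 : r.m * r.m ≤ 100 * 100 := by omega
  have f2 : r.v * r.v ≤ 1000 * 1000 := by omega
  exact ⟨abs_le.1 (abs_le_of_sq_le_sq' (by nlinarith) (by norm_num) |> abs_le.2),
    abs_le_of_sq_le_sq' (by nlinarith) (by norm_num)⟩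

theorem s4_sound (h : TT ty ch n c d₃ d₄ v₁ v₂ v₃ v₄ C A B) {R : List Row} (hR : R.Perm (C ++ A))
    {L11 : List (List Key)} (hL : ∃ L ∈ L11, ((C ++ B).map key).Perm L)
    (hbad : ¬ ((∀ r ∈ C ++ A, r.d ≤ 275 → r.d ∈ [45, 231, 252]) ∧
      (B.map Row.d).Perm [23, 483, 1035, 1035, 1035, 3312, 5796])) :
    s4 L11 ty ch (c, d₃, v₁, v₂, v₃, v₄) R = true := by
  obtain ⟨L, hL, hp⟩ := hL
  have hC : (R.filter fun r => r.d % 11 != 0).Perm C := by
    have := hR.filter fun r => r.d % 11 != 0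
    rwa [List.filter_append, (List.filter_eq_self (l := C)).2, (List.filter_eq_nil_iff (l := A)).2,
      List.append_nil] at this
    · intro r hr
      simp [h.hA r hr]
    · intro r hr
      have := h.hC r hr
      simp only [bne_iff_ne]
      omega
  have hC23 : ∀ r ∈ C, r.d % 23 ≠ 0 := fun r hr => by
    have := h.h23 r (List.mem_append_left _ hr)
    omega
  have hLC : (L.filter fun k => k.1 % 23 != 0).Perm (C.map key) := by
    have := hp.symm.filter fun k => k.1 % 23 != 0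
    rwa [List.map_append, List.filter_append, (List.filter_eq_self (l := C.map key)).2,
      (List.filter_eq_nil_iff (l := B.map key)).2, List.append_nil] at this
    · intro k hk
      obtain ⟨r, hr, rfl⟩ := List.mem_map.1 hk
      simp [key, (h.hB r hr).2.1]
    · intro k hk
      obtain ⟨r, hr, rfl⟩ := List.mem_map.1 hk
      simpa [key] using hC23 r hr
  have hLB : (L.filter fun k => k.1 % 23 == 0).Perm (B.map key) := by
    have := hp.symm.filter fun k => k.1 % 23 == 0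
    rwa [List.map_append, List.filter_append, (List.filter_eq_nil_iff (l := C.map key)).2,
      (List.filter_eq_self (l := B.map key)).2, List.nil_append] at this
    · intro k hk
      obtain ⟨r, hr, rfl⟩ := List.mem_map.1 hk
      simp [key, (h.hB r hr).2.1]
    · intro k hk
      obtain ⟨r, hr, rfl⟩ := List.mem_map.1 hk
      simpa [key] using hC23 r hr
  obtain ⟨r₀, hr₀, e1, e2, e3, e4⟩ := h.tB
  have e0 := (h.hB r₀ hr₀).1
  obtain rfl : r₀ = ⟨5796, 1, 1, 1, v₁⟩ := by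
    obtain ⟨d, mu, f, m, v⟩ := r₀
    simp only at e0 e1 e2 e3 e4
    subst e0 e1 e2 e3 e4
    rfl
  have hB1 := List.perm_cons_erase hr₀
  generalize B.erase ⟨5796, 1, 1, 1, v₁⟩ = B' at hB1
  have hk : (B'.map key).Perm (srt ((L.filter fun k => k.1 % 23 == 0).erase (5796, 1, 1))) := by
    have := (hLB.trans (hB1.map key)).erase (5796, 1, 1)
    rw [List.map_cons, show key ⟨5796, 1, 1, 1, v₁⟩ = (5796, 1, 1) from rfl, List.erase_cons_head] at this
    exact this.symm.trans (List.perm_insertionSort _ _).symm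
  obtain ⟨S, hS, hS2, hS3⟩ := exists_sorted key
    (fun r => (r.m + 100).toNat * 10000 + (r.v + 1000).toNat) _ _ hk
  have hB2 : B.Perm (⟨5796, 1, 1, 1, v₁⟩ :: S) := hB1.trans (hS.symm.cons _)
  have hSB : ∀ r ∈ S, r ∈ B := fun r hr => hB2.symm.subset (List.mem_cons_of_mem _ hr)
  have hSA : ∀ r ∈ S, r ∈ C ++ A ++ B := fun r hr => List.mem_append_right _ (hSB r hr)
  have hmu : ∀ r ∈ S, r.mu = 1 := fun r hr => (h.hB r (hSB r hr)).1
  have hbd := fun r hr => h.bd (hSA r hr) (by rw [hmu r hr]; exact one_pos)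
  have hco : ∀ r ∈ S, c11 r = co sg11 r.d := fun r hr => by
    have := h.hB r (hSB r hr)
    unfold c11 co sg11 a11
    rw [this.1]
    rcases this.2.2 with e | e <;> simp [e]
  have sAll : ∀ F, sm (C ++ A ++ B) F = sm R F + (F ⟨5796, 1, 1, 1, v₁⟩ + sm S F) := fun F => by
    rw [s4_app, s4_perm hR, s4_perm hB2, s4_cons]
  have sCB : ∀ F : Row → ℤ, sm (C ++ B) (fun r => c11 r * F r) =
      sm (R.filter fun r => r.d % 11 != 0) (fun r => c11 r * F r) +
        (-F ⟨5796, 1, 1, 1, v₁⟩ + sm S fun r => co sg11 r.d * F r) := fun F => by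
    rw [s4_app, s4_perm hC, s4_perm hB2, s4_cons, s4_congr (l := S) (F' := fun r => co sg11 r.d * F r) fun r hr => by rw [hco r hr],
      show c11 ⟨5796, 1, 1, 1, v₁⟩ = -1 by simp [c11, a11], neg_one_mul]
  have sB : ∀ F : Key → ℤ, ((L.filter fun k => k.1 % 23 == 0).map F).sum = sm B (fun r => F (key r)) :=
    fun F => by rw [(hLB.map F).sum_eq, List.map_map]; rfl
  have sAll' : ∀ F, sm (C ++ A ++ B) F = sm R F + sm B F := fun F => by rw [s4_app, s4_perm hR]
  have hP : ((R.filter fun r => r.d % 11 != 0) ++ ⟨5796, 1, 1, 1, v₁⟩ :: S).Perm (C ++ B) :=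
    hC.append hB2.symm
  simp only [s4, fr_eq, fk_eq, fz_eq, fc_eq, anyL_eq, an_eq, fk2_eq, List.any_eq_true,
    Bool.and_eq_true, decide_eq_true_eq]
  refine ⟨L, hL, List.isPerm_iff.2 (hLC.trans (hC.map key).symm), ?_, ?_, ?_⟩
  · have e5 := h.sq
    rw [sAll', s4_congr (l := B) (F' := fun r => ((key r).1 : ℤ) * (key r).1)
      fun r hr => by rw [(h.hB r hr).1, Nat.cast_one, one_mul]; rfl] at e5
    rw [sB]
    have := mul_self_nonneg (d₄ : ℤ)
    omega
  · have e5 := h.fn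
    rw [sAll', s4_congr (l := B) (F' := fun r => (key r).2.2 * (key r).2.2)
      fun r hr => by rw [(h.hB r hr).1, Nat.cast_one, one_mul]; rfl] at e5
    rw [sB]
    omega
  rw [← hS2]
  refine mcol_sound (fun r hr => h.hm r (hSA r hr)) (fun r hr => (hbd r hr).1) ?_ ?_ ?_ ?_
  · refine List.IsChain.imp_of_mem_imp (fun a b ha hb hab e => ?_) hS3
    have := hab e
    have := hbd a ha
    have := hbd b hb
    omega
  · have e5 := h.mn
    rw [sAll] at e5
    simp only at e5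
    omega
  · have e5 := h.n11
    rw [sCB] at e5
    simp only at e5
    omega
  have e5 := h.vn
  rw [sAll] at e5
  simp only [Nat.cast_one, one_mul] at e5
  have e6 := sm_nonneg (R := R) (F := fun r => r.mu * (r.v * r.v))
    fun r _ => mul_nonneg (Int.natCast_nonneg _) (mul_self_nonneg _)
  have e7 : c ≤ 138240 := tcs_le _ h.htc
  have e8 := mul_self_nonneg v₁
  have e9 := mul_self_nonneg v₃
  have e10 := mul_self_nonneg v₄
  have hs := sqrt'_spec (q := ((c : ℤ) - 1 - v₁ * v₁ - v₃ * v₃ - v₄ * v₄ -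
    sm R fun r => r.mu * (r.v * r.v)).toNat) (by omega)
  refine tcol_sound hs.1 hs.2 (fun r hr => ⟨(hbd r hr).1.1, by rw [hmu r hr]; exact one_pos⟩)
    (fun r hr => h.hv r (hSA r hr)) ?_ (by omega) ?_ ?_ ?_
  · refine List.IsChain.imp (fun a b hab e => ?_) hS3
    have := hab (congrArg Prod.fst e)
    have : (a.m + 100).toNat = (b.m + 100).toNat := congrArg Prod.snd e
    omega
  · have e5 := h.v11
    rw [sCB] at e5
    simp only at e5
    omega
  · have e5 := h.q11
    rw [sCB] at e5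
    simp only at e5
    omega
  rw [Bool.and_eq_true]
  refine ⟨?_, ?_⟩
  · simp only [tst, mx, Bool.and_eq_true, s4_perm hP]
    exact ⟨(h.t11 3 0).moB, (h.t11 4 0).moB, (h.t11 1 1).moB⟩
  · rw [bad, Bool.not_eq_true', ← Bool.not_eq_true, Bool.and_eq_true, List.all_eq_true, List.isPerm_iff]
    exact fun e => hbad ⟨fun r hr => of_decide_eq_true (e.1 r (hR.symm.subset hr)),
      (hB2.map Row.d).trans e.2⟩

end Cfsg.Agent.MT
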