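import Cfsg.Agent.MT.Dfs

/-!
# A search for the degrees and the values at `f` of the characters of one block, `|C(f)| = 960`
-/

set_option autoImplicit false

namespace Cfsg.Agent.MT.S192

/-- multiplicity of a degree -/
def mu (d : ℕ) : ℕ := if d % 23 = 11 ∨ d % 23 = 12 then 2 else 1

/-- degree, multiplicity, cost, signed contribution -/
abbrev En := ℕ × ℕ × ℕ × ℤ

/-- evaluate `z` first -/
def fi (z : ℤ) (f : ℤ → Bool) : Bool := match z with
  | .ofNat n => fc n fun n => f (.ofNat n)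
  | .negSucc n => fc n fun n => f (.negSucc n)

@[simp] theorem fi_eq (z : ℤ) (f : ℤ → Bool) : fi z f = f z := by cases z <;> simp [fi]

/-- evaluate a list first -/
def fl : List ℕ → (List ℕ → Bool) → Bool
  | [], f => f []
  | x :: l, f => fc x fun a => fl l fun l => f (a :: l)

@[simp] theorem fl_eq (l : List ℕ) (f : List ℕ → Bool) : fl l f = f l := by
  induction l generalizing f with
  | nil => rfl
  | cons x l ih => simp [fl, ih]

def anyP (s k : ℕ) (F : En → List En → Bool) : List En → Bool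
  | [] => false
  | x :: l => Nat.ble s (k * x.1) && (F x l || anyP s k F l)

theorem anyP_of {s k : ℕ} {F : En → List En → Bool} (l₁ : List En) {x : En} {tl : List En}
    (h1 : ∀ y ∈ l₁, s ≤ k * y.1) (h2 : s ≤ k * x.1) (h : F x tl = true) :
    anyP s k F (l₁ ++ x :: tl) = true := by
  induction l₁ with
  | nil => simp [anyP, h2, h]
  | cons y l ih =>
    simp only [List.cons_append, anyP, Bool.and_eq_true, Bool.or_eq_true, Nat.ble_eq]
    exact ⟨h1 y List.mem_cons_self, .inr (ih fun z hz => h1 z (List.mem_cons_of_mem _ hz))⟩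

/-- the search for the degrees -/
def dg (fin : List ℕ → ℕ → Bool) : ℕ → List En → ℕ → ℕ → ℤ → List ℕ → Bool
  | 0, _, m, r, s, acc => m == 0 && (s == 0 && fin acc r)
  | k + 1, l, m, r, s, acc => fc s.natAbs fun sa => anyP sa (k + 1) (fun x tl =>
      Nat.ble (x.2.1 + k) m && (Nat.ble x.2.2.1 r && fc (m - x.2.1) fun m' =>
        fc (r - x.2.2.1) fun r' => fi (s + x.2.2.2) fun s' =>
          dg fin k (x :: tl) m' r' s' (x.1 :: acc))) l

theorem abs_sum_le (D : ℕ) : ∀ P : List En, (∀ x ∈ P, x.2.2.2.natAbs ≤ D) →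
    (P.map fun x : En => x.2.2.2).sum.natAbs ≤ P.length * D
  | [], _ => by simp
  | x :: P, h => by
    have h1 := abs_sum_le D P fun y hy => h y (List.mem_cons_of_mem _ hy)
    have h2 := h x List.mem_cons_self
    simp only [List.map_cons, List.sum_cons, List.length_cons, add_mul]
    omega

theorem len_le : ∀ P : List En, (∀ x ∈ P, 1 ≤ x.2.1) → P.length ≤ (P.map fun x => x.2.1).sum
  | [], _ => by simp
  | x :: P, h => by
    have h1 := len_le P fun y hy => h y (List.mem_cons_of_mem _ hy)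
    have h2 := h x List.mem_cons_self
    simp only [List.map_cons, List.sum_cons, List.length_cons]
    omega

theorem dg_sound {fin : List ℕ → ℕ → Bool} : ∀ (P l : List En) (m r : ℕ) (s : ℤ) (acc : List ℕ),
    l.Pairwise (fun a b => b.1 < a.1) → (∀ x ∈ P, x ∈ l) →
    (∀ x ∈ P, 1 ≤ x.2.1 ∧ x.2.2.2.natAbs ≤ x.1) → P.Pairwise (fun a b => b.1 ≤ a.1) →
    (P.map fun x => x.2.1).sum = m → (P.map fun x => x.2.2.1).sum ≤ r →
    s + (P.map fun x => x.2.2.2).sum = 0 →
    fin ((P.map fun x => x.1).reverse ++ acc) (r - (P.map fun x => x.2.2.1).sum) = true →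
    dg fin P.length l m r s acc = true
  | [], l, m, r, s, acc, _, _, _, _, h5, _, h7, h8 => by
    simp only [List.map_nil, List.sum_nil, add_zero, List.reverse_nil, List.nil_append,
      Nat.sub_zero] at h5 h7 h8
    simp [dg, ← h5, h7, h8]
  | x :: P, l, m, r, s, acc, h1, h2, h3, h4, h5, h6, h7, h8 => by
    obtain ⟨l₁, tl, rfl⟩ := List.append_of_mem (h2 x List.mem_cons_self)
    rw [List.pairwise_append] at h1
    rw [List.pairwise_cons] at h4
    have e1 := abs_sum_le x.1 (x :: P) fun y hy => (h3 y hy).2.trans (by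
      rcases List.mem_cons.1 hy with rfl | hy
      · rfl
      · exact h4.1 y hy)
    have e2 : s.natAbs ≤ (P.length + 1) * x.1 := by
      rw [List.length_cons] at e1
      omega
    have e3 := len_le P fun y hy => (h3 y (List.mem_cons_of_mem _ hy)).1
    simp only [List.map_cons, List.sum_cons, List.reverse_cons, List.append_assoc,
      List.singleton_append] at h5 h6 h7 h8
    rw [List.length_cons, dg, fc_eq]
    refine anyP_of l₁ (fun y hy => e2.trans (Nat.mul_le_mul_left _
      (h1.2.2 y hy x List.mem_cons_self).le)) e2 ?_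
    simp only [fc_eq, fi_eq, Bool.and_eq_true, Nat.ble_eq]
    refine ⟨by omega, by omega, dg_sound P _ _ _ _ _ h1.2.1 (fun y hy => ?_)
      (fun y hy => h3 y (List.mem_cons_of_mem _ hy)) h4.2 (by omega) (by omega) (by omega)
      (by rwa [Nat.sub_sub])⟩
    rcases List.mem_append.1 (h2 y (List.mem_cons_of_mem _ hy)) with e | e
    · exact absurd (h1.2.2 y e x List.mem_cons_self) (not_lt.2 (h4.1 y hy))
    · exact e

/-- the rows of the value search -/
def mk (O : ℕ → List Opt) : ℕ → List ℕ → List (Bool × List Opt)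
  | _, [] => []
  | p, d :: l => (!(p == d), O d) :: mk O d l

theorem ch_mk {op : ℕ × ℤ → Opt} {O : ℕ → List Opt} : ∀ (R : List (ℕ × ℤ)) (p pv : ℕ),
    (∀ x ∈ R, op x ∈ O x.1) → R.IsChain (fun a b => a.1 = b.1 → (op a).1 ≤ (op b).1) →
    (∀ x ∈ R.head?, p = x.1 → pv ≤ (op x).1) → Ch pv (R.map op) (mk O p (R.map fun x => x.1))
  | [], _, _, _, _, _ => trivial
  | x :: R, p, pv, h1, h2, h3 => by
    refine ⟨h1 x List.mem_cons_self, fun e => h3 x rfl (by simpa using e),
      ch_mk R _ _ (fun y hy => h1 y (List.mem_cons_of_mem _ hy)) h2.tail fun y hy => ?_⟩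
    cases R with
    | nil => cases hy
    | cons z R =>
      obtain rfl : z = y := by simpa using hy
      exact (List.isChain_cons_cons.1 h2).1

def look (T : List (ℕ × List Opt)) (d : ℕ) : List Opt :=
  List.rec [] (fun x _ ih => Bool.rec ih x.2 (Nat.beq x.1 d)) T

def sdiv (cs : List ℕ) : ℕ := List.rec 0 (fun c _ ih => Nat.add (Nat.div c 1024) ih) cs

theorem sdiv_eq (cs : List ℕ) : sdiv cs = (cs.map (· / 1024)).sum := by
  induction cs with
  | nil => rfl
  | cons c cs ih => rw [List.map_cons, List.sum_cons, ← ih]; rfl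

def dec (L cs : List ℕ) : List (ℕ × ℤ) := List.zipWith (fun d c => (d, ((c % 1024 : ℕ) : ℤ) - 40)) L cs

def en (c : ℕ → ℤ) (d : ℕ) : En := (d, mu d, mu d * (d * d), c d * d)

def op (c : ℕ → ℤ) (M : ℕ) (x : ℕ × ℤ) : Opt :=
  (1024 * ((c x.1 * (x.1 * om 255024 x.2 x.1 ^ 2)) % M).toNat + (x.2 + 40).toNat,
    mu x.1 * (x.2.natAbs * x.2.natAbs), (c x.1 * x.2 + 40).toNat, 0)

/-- degrees not divisible by `5` -/
def live (d : ℕ) : Bool := !(Nat.beq (Nat.mod d 5) 0)

/-- sum over a list of pairs -/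
def sp (l : List (ℕ × ℤ)) (F : ℕ → ℤ → ℤ) : ℤ := (l.map fun x => F x.1 x.2).sum

/-- degrees and values of one block -/
def side (E : List En) (T : List (ℕ × List Opt)) (M k m r : ℕ) (s : ℤ) (q : ℕ) (sf : ℤ) (z : ℕ)
    (pt : List ℕ → Bool) (fin : List ℕ → ℕ → List (ℕ × ℤ) → Bool) : Bool :=
  fc k fun k => fc m fun m => fc r fun r => fi s fun s => fc q fun q => fi sf fun sf =>
  fc z fun z => dg (fun acc r' => pt acc && fl (acc.filter live) fun L =>
    run (mk (look T) 0 L) q (40 * (L.length : ℤ) - sf).toNat 0 fun cs =>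
      an (Nat.beq (Nat.mod (Nat.add z (sdiv cs)) M) 0) (fin acc r' (dec L.reverse cs))) k E m r s []

/-- the tables know the pair `x` -/
def Gd (c : ℕ → ℤ) (E : List En) (T : List (ℕ × List Opt)) (M : ℕ) (x : ℕ × ℤ) : Prop :=
  en c x.1 ∈ E ∧ (c x.1 * x.1).natAbs ≤ x.1 ∧ (live x.1 = false → x.2 = 0) ∧
    (live x.1 = true → op c M x ∈ look T x.1) ∧ |x.2| ≤ 40 ∧ |c x.1 * x.2| ≤ 40

theorem sp_perm {X Y : List (ℕ × ℤ)} (h : X.Perm Y) (F : ℕ → ℤ → ℤ) : sp X F = sp Y F :=
  (h.map _).sum_eq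

@[simp] theorem sp_nil (F : ℕ → ℤ → ℤ) : sp [] F = 0 := rfl

@[simp] theorem sp_cons (x : ℕ × ℤ) (X : List (ℕ × ℤ)) (F : ℕ → ℤ → ℤ) :
    sp (x :: X) F = F x.1 x.2 + sp X F := by simp [sp]

@[simp] theorem sp_append (X Y : List (ℕ × ℤ)) (F : ℕ → ℤ → ℤ) :
    sp (X ++ Y) F = sp X F + sp Y F := by simp [sp]

theorem sp_live {X : List (ℕ × ℤ)} (h : ∀ x ∈ X, live x.1 = false → x.2 = 0) {F : ℕ → ℤ → ℤ}
    (hF : ∀ d, F d 0 = 0) : sp (X.filter fun x => live x.1) F = sp X F := by
  induction X with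
  | nil => rfl
  | cons x X ih =>
    have h1 := ih fun y hy => h y (List.mem_cons_of_mem _ hy)
    rcases e : live x.1 with _ | _
    · rw [List.filter_cons_of_neg (by simp [e]), h1, sp_cons, h x List.mem_cons_self e, hF, zero_add]
    · rw [List.filter_cons_of_pos (by simp [e]), sp_cons, sp_cons, h1]

theorem sp_cast (X : List (ℕ × ℤ)) (g : ℕ × ℤ → ℕ) (F : ℕ → ℤ → ℤ) (h : ∀ x ∈ X, (g x : ℤ) = F x.1 x.2) :
    ((X.map g).sum : ℕ) = sp X F := by
  induction X with
  | nil => rfl
  | cons x X ih =>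
    rw [List.map_cons, List.sum_cons, sp_cons, Nat.cast_add, h x List.mem_cons_self,
      ih fun y hy => h y (List.mem_cons_of_mem _ hy)]

theorem sp_add_const (X : List (ℕ × ℤ)) (F : ℕ → ℤ → ℤ) (a : ℤ) :
    sp X (fun d f => F d f + a) = sp X F + a * X.length := by
  induction X with
  | nil => simp
  | cons x X ih => simp only [sp_cons, ih, List.length_cons]; push_cast; ring

theorem sp_emod (X : List (ℕ × ℤ)) (F : ℕ → ℤ → ℤ) (M : ℤ) :
    M ∣ sp X F - sp X (fun d f => F d f % M) := by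
  induction X with
  | nil => simp
  | cons x X ih =>
    simp only [sp_cons]
    have := Int.dvd_self_sub_emod (x := F x.1 x.2) (m := M)
    have e : F x.1 x.2 + sp X F - (F x.1 x.2 % M + sp X fun d f => F d f % M) =
        (F x.1 x.2 - F x.1 x.2 % M) + (sp X F - sp X fun d f => F d f % M) := by ring
    rw [e]
    exact this.add ih

theorem side_sound {c : ℕ → ℤ} {E : List En} {T : List (ℕ × List Opt)} {M k m r : ℕ} {s : ℤ} {q : ℕ}
    {sf : ℤ} {z : ℕ} {pt : List ℕ → Bool} {fin : List ℕ → ℕ → List (ℕ × ℤ) → Bool}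
    {X : List (ℕ × ℤ)} (hM : 0 < M) (hE : E.Pairwise fun a b => b.1 < a.1)
    (hX : ∀ x ∈ X, Gd c E T M x)
    (hk : X.length = k) (hm : sp X (fun d _ => mu d) = m)
    (hr : sp X (fun d _ => mu d * (d * d)) ≤ r) (hs : s + sp X (fun d _ => c d * d) = 0)
    (hq : sp X (fun d f => mu d * (f * f)) ≤ q) (hf : sf + sp X (fun d f => c d * f) = 0)
    (hz : (M : ℤ) ∣ z + sp X fun d f => c d * (d * om 255024 f d ^ 2))
    (hp : ∀ acc : List ℕ, acc.Perm (X.map fun x => x.1) → pt acc = true)
    (hfin : ∀ (acc : List ℕ) (r' : ℕ) (X' : List (ℕ × ℤ)), acc.Perm (X.map fun x => x.1) →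
      (r' : ℤ) = r - sp X (fun d _ => mu d * (d * d)) → X'.Perm (X.filter fun x => live x.1) →
      fin acc r' X' = true) :
    side E T M k m r s q sf z pt fin = true := by
  simp only [side, fc_eq, fi_eq, fl_eq]
  obtain ⟨S, hS, hS'⟩ : ∃ S : List (ℕ × ℤ), S.Perm X ∧ S.Pairwise fun a b => b.1 ≤ a.1 := by
    refine ⟨X.mergeSort fun a b => decide (b.1 ≤ a.1), List.mergeSort_perm _ _, ?_⟩
    have := List.pairwise_mergeSort (le := fun a b : ℕ × ℤ => decide (b.1 ≤ a.1))
      (fun a b c h1 h2 => by simp only [decide_eq_true_eq] at *; omega)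
      (fun a b => by simp only [Bool.or_eq_true, decide_eq_true_eq]; omega) X
    simpa using this
  have c1 := sp_cast S (fun x => mu x.1) (fun d _ => mu d) fun _ _ => rfl
  have c2 := sp_cast S (fun x => mu x.1 * (x.1 * x.1)) (fun d _ => mu d * (d * d))
    fun _ _ => by push_cast; rfl
  rw [sp_perm hS] at c1 c2
  have hl : (S.map fun x => en c x.1).length = k := by rw [List.length_map, hS.length_eq, hk]
  rw [← hl]
  refine dg_sound _ _ _ _ _ _ hE ?_ ?_ ?_ ?_ ?_ ?_ ?_
  · intro y hy
    obtain ⟨x, hx, rfl⟩ := List.mem_map.1 hy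
    exact (hX x (hS.subset hx)).1
  · intro y hy
    obtain ⟨x, hx, rfl⟩ := List.mem_map.1 hy
    refine ⟨?_, (hX x (hS.subset hx)).2.1⟩
    show 1 ≤ mu x.1
    unfold mu
    split_ifs <;> omega
  · rw [List.pairwise_map]; exact hS'
  · rw [List.map_map]
    show (S.map fun x => mu x.1).sum = m
    omega
  · rw [List.map_map]
    show (S.map fun x => mu x.1 * (x.1 * x.1)).sum ≤ r
    omega
  · rw [List.map_map, ← hs, ← sp_perm hS]
    rfl
  rw [List.map_map, List.map_map, List.append_nil]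
  set acc := (S.map ((fun x : En => x.1) ∘ fun x => en c x.1)).reverse with hacc
  have a1 : acc.Perm (X.map fun x => x.1) := (List.reverse_perm _).trans (hS.map _)
  have a2 : ((X.filter fun x => live x.1).map fun x => x.1).Perm (acc.filter live) := by
    refine List.Perm.trans ?_ (a1.filter live).symm
    rw [List.filter_map]
    rfl
  obtain ⟨R, r1, r2, r3⟩ := exists_sorted (fun x : ℕ × ℤ => x.1) (fun x => (op c M x).1) _ _ a2
  have r4 : ∀ x ∈ R, Gd c E T M x ∧ live x.1 = true := fun x hx => by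
    have := List.mem_filter.1 (r1.subset hx)
    exact ⟨hX x this.1, this.2⟩
  have r5 : ∀ F : ℕ → ℤ → ℤ, (∀ d, F d 0 = 0) → sp R F = sp X F := fun F hF => by
    rw [sp_perm r1, sp_live (fun x hx => (hX x hx).2.2.1) hF]
  rw [Bool.and_eq_true, ← r2]
  refine ⟨hp _ a1, run_sound (P := R.map (op c M)) (ch_mk R 0 0
    (fun x hx => (r4 x hx).1.2.2.2.1 (r4 x hx).2) r3 fun _ _ _ => Nat.zero_le _) ?_ ?_ ?_ ?_⟩
  · have := sp_cast R (fun x => mu x.1 * (x.2.natAbs * x.2.natAbs)) (fun d f => mu d * (f * f))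
      fun x _ => by push_cast; rw [abs_mul_abs_self]
    rw [r5 _ fun d => by simp] at this
    rw [List.map_map]
    show (R.map fun x => mu x.1 * (x.2.natAbs * x.2.natAbs)).sum ≤ q
    omega
  · have := sp_cast R (fun x => (c x.1 * x.2 + 40).toNat) (fun d f => c d * f + 40)
      fun x hx => Int.toNat_of_nonneg (by have := abs_le.1 (r4 x hx).1.2.2.2.2.2; omega)
    rw [sp_add_const, r5 _ fun d => by simp] at this
    rw [List.map_map, List.length_map]
    show (R.map fun x => (c x.1 * x.2 + 40).toNat).sum = _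
    have e : (40 : ℤ) * R.length - sf = ((R.map fun x => (c x.1 * x.2 + 40).toNat).sum : ℕ) := by
      rw [this]; linear_combination -hf
    rw [e, Int.toNat_natCast]
  · rw [List.map_map]
    show (R.map fun _ => 0).sum = 0
    simp
  rw [an_eq, Bool.and_eq_true]
  constructor
  · rw [Nat.beq_eq, sdiv_eq, List.map_reverse, List.sum_reverse, List.map_map, List.map_map]
    have e1 := sp_cast R ((fun c => c / 1024) ∘ (fun o : Opt => o.1) ∘ op c M)
      (fun d f => (c d * (d * om 255024 f d ^ 2)) % M) fun x hx => by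
        have := abs_le.1 (r4 x hx).1.2.2.2.2.1
        have h0 := Int.emod_nonneg (c x.1 * (x.1 * om 255024 x.2 x.1 ^ 2)) (b := M) (by omega)
        simp only [Function.comp, op]
        omega
    have e2 := sp_emod R (fun d f => c d * (d * om 255024 f d ^ 2)) M
    rw [r5 _ fun d => by simp [om], ← e1] at e2
    refine Nat.mod_eq_zero_of_dvd (Int.natCast_dvd_natCast.1 ?_)
    have := hz.sub e2
    rw [add_sub_assoc, sub_sub_cancel, ← Nat.cast_add] at this
    exact this
  · refine hfin _ _ _ a1 ?_ (List.Perm.trans (List.Perm.of_eq ?_) ((List.reverse_perm R).trans r1))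
    · show ((r - (S.map fun x => mu x.1 * (x.1 * x.1)).sum : ℕ) : ℤ) = _
      omega
    · rw [dec, List.map_map, ← List.map_reverse, ← List.map_reverse, List.zipWith_map,
        List.zipWith_self]
      conv_rhs => rw [← List.map_id R.reverse]
      refine List.map_congr_left fun x hx => Prod.ext rfl ?_
      have := abs_le.1 (r4 x (List.mem_reverse.1 hx)).1.2.2.2.2.1
      simp only [Function.comp, op, id]
      omega

end Cfsg.Agent.MT.S192
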