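import Cfsg.Agent.MT.S3B
import Cfsg.Agent.MT.K0
import Cfsg.Agent.MT.K1
import Cfsg.Agent.MT.K2
import Cfsg.Agent.MT.K3
import Cfsg.Agent.MT.K4
import Cfsg.Agent.MT.K5
import Cfsg.Agent.MT.K6

/-!
# The table, from the two lists of degrees
-/

set_option autoImplicit false

namespace Cfsg.Agent.MT

theorem tk_a : ∀ L ∈ E.L23, s3 0 20 80 (s4 E.L11 0 20) L = false :=
  of_ck (k := 33) (m := 8) (by decide) (by decide) fun i hi => match i, hi with
    | 0, _ => cka_0
    | 1, _ => cka_1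
    | 2, _ => cka_2
    | 3, _ => cka_3
    | 4, _ => cka_4
    | 5, _ => cka_5
    | 6, _ => cka_6
    | 7, _ => cka_7
    | _ + 8, h => absurd h (by omega)

theorem tk_b : ∀ L ∈ E.L23, s3 1 60 240 (s4 E.L11 1 60) L = false :=
  of_ck (k := 12) (m := 22) (by decide) (by decide) fun i hi => match i, hi with
    | 0, _ => ckb_0
    | 1, _ => ckb_1
    | 2, _ => ckb_2
    | 3, _ => ckb_3
    | 4, _ => ckb_4
    | 5, _ => ckb_5
    | 6, _ => ckb_6
    | 7, _ => ckb_7
    | 8, _ => ckb_8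
    | 9, _ => ckb_9
    | 10, _ => ckb_10
    | 11, _ => ckb_11
    | 12, _ => ckb_12
    | 13, _ => ckb_13
    | 14, _ => ckb_14
    | 15, _ => ckb_15
    | 16, _ => ckb_16
    | 17, _ => ckb_17
    | 18, _ => ckb_18
    | 19, _ => ckb_19
    | 20, _ => ckb_20
    | 21, _ => ckb_21
    | _ + 22, h => absurd h (by omega)

theorem tk_c : ∀ L ∈ E.L23, s3 2 60 120 (s4 E.L11 2 60) L = false :=
  of_ck (k := 8) (m := 33) (by decide) (by decide) fun i hi => match i, hi with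
    | 0, _ => ckc_0
    | 1, _ => ckc_1
    | 2, _ => ckc_2
    | 3, _ => ckc_3
    | 4, _ => ckc_4
    | 5, _ => ckc_5
    | 6, _ => ckc_6
    | 7, _ => ckc_7
    | 8, _ => ckc_8
    | 9, _ => ckc_9
    | 10, _ => ckc_10
    | 11, _ => ckc_11
    | 12, _ => ckc_12
    | 13, _ => ckc_13
    | 14, _ => ckc_14
    | 15, _ => ckc_15
    | 16, _ => ckc_16
    | 17, _ => ckc_17
    | 18, _ => ckc_18
    | 19, _ => ckc_19
    | 20, _ => ckc_20
    | 21, _ => ckc_21
    | 22, _ => ckc_22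
    | 23, _ => ckc_23
    | 24, _ => ckc_24
    | 25, _ => ckc_25
    | 26, _ => ckc_26
    | 27, _ => ckc_27
    | 28, _ => ckc_28
    | 29, _ => ckc_29
    | 30, _ => ckc_30
    | 31, _ => ckc_31
    | 32, _ => ckc_32
    | _ + 33, h => absurd h (by omega)

theorem tk_d : ∀ L ∈ E.L23, s3 3 20 80 (s4 E.L11 3 20) L = false :=
  of_ck (k := 8) (m := 33) (by decide) (by decide) fun i hi => match i, hi with
    | 0, _ => ckd_0
    | 1, _ => ckd_1
    | 2, _ => ckd_2
    | 3, _ => ckd_3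
    | 4, _ => ckd_4
    | 5, _ => ckd_5
    | 6, _ => ckd_6
    | 7, _ => ckd_7
    | 8, _ => ckd_8
    | 9, _ => ckd_9
    | 10, _ => ckd_10
    | 11, _ => ckd_11
    | 12, _ => ckd_12
    | 13, _ => ckd_13
    | 14, _ => ckd_14
    | 15, _ => ckd_15
    | 16, _ => ckd_16
    | 17, _ => ckd_17
    | 18, _ => ckd_18
    | 19, _ => ckd_19
    | 20, _ => ckd_20
    | 21, _ => ckd_21
    | 22, _ => ckd_22
    | 23, _ => ckd_23
    | 24, _ => ckd_24
    | 25, _ => ckd_25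
    | 26, _ => ckd_26
    | 27, _ => ckd_27
    | 28, _ => ckd_28
    | 29, _ => ckd_29
    | 30, _ => ckd_30
    | 31, _ => ckd_31
    | 32, _ => ckd_32
    | _ + 33, h => absurd h (by omega)

theorem tk_e : ∀ L ∈ E.L23, s3 3 20 40 (s4 E.L11 3 20) L = false :=
  of_ck (k := 8) (m := 33) (by decide) (by decide) fun i hi => match i, hi with
    | 0, _ => cke_0
    | 1, _ => cke_1
    | 2, _ => cke_2
    | 3, _ => cke_3
    | 4, _ => cke_4
    | 5, _ => cke_5
    | 6, _ => cke_6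
    | 7, _ => cke_7
    | 8, _ => cke_8
    | 9, _ => cke_9
    | 10, _ => cke_10
    | 11, _ => cke_11
    | 12, _ => cke_12
    | 13, _ => cke_13
    | 14, _ => cke_14
    | 15, _ => cke_15
    | 16, _ => cke_16
    | 17, _ => cke_17
    | 18, _ => cke_18
    | 19, _ => cke_19
    | 20, _ => cke_20
    | 21, _ => cke_21
    | 22, _ => cke_22
    | 23, _ => cke_23
    | 24, _ => cke_24
    | 25, _ => cke_25
    | 26, _ => cke_26
    | 27, _ => cke_27
    | 28, _ => cke_28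
    | 29, _ => cke_29
    | 30, _ => cke_30
    | 31, _ => cke_31
    | 32, _ => cke_32
    | _ + 33, h => absurd h (by omega)

theorem tk_all : ∀ x ∈ tys, ∀ L ∈ E.L23, s3 x.1 x.2.1 x.2.2 (s4 E.L11 x.1 x.2.1) L = false := by
  intro x hx
  simp only [tys, List.mem_cons, List.not_mem_nil, or_false] at hx
  rcases hx with rfl | rfl | rfl | rfl | rfl
  exacts [tk_a, tk_b, tk_c, tk_d, tk_e]

theorem table_of {ty ch n c d₃ d₄ : ℕ} {v₁ v₂ v₃ v₄ : ℤ} {C A B : List Row}
    (h : TT ty ch n c d₃ d₄ v₁ v₂ v₃ v₄ C A B) (h2 : ∃ L ∈ E.L23, ((C ++ A).map key).Perm L)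
    (h1 : ∃ L ∈ E.L11, ((C ++ B).map key).Perm L) :
    (∀ r ∈ C ++ A, r.d ≤ 275 → r.d ∈ [45, 231, 252]) ∧
      (B.map Row.d).Perm [23, 483, 1035, 1035, 1035, 3312, 5796] := by
  by_contra hb
  obtain ⟨L, hL, hp⟩ := h2
  have := tk_all _ h.hty L hL
  rw [s3b_sound h hp fun R hR => s4_sound h hR h1 hb] at this
  cases this

end Cfsg.Agent.MT
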