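import Cfsg.Agent.MT.TabK
import Cfsg.Agent.MT.S12

/-!
# The table
-/

set_option autoImplicit false

namespace Cfsg.Agent.MT

theorem TT.table {ty ch n c d₃ d₄ : ℕ} {v₁ v₂ v₃ v₄ : ℤ} {C A B : List Row}
    (h : TT ty ch n c d₃ d₄ v₁ v₂ v₃ v₄ C A B)
    (h5 : ∀ r ∈ C ++ A ++ B, r.d % 5 = 0 → r.f = 0 ∧ r.m = 0) :
    (∀ r ∈ C ++ A, r.d ≤ 275 → r.d ∈ [45, 231, 252]) ∧
      (B.map Row.d).Perm [23, 483, 1035, 1035, 1035, 3312, 5796] :=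
  table_of h (E.s2 h.toTF fun r hr e => (h5 r hr e).1) (E.s1 h.toTF fun r hr e => (h5 r hr e).1)

end Cfsg.Agent.MT
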