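import Cfsg.Agent.MT.TyB
import Cfsg.Agent.BT.Blk

/-!
# The types of the column of `t f`
-/

set_option autoImplicit false

namespace Cfsg.Agent.MT

open Subgroup Finset Cfsg.Agent.M11 Cfsg.Agent.Char Cfsg.Agent.MK Cfsg.Agent.Zass Cfsg.Agent.Small

variable {G : Type*} [Group G] [Finite G]

theorem exists_ty2 {t f : G} (hf : LD 5 4 12 f) (ht : orderOf t = 2) (htf : Commute t f) :
    ∃ ty ch n : ℕ, (ty, ch, n) ∈ tys ∧ (∀ k ∈ Ico 1 5, cc (f ^ k * t) = ch) ∧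
      (cc t % n = 0 ∧ cc t / n % 5 = 1) ∧
      ∀ χ : G → ℂ, IsIrrCharacter G χ → ∀ φ : ℤ, χ f = φ →
        ∃ m : ℤ, ∑ k ∈ Ico 1 5, χ (f ^ k * t) = 4 * m ∧ okm ty φ m ∧ (ty = 3 → okm 2 φ m) :=
  exists_ty' hf ht htf fun Q R _ _ h1 h2 h3 h4 _ hχ => BT.blk2 hf Q R h1 h2 h3 h4 hχ

theorem exists_ty {t f : G} (hf : LD 5 4 12 f) (ht : orderOf t = 2) (htf : Commute t f) :
    ∃ ty ch n : ℕ, (ty, ch, n) ∈ tys ∧ (∀ k ∈ Ico 1 5, cc (f ^ k * t) = ch) ∧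
      (cc t % n = 0 ∧ cc t / n % 5 = 1) ∧
      ∀ χ : G → ℂ, IsIrrCharacter G χ → ∀ φ : ℤ, χ f = φ →
        ∃ m : ℤ, ∑ k ∈ Ico 1 5, χ (f ^ k * t) = 4 * m ∧ okm ty φ m := by
  obtain ⟨ty, ch, n, h1, h2, h3, h4⟩ := exists_ty2 hf ht htf
  exact ⟨ty, ch, n, h1, h2, h3, fun χ hχ φ hφ => (h4 χ hχ φ hφ).imp fun _ h => ⟨h.1, h.2.1⟩⟩

end Cfsg.Agent.MT
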