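import Cfsg.Agent.MK.UVal
import Cfsg.Agent.MK.Loc2
import Cfsg.Agent.Mat.Frob
import Cfsg.Agent.Small.Sieve

/-!
# The class of an involution centralising an element of order five with centraliser of order `60`
-/

set_option autoImplicit false
set_option linter.unusedSectionVars false

namespace Cfsg.Agent.MT

open Subgroup Cfsg.Agent.M11 Cfsg.Agent.MK Cfsg.Agent.Small Cfsg.Agent.Local

variable {G : Type*} [Group G] [Finite G]

theorem exists_tf {u : G} (hu : LD 11 10 1 u) : ∃ t f : G, orderOf t = 2 ∧ orderOf f = 5 ∧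
    Commute t f ∧ t * u * t⁻¹ = u⁻¹ ∧ f ∈ normalizer (zpowers u : Set G) := by
  have := Fintype.ofFinite G
  have := Fact.mk hu.pr
  have hp : PP 11 u := ⟨by norm_num, hu.ord, hu.sq⟩
  obtain ⟨t, ht, htu⟩ := hp.exists_inv (by rw [hu.ee (by norm_num)]; norm_num) (by rw [hu.ccx]; norm_num)
  have htN : t ∈ normalizer (zpowers u : Set G) := mem_normalizer_of_conj_mem (by
    rintro _ ⟨k, rfl⟩
    simp only [← conj_zpow, htu]
    exact zpow_mem (inv_mem (mem_zpowers u)) k)
  have h1 := card_inf_centralizer_mul (normalizer (zpowers u : Set G)) t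
  have h2 : {w | ∃ r ∈ normalizer (zpowers u : Set G), r * t * r⁻¹ = w}.ncard ≤ 11 := by
    have h3 : ((· * t) '' (centralizer ({u} : Set G) : Set G)).ncard = 11 := by
      rw [Set.ncard_image_of_injective _ (mul_left_injective t)]
      exact hu.ccx
    rw [← h3]
    refine Set.ncard_le_ncard ?_ (Set.toFinite _)
    rintro _ ⟨r, hr, rfl⟩
    exact ⟨_, l2_comm (inv_mem hr) htN, by simp⟩
  have h3 : ¬ 11 ∣ Nat.card ↥(normalizer (zpowers u : Set G) ⊓ centralizer {t}) := fun h => by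
    obtain ⟨y, hy, h4⟩ := exists_mem_orderOf_eq_of_dvd_card hu.pr h
    have h5 := orderOf_dvd_cc (mem_centralizer_singleton_iff.1 hy.2).symm
    rw [ht, (hu.of_ord h4).ccx] at h5
    omega
  rw [hu.nrm] at h1
  have h4 : 5 ∣ Nat.card ↥(normalizer (zpowers u : Set G) ⊓ centralizer {t}) := by
    generalize {w | ∃ r ∈ normalizer (zpowers u : Set G), r * t * r⁻¹ = w}.ncard = k at h1 h2
    interval_cases k <;> omega
  obtain ⟨f, hf, h5⟩ := exists_mem_orderOf_eq_of_dvd_card Nat.prime_five h4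
  exact ⟨t, f, ht, h5, (mem_centralizer_singleton_iff.1 hf.2).symm, htu, hf.1⟩

theorem ncard_ord (Y : Subgroup G) (n : ℕ) : {y : G | y ∈ Y ∧ orderOf y = n}.ncard = mo Y n := by
  rw [mo, ← Set.ncard_image_of_injective _ Subtype.val_injective]
  congr 1
  ext y
  exact ⟨fun h => ⟨⟨y, h.1⟩, (orderOf_coe _).symm.trans h.2, rfl⟩,
    fun ⟨z, h, e⟩ => e ▸ ⟨z.2, (orderOf_coe _).trans h⟩⟩

/-- The shape of the class `K` of an involution `t` of a group `Y` of order twelve under `N`. -/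
theorem shape {Y N : Subgroup G} (hY : Nat.card Y = 12) (hYN : Y ≤ N) (hN : N ≤ normalizer (Y : Set G))
    {t : G} (ht : orderOf t = 2) (htY : t ∈ Y) {K : Set G} (hK : K = {w | ∃ r ∈ N, r * t * r⁻¹ = w})
    (h4 : (∀ y ∈ Y, y * t = t * y) → K.ncard ∣ 4) :
    ∃ Q R : Subgroup G, Q ≤ R ∧ R ≤ Y ∧ N ≤ normalizer (Q : Set G) ∧ (∀ g ∈ K, g ∈ R ∧ g ∉ Q) ∧
      Nat.card R = Nat.card Q + K.ncard ∧
      (Nat.card Q, K.ncard, {w | ∃ r ∈ Y, r * t * r⁻¹ = w}.ncard) ∈
        [(1, 1, 1), (2, 2, 1), (1, 3, 3), (3, 3, 3), (6, 6, 3)] := by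
  have f3 : Fact (Nat.Prime 3) := ⟨Nat.prime_three⟩
  have tK : t ∈ K := hK ▸ ⟨1, one_mem _, by simp⟩
  have hKc : ∀ n ∈ N, ∀ g ∈ K, n * g * n⁻¹ ∈ K := by
    subst hK
    rintro n hn _ ⟨r, hr, rfl⟩
    exact ⟨n * r, mul_mem hn hr, by group⟩
  have hKo : ∀ g ∈ K, g ∈ Y ∧ orderOf g = 2 := by
    subst hK
    rintro _ ⟨r, hr, rfl⟩
    exact ⟨conj_mem_of_mem_normalizer (hN hr) htY, (Local.orderOf_conj' r t).trans ht⟩
  have hK1 : ∀ g ∈ K, g ≠ 1 := fun g hg e => by have := (hKo g hg).2; rw [e, orderOf_one] at this; omega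
  have hK2 : ∀ g ∈ K, g * g = 1 := fun g hg => by rw [← pow_two, ← (hKo g hg).2, pow_orderOf_eq_one]
  have hbot : N ≤ normalizer ((⊥ : Subgroup G) : Set G) := by rw [normalizer_eq_top]; exact le_top
  have hle : ∀ R : Subgroup G, K ⊆ R → K.ncard + 1 ≤ Nat.card R := fun R hR => by
    rw [← Set.ncard_insert_of_notMem fun h => hK1 1 h rfl]
    exact Set.ncard_le_ncard (Set.insert_subset R.one_mem hR) (Set.toFinite _)
  have h1 := card_inf_centralizer_mul Y t
  have h2 : 4 ∣ Nat.card ↥(Y ⊓ centralizer {t}) := by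
    have := four_dvd_cc (G := Y) (by rw [hY]; norm_num) (s := ⟨t, htY⟩) (by rw [← orderOf_coe]; exact ht)
    refine this.trans (dvd_of_eq ?_)
    rw [cc, inf_comm, ← subgroupOf_map_subtype, card_map_of_injective (subtype_injective _)]
    congr 2
    ext y
    simp only [mem_centralizer_singleton_iff, mem_subgroupOf, Subtype.ext_iff, coe_mul]
  set j := {w | ∃ r ∈ Y, r * t * r⁻¹ = w}.ncard with hj
  have hjK : j ≤ K.ncard := Set.ncard_le_ncard (hK ▸ fun _ ⟨r, hr, e⟩ => ⟨r, hYN hr, e⟩) (Set.toFinite _)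
  rw [hY] at h1
  have h3 : (Nat.card ↥(Y ⊓ centralizer {t}) = 12 ∧ j = 1) ∨ (Nat.card ↥(Y ⊓ centralizer {t}) = 4 ∧ j = 3) := by
    obtain ⟨a, ha⟩ := h2
    rw [ha] at h1 ⊢
    have : j ∣ 3 := ⟨a, by nlinarith⟩
    rcases (Nat.dvd_prime Nat.prime_three).1 this with e | e <;> rw [e] at h1 <;> omega
  rcases h3 with ⟨h3, e⟩ | ⟨h3, e⟩
  · have h5 : ∀ y ∈ Y, y * t = t * y := fun y hy => mem_centralizer_singleton_iff.1
      ((eq_of_le_of_card_ge (inf_le_left : Y ⊓ centralizer {t} ≤ Y) (by rw [hY, h3])).ge hy).2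
    have h6 : ∀ g ∈ K, ∀ y ∈ Y, y * g = g * y := by
      subst hK
      rintro _ ⟨r, hr, rfl⟩ y hy
      have := h5 _ (inv_conj_mem_of_mem_normalizer (hN hr) hy)
      calc _ = r * (r⁻¹ * y * r * t) * r⁻¹ := by group
        _ = _ := by rw [this]; group
    let Ω : Subgroup G :=
      { carrier := {g | g ∈ Y ∧ g * g = 1 ∧ ∀ y ∈ Y, y * g = g * y}
        one_mem' := ⟨one_mem _, one_mul _, by simp⟩
        mul_mem' := fun {a b} ha hb => ⟨mul_mem ha.1 hb.1, by
          rw [mul_assoc, ← mul_assoc b, ha.2.2 b hb.1, mul_assoc, hb.2.1, mul_one, ha.2.1], fun y hy => by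
          rw [← mul_assoc, ha.2.2 y hy, mul_assoc, hb.2.2 y hy, mul_assoc]⟩
        inv_mem' := fun {a} ha => by rw [inv_eq_of_mul_eq_one_right ha.2.1]; exact ha }
    have hΩ : Ω ≤ Y := fun _ h => h.1
    have hKΩ : K ⊆ Ω := fun g hg => ⟨(hKo g hg).1, hK2 g hg, h6 g hg⟩
    have h7 : Nat.card Ω ∣ 4 := by
      refine Nat.Coprime.dvd_of_dvd_mul_left (m := 3) ?_ ((card_dvd_of_le hΩ).trans (by rw [hY]))
      refine (Nat.prime_three.coprime_iff_not_dvd.2 fun h => ?_).symm
      obtain ⟨y, hy, e⟩ := exists_mem_orderOf_eq_of_dvd_card Nat.prime_three h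
      have := orderOf_dvd_of_pow_eq_one ((pow_two y).trans hy.2.1)
      rw [e] at this
      omega
    have h8 := hle Ω hKΩ
    have h9 := Nat.le_of_dvd (by norm_num) h7
    have h10 := h4 h5
    have h11 : K.ncard = 1 ∨ K.ncard = 2 := by
      have : K.ncard ≤ 3 := by omega
      interval_cases K.ncard <;> omega
    rcases h11 with h11 | h11
    · obtain ⟨a, ha⟩ := Set.ncard_eq_one.1 h11
      obtain rfl : t = a := by simpa [ha] using tK
      refine ⟨⊥, zpowers t, bot_le, zpowers_le.2 htY, hbot, fun g hg => ⟨?_, hK1 g hg⟩, ?_, ?_⟩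
      · rw [ha] at hg
        exact hg ▸ mem_zpowers _
      · rw [Nat.card_zpowers, ht, card_bot, h11]
      · rw [card_bot, h11, e]; simp
    · obtain ⟨a, b, hab, hk⟩ := Set.ncard_eq_two.1 h11
      have aK : a ∈ K := by simp [hk]
      have bK : b ∈ K := by simp [hk]
      have hc : a * b = b * a := h6 b bK a (hKo a aK).1
      have zΩ : a * b ∈ Ω := mul_mem (hKΩ aK) (hKΩ bK)
      have z1 : a * b ≠ 1 := fun e => hab (mul_right_cancel (e.trans (hK2 b bK).symm))
      have zo : orderOf (a * b) = 2 := orderOf_eq_prime ((pow_two _).trans zΩ.2.1) z1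
      have hz : ∀ n ∈ N, n * (a * b) * n⁻¹ = a * b := fun n hn => by
        have e1 := hKc n hn a aK
        have e2 := hKc n hn b bK
        have e3 : n * a * n⁻¹ ≠ n * b * n⁻¹ := by simpa using hab
        rw [← conj_mul]
        simp only [hk, Set.mem_insert_iff, Set.mem_singleton_iff] at e1 e2
        rcases e1 with e1 | e1 <;> rcases e2 with e2 | e2 <;> rw [e1, e2] at e3 ⊢
        exacts [absurd rfl e3, hc.symm, absurd rfl e3]
      refine ⟨zpowers (a * b), Ω, zpowers_le.2 zΩ, hΩ, fun n hn => mem_normalizer_of_conj_mem ?_,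
        fun g hg => ⟨hKΩ hg, fun h => ?_⟩, ?_, ?_⟩
      · rintro _ ⟨k, rfl⟩
        simp only [← conj_zpow, hz n hn]
        exact zpow_mem (mem_zpowers _) k
      · have e1 := eq_of_mem_zpowers_two zo h (hK1 g hg)
        simp only [hk, Set.mem_insert_iff, Set.mem_singleton_iff] at hg
        rcases hg with rfl | rfl
        · exact hK1 b bK (by simpa using e1)
        · exact hK1 a aK (by simpa using e1)
      · rw [Nat.card_zpowers, zo, h11]
        rw [h11] at h8
        interval_cases Nat.card Ω <;> omega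
      · rw [Nat.card_zpowers, zo, h11, e]; simp
  have h5 := Mat.mo_prime (G := Y) (p := 3) (m := 4) hY (by norm_num)
  rw [← ncard_ord] at h5
  have h6 : Nat.card (Sylow 3 Y) = 1 ∨ Nat.card (Sylow 3 Y) = 4 := by
    have e1 : Nat.card (Sylow 3 Y) % 3 = 1 := card_sylow_modEq_one 3 Y
    have e2 : Nat.card (Sylow 3 Y) ∣ 12 :=
      hY ▸ Dvd.intro_left _ (card_normalizer_mul (default : Sylow 3 Y))
    have e3 := Nat.le_of_dvd (by norm_num) e2
    interval_cases Nat.card (Sylow 3 Y) <;> omega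
  have hE : ∀ y ∈ Y ⊓ centralizer {t}, orderOf y ≠ 3 := fun y hy e => by
    have := orderOf_dvd_card_of_mem hy
    rw [e, h3] at this
    omega
  set T := {y : G | y ∈ Y ∧ orderOf y = 3} with hT
  rcases h6 with h6 | h6 <;> rw [h6] at h5
  · obtain ⟨r, rY, ro⟩ : T.Nonempty := Set.nonempty_of_ncard_ne_zero (by omega)
    have r1 : r ≠ r⁻¹ := fun e => by
      have := orderOf_dvd_of_pow_eq_one ((pow_two r).trans (mul_eq_one_iff_eq_inv.2 e))
      rw [ro] at this
      omega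
    have hT2 : {r, r⁻¹} = T := Set.eq_of_subset_of_ncard_le
      (Set.pair_subset ⟨rY, ro⟩ ⟨inv_mem rY, by rw [orderOf_inv, ro]⟩) (by rw [Set.ncard_pair r1, h5])
    have hr : ∀ n ∈ N, n * r * n⁻¹ = r ∨ n * r * n⁻¹ = r⁻¹ := fun n hn =>
      hT2.ge ⟨conj_mem_of_mem_normalizer (hN hn) rY, (Local.orderOf_conj' n r).trans ro⟩
    have hnc : ∀ g ∈ K, ¬ Commute r g := by
      subst hK
      rintro _ ⟨n, hn, rfl⟩ h
      refine hE (n⁻¹ * r * n⁻¹⁻¹) ⟨conj_mem_of_mem_normalizer (hN (inv_mem hn)) rY,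
        mem_centralizer_singleton_iff.2 ?_⟩ ((Local.orderOf_conj' _ r).trans ro)
      simpa [mul_assoc] using (commute_conj n⁻¹ h).eq
    have hW : Nat.card ↥(Y ⊓ centralizer {r}) = 6 := by
      have e1 := card_inf_centralizer_mul Y r
      have e2 : {w | ∃ y ∈ Y, y * r * y⁻¹ = w} = {r, r⁻¹} := by
        refine Set.Subset.antisymm ?_ (Set.pair_subset ⟨1, one_mem _, by simp⟩ ⟨t, htY, ?_⟩)
        · rintro _ ⟨y, hy, rfl⟩
          exact hr y (hYN hy)
        · exact (hr t (hYN htY)).resolve_left fun e => hnc t tK (mul_inv_eq_iff_eq_mul.1 e).symm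
      rw [e2, Set.ncard_pair r1, hY] at e1
      omega
    have hKW : ∀ g ∈ K, g ∈ Y ∧ g ∉ Y ⊓ centralizer {r} := fun g hg =>
      ⟨(hKo g hg).1, fun h => hnc g hg (mem_centralizer_singleton_iff.1 h.2).symm⟩
    have h7 : K.ncard ≤ 6 := by
      have e1 := Set.ncard_le_ncard (s := K) (t := (Y : Set G) \ (Y ⊓ centralizer {r} : Subgroup G))
        hKW (Set.toFinite _)
      rw [Set.ncard_sdiff (fun _ h => h.1) (Set.toFinite _), ncard_coe, ncard_coe, hY, hW] at e1
      exact e1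
    have h8 : 3 ∣ K.ncard := by
      by_contra h
      obtain ⟨u, hu, hc⟩ := exists_commute_of_not_dvd Nat.prime_three (ro ▸ pow_orderOf_eq_one r)
        (hKc r (hYN rY)) h
      exact hnc u hu hc
    have hR : N ≤ normalizer (zpowers r : Set G) := fun n hn => mem_normalizer_of_conj_mem (by
      rintro _ ⟨k, rfl⟩
      simp only [← conj_zpow]
      rcases hr n hn with e | e <;> rw [e]
      exacts [zpow_mem (mem_zpowers _) k, zpow_mem (inv_mem (mem_zpowers _)) k])
    have h9 : K.ncard = 3 ∨ K.ncard = 6 := by omega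
    rcases h9 with h9 | h9
    · have e1 := card_inf_centralizer_mul (zpowers r) t
      have e2 : Nat.card ↥(zpowers r ⊓ centralizer {t}) = 1 := by
        have e3 := card_dvd_of_le (inf_le_left : zpowers r ⊓ centralizer {t} ≤ _)
        have e4 := card_dvd_of_le (inf_le_inf_right (centralizer {t}) (zpowers_le.2 rY))
        rw [Nat.card_zpowers, ro] at e3
        exact Nat.eq_one_of_dvd_coprimes (by norm_num) e3 (h3 ▸ e4)
      rw [e2, one_mul, Nat.card_zpowers, ro] at e1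
      have e3 : {w | ∃ q ∈ zpowers r, q * t * q⁻¹ = w} = K := Set.eq_of_subset_of_ncard_le
        (hK ▸ fun _ ⟨q, hq, e⟩ => ⟨q, hYN (zpowers_le.2 rY hq), e⟩) (by rw [e1, h9])
      refine ⟨zpowers r, zpowers r ⊔ zpowers t, le_sup_left, sup_le (zpowers_le.2 rY) (zpowers_le.2 htY), hR,
        fun g hg => ⟨?_, fun h => ?_⟩, ?_, ?_⟩
      · obtain ⟨q, hq, rfl⟩ := e3.ge hg
        exact mul_mem (mul_mem (mem_sup_left hq) (mem_sup_right (mem_zpowers t))) (mem_sup_left (inv_mem hq))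
      · have := orderOf_dvd_of_mem_zpowers h
        rw [(hKo g hg).2, ro] at this
        omega
      · rw [card_sup_of_disjoint (zpowers_le.2 (hR (hYN htY))) (disjoint_of_coprime_natCard (by
          rw [Nat.card_zpowers, Nat.card_zpowers, ro, ht]; norm_num)), Nat.card_zpowers, Nat.card_zpowers,
          ro, ht, h9]
      · rw [Nat.card_zpowers, ro, h9, e]; simp
    · refine ⟨Y ⊓ centralizer {r}, Y, inf_le_left, le_rfl, le_normalizer_inf hN ?_, hKW, ?_, ?_⟩
      · exact hR.trans (l2_norm r)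
      · rw [hY, hW, h9]
      · rw [hW, h9, e]; simp
  · have e1 : ((Y ⊓ centralizer {t} : Subgroup G) : Set G) = (Y : Set G) \ T := Set.eq_of_subset_of_ncard_le
      (fun y hy => ⟨hy.1, fun h => hE y hy h.2⟩) (by
        rw [Set.ncard_sdiff (fun _ h => h.1) (Set.toFinite _), ncard_coe, ncard_coe, hY, h3, h5])
    have e2 : K ⊆ (Y ⊓ centralizer {t} : Subgroup G) := fun g hg =>
      e1.ge ⟨(hKo g hg).1, fun h => by have := (hKo g hg).2; have := h.2; omega⟩
    have e3 := hle _ e2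
    have e4 : K.ncard = 3 := by omega
    refine ⟨⊥, Y ⊓ centralizer {t}, bot_le, inf_le_left, hbot, fun g hg => ⟨e2 hg, hK1 g hg⟩, ?_, ?_⟩
    · rw [card_bot, h3, e4]
    · rw [card_bot, e4, e]; simp

end Cfsg.Agent.MT
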