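import Cfsg.Agent.MT.TyA
import Cfsg.Agent.MT.Def

/-!
# Character values on the elements `f ^ k * t`
-/

set_option autoImplicit false
set_option linter.unusedSectionVars false

namespace Cfsg.Agent.MT

open Subgroup Finset Cfsg.Agent.M11 Cfsg.Agent.Char Cfsg.Agent.MK Cfsg.Agent.Zass Cfsg.Agent.Small
  Cfsg.Agent.Local

variable {G : Type*} [Group G] [Finite G]

theorem cen_ft {t f : G} (hf : orderOf f = 5) (ht : orderOf t = 2) (htf : Commute t f) {k : ℕ}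
    (hk : k ∈ Ico 1 5) : centralizer {f ^ k * t} = centralizer {f} ⊓ centralizer ({t} : Set G) := by
  have f5 : f ^ 5 = 1 := hf ▸ pow_orderOf_eq_one f
  have t2 : t ^ 2 = 1 := ht ▸ pow_orderOf_eq_one t
  have h1 : ∀ a, (f ^ k * t) ^ a = f ^ (k * a % 5) * t ^ (a % 2) := fun a => by
    rw [(htf.symm.pow_left k).mul_pow, ← pow_mul, ← pow_eq_pow_mod _ f5, ← pow_eq_pow_mod _ t2]
  have h2 : (f ^ k * t) ^ 5 = t := by rw [h1]; simp
  have h3 : (f ^ k * t) ^ (6 * k ^ 3) = f := by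
    rw [h1]
    obtain ⟨h4, h5⟩ := mem_Ico.1 hk
    interval_cases k <;> simp
  ext g
  simp only [Subgroup.mem_inf, mem_centralizer_singleton_iff]
  exact ⟨fun h => ⟨h3 ▸ (Commute.pow_right h _).eq, h2 ▸ (Commute.pow_right h _).eq⟩,
    fun h => ((Commute.pow_right h.1 k).mul_right h.2).eq⟩

theorem sum_conj5 {f n : G} (hf : orderOf f = 5) (hn : n ∈ normalizer (zpowers f : Set G)) {χ : G → ℂ}
    (hχ : IsClassFunction G χ) (y : G) :
    ∑ i ∈ Ico 1 5, χ (f ^ i * (n * y * n⁻¹)) = ∑ i ∈ Ico 1 5, χ (f ^ i * y) := by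
  classical
  have f5 : f ^ 5 = 1 := hf ▸ pow_orderOf_eq_one f
  have h1 := inv_conj_mem_of_mem_normalizer hn (mem_zpowers f)
  rw [mem_zpowers_iff_mem_range_orderOf, hf, mem_image] at h1
  obtain ⟨j, hj, e⟩ := h1
  have h2 : ∀ i, χ (f ^ i * (n * y * n⁻¹)) = χ (f ^ (j * i % 5) * y) := fun i => by
    rw [← pow_eq_pow_mod _ f5, pow_mul, e, ← hχ (_ * y) n]
    congr 1
    rw [← inv_inv n, inv_inv n⁻¹, conj_pow]
    group
  have h3 : j ≠ 0 := by
    rintro rfl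
    have : f = 1 := by simpa [mul_assoc, inv_mul_eq_iff_eq_mul] using e.symm
    rw [this, orderOf_one] at hf
    omega
  have h4 := mem_range.1 hj
  simp only [h2, show Ico 1 5 = {1, 2, 3, 4} from rfl]
  interval_cases j
  · exact absurd rfl h3
  all_goals simp
  all_goals ring

theorem exists_ty' {t f : G} (hf : LD 5 4 12 f) (ht : orderOf t = 2) (htf : Commute t f)
    (hb : ∀ (Q R : Subgroup G) [Fintype Q] [Fintype R], Q ≤ R → R ≤ centralizer {f} → ¬ 5 ∣ Nat.card R →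
      normalizer (zpowers f : Set G) ≤ normalizer (Q : Set G) → ∀ χ : G → ℂ, IsIrrCharacter G χ →
      ∑ q : R, ∑ i ∈ Ico 1 5, χ (f ^ i * q) = 0 ∨
        ∑ q : Q, ∑ i ∈ Ico 1 5, χ (f ^ i * q) = Nat.card Q * ∑ i ∈ Ico 1 5, χ (f ^ i)) :
    ∃ ty ch n : ℕ, (ty, ch, n) ∈ tys ∧ (∀ k ∈ Ico 1 5, cc (f ^ k * t) = ch) ∧
      (cc t % n = 0 ∧ cc t / n % 5 = 1) ∧
      ∀ χ : G → ℂ, IsIrrCharacter G χ → ∀ φ : ℤ, χ f = φ →
        ∃ m : ℤ, ∑ k ∈ Ico 1 5, χ (f ^ k * t) = 4 * m ∧ okm ty φ m ∧ (ty = 3 → okm 2 φ m) := by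
  classical
  have := Fintype.ofFinite G
  have := Fact.mk hf.pr
  have hp : PP 5 f := ⟨by norm_num, hf.ord, hf.sq⟩
  set Y := hp.npc.compl with hYd
  set N := normalizer (zpowers f : Set G) with hNd
  have hY : Nat.card Y = 12 := by have := hp.cc_eq; rw [hf.ccx, ← hYd] at this; omega
  have hYC : Y ≤ centralizer {f} := hp.npc.compl_le
  have hN : N ≤ normalizer (Y : Set G) := fun n hn => mem_normalizer_of_conj_mem fun y hy =>
    ⟨conj_mem_of_mem_normalizer (l2_norm f hn) hy.1, by rw [Local.orderOf_conj']; exact hy.2⟩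
  have htY : t ∈ Y := ⟨mem_centralizer_singleton_iff.2 htf, by rw [ht]; norm_num⟩
  set K := {w | ∃ r ∈ N, r * t * r⁻¹ = w} with hK
  have h1 := card_inf_centralizer_mul N t
  rw [hf.nrm, ← hK] at h1
  have h2 := card_inf_centralizer_mul (centralizer {f}) t
  have h3 : {w | ∃ r ∈ centralizer ({f} : Set G), r * t * r⁻¹ = w} = {w | ∃ r ∈ Y, r * t * r⁻¹ = w} := by
    refine Set.Subset.antisymm ?_ fun _ ⟨r, hr, e⟩ => ⟨r, hYC hr, e⟩
    rintro _ ⟨r, hr, rfl⟩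
    obtain ⟨i, u, hu, rfl⟩ := hp.dec hr
    refine ⟨u, hu, ?_⟩
    have := (hp.comm (mul_mem (mul_mem hu htY) (inv_mem hu)) i.val).eq
    calc u * t * u⁻¹ = f ^ i.val * (u * t * u⁻¹) * (f ^ i.val)⁻¹ := by rw [this]; group
      _ = _ := by group
  rw [h3, ← cc, hf.ccx] at h2
  obtain ⟨Q, R, hQR, hRY, hQ, hKR, hc, hs⟩ := shape hY (hYC.trans (l2_le f)) hN ht htY hK fun h => by
    have h4 : centralizer {f} ≤ N ⊓ centralizer {t} := le_inf (l2_le f) fun c hc => by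
      obtain ⟨i, u, hu, rfl⟩ := hp.dec hc
      exact mul_mem (pow_mem (mem_centralizer_singleton_iff.2 htf.symm) _)
        (mem_centralizer_singleton_iff.2 (h u hu))
    obtain ⟨a, ha⟩ := card_dvd_of_le h4
    rw [← cc, hf.ccx] at ha
    exact ⟨a, by rw [ha] at h1; nlinarith⟩
  have hU : (Q : Set G) ∪ K = R := Set.eq_of_subset_of_ncard_le
    (Set.union_subset hQR fun g hg => (hKR g hg).1) (by
      rw [Set.ncard_union_eq (Set.disjoint_right.2 fun g hg => (hKR g hg).2), ncard_coe, ncard_coe, hc])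
  have hR : N ≤ normalizer (R : Set G) := fun n hn => mem_normalizer_of_conj_mem fun g hg => by
    rcases hU.ge hg with h | ⟨r, hr, rfl⟩
    · exact hQR (conj_mem_of_mem_normalizer (hQ hn) h)
    · exact (hKR _ ⟨n * r, mul_mem hn hr, by group⟩).1
  have h5 : ∀ H ≤ Y, ¬ 5 ∣ Nat.card H := fun H h e => by
    have := e.trans (card_dvd_of_le h)
    omega
  have hE : ∀ k ∈ Ico 1 5, IsConj f (f ^ k) := fun k hk => by
    have hE : EE 5 f = univ.erase 0 := eq_of_subset_of_card_le (fun i hi =>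
      mem_erase.2 ⟨fun e => hp.E0 (e ▸ hi), mem_univ _⟩) (by
        rw [card_erase_of_mem (mem_univ _), card_univ, ZMod.card, hf.ee (by norm_num)])
    obtain ⟨h6, h7⟩ := mem_Ico.1 hk
    have h8 := mem_EE.1 (hE.ge (mem_erase.2 ⟨(ZMod.natCast_eq_zero_iff k 5).not.2 (by omega), mem_univ _⟩))
    rwa [ZMod.val_natCast, Nat.mod_eq_of_lt h7] at h8
  have key : ∀ χ : G → ℂ, IsIrrCharacter G χ → ∀ φ : ℤ, χ f = φ → ∃ A : ℂ,
      (Nat.card Q = 1 → A = 4 * φ) ∧ IsIntegral ℤ (∑ k ∈ Ico 1 5, χ (f ^ k * t)) ∧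
      ((A + K.ncard * ∑ k ∈ Ico 1 5, χ (f ^ k * t) = 0 ∧ (A = 0 ∨ A = Nat.card Q * (4 * φ))) ∨
        (A = Nat.card Q * (4 * φ) ∧ A + K.ncard * ∑ k ∈ Ico 1 5, χ (f ^ k * t) =
          (Nat.card Q + K.ncard) * (4 * φ))) := fun χ hχ φ hφ => by
    have e1 : ∑ i ∈ Ico 1 5, χ (f ^ i) = 4 * φ := by
      rw [sum_congr rfl fun i hi => (classFun_of_isConj (irr_isClassFunction hχ) (hE i hi)).symm, sum_const, hφ]
      simp
    have e2 : ∑ q : R, ∑ i ∈ Ico 1 5, χ (f ^ i * q) = ∑ q : Q, ∑ i ∈ Ico 1 5, χ (f ^ i * q) +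
        K.ncard * ∑ k ∈ Ico 1 5, χ (f ^ k * t) := by
      rw [← sum_subtype ((Q : Set G).toFinset ∪ K.toFinset) (p := (· ∈ R)) (fun g => by
          rw [← Set.toFinset_union, Set.mem_toFinset, hU]; rfl) fun q => ∑ i ∈ Ico 1 5, χ (f ^ i * q),
        sum_union (Set.disjoint_toFinset.2 (Set.disjoint_right.2 fun g hg => (hKR g hg).2)),
        sum_subtype (Q : Set G).toFinset (p := (· ∈ Q)) (F := inferInstance) fun g => Set.mem_toFinset,
        Set.ncard_eq_toFinset_card', ← nsmul_eq_mul, ← sum_const]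
      refine congrArg _ (sum_congr rfl fun g hg => ?_)
      obtain ⟨r, hr, rfl⟩ := Set.mem_toFinset.1 hg
      exact sum_conj5 hf.ord hr (irr_isClassFunction hχ) t
    have b1 := hb Q Q le_rfl ((hQR.trans hRY).trans hYC) (h5 _ (hQR.trans hRY)) hQ χ hχ
    have b2 := hb R R le_rfl (hRY.trans hYC) (h5 _ hRY) hR χ hχ
    have b3 := hb Q R hQR (hRY.trans hYC) (h5 _ hRY) hQ χ hχ
    rw [e2, e1] at b2 b3
    rw [e1] at b1
    rw [hc, Nat.cast_add] at b2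
    refine ⟨∑ q : Q, ∑ i ∈ Ico 1 5, χ (f ^ i * q), fun h => ?_,
      IsIntegral.sum _ fun _ _ => char_isIntegral (irr_isCharacter hχ) _, by tauto⟩
    have := (Nat.card_eq_one_iff_unique.1 h).1
    rw [← e1, Fintype.sum_subsingleton _ 1]
    simp
  have h6 := hf.cent htf
  have h7 : ∀ k ∈ Ico 1 5, cc (f ^ k * t) = Nat.card ↥(centralizer {f} ⊓ centralizer ({t} : Set G)) :=
    fun k hk => by rw [cc, cen_ft hf.ord ht htf hk]
  have h8 : cc t % Nat.card ↥(N ⊓ centralizer {t}) = 0 ∧ cc t / Nat.card ↥(N ⊓ centralizer {t}) % 5 = 1 := by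
    rw [h6.1, Nat.mul_mod_left, Nat.mul_div_cancel _ Nat.card_pos]
    exact ⟨rfl, h6.2⟩
  generalize Nat.card ↥(N ⊓ centralizer {t}) = n at h1 h8
  generalize Nat.card ↥(centralizer {f} ⊓ centralizer ({t} : Set G)) = ch at h2 h7
  simp only [List.mem_cons, Prod.mk.injEq, List.not_mem_nil, or_false] at hs
  have three : ∀ c : ℕ, c ≠ 0 → Nat.card Q = c → K.ncard = c → ∀ χ : G → ℂ, IsIrrCharacter G χ → ∀ φ : ℤ,
      χ f = φ → ∃ m : ℤ, ∑ k ∈ Ico 1 5, χ (f ^ k * t) = 4 * m ∧ (m = φ ∨ m = -φ ∨ (m = 0 ∧ c ≠ 1)) :=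
    fun c c0 c1 c2 χ hχ φ hφ => by
      obtain ⟨A, a1, -, a2⟩ := key χ hχ φ hφ
      have c3 : (c : ℂ) ≠ 0 := Nat.cast_ne_zero.2 c0
      rw [c1] at a1 a2
      rw [c2] at a2
      rcases a2 with ⟨a2, a3 | a3⟩ | ⟨a2, a3⟩
      · have a4 : ∑ k ∈ Ico 1 5, χ (f ^ k * t) = 0 := mul_left_cancel₀ c3 (by linear_combination a2 - a3)
        by_cases c4 : c = 1
        · exact ⟨φ, by rw [a4, ← a1 c4, a3], .inl rfl⟩
        · exact ⟨0, by simpa using a4, .inr (.inr ⟨rfl, c4⟩)⟩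
      · exact ⟨-φ, mul_left_cancel₀ c3 (by push_cast; linear_combination a2 - a3), .inr (.inl rfl)⟩
      · exact ⟨φ, mul_left_cancel₀ c3 (by linear_combination a3 - a2), .inl rfl⟩
  rcases hs with ⟨s1, s2, s3⟩ | ⟨s1, s2, s3⟩ | ⟨s1, s2, s3⟩ | ⟨s1, s2, s3⟩ | ⟨s1, s2, s3⟩ <;>
    rw [s2] at h1 <;> rw [s3] at h2
  · refine ⟨1, _, _, ?_, h7, h8, fun χ hχ φ hφ => ?_⟩
    · rw [show ch = 60 by omega, show n = 240 by omega]; decide
    · obtain ⟨m, e1, e2⟩ := three 1 one_ne_zero s1 s2 χ hχ φ hφ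
      exact ⟨m, e1, by unfold okm; tauto, fun _ => by unfold okm; tauto⟩
  · refine ⟨2, _, _, ?_, h7, h8, fun χ hχ φ hφ => ?_⟩
    · rw [show ch = 60 by omega, show n = 120 by omega]; decide
    · obtain ⟨m, e1, e2⟩ := three 2 two_ne_zero s1 s2 χ hχ φ hφ
      exact ⟨m, e1, by unfold okm; tauto, fun _ => by unfold okm; tauto⟩
  · refine ⟨0, _, _, ?_, h7, h8, fun χ hχ φ hφ => ?_⟩
    · rw [show ch = 20 by omega, show n = 80 by omega]; decide
    · obtain ⟨A, a1, a0, a2⟩ := key χ hχ φ hφ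
      rw [s1, s2, a1 s1] at a2
      have a3 : ((3 : ℤ) : ℂ) * ∑ k ∈ Ico 1 5, χ (f ^ k * t) = ((-(4 * φ) : ℤ) : ℂ) ∨
          ∑ k ∈ Ico 1 5, χ (f ^ k * t) = 4 * φ := by
        rcases a2 with ⟨a2, -⟩ | ⟨-, a2⟩
        · exact .inl (by push_cast at a2 ⊢; linear_combination a2)
        · exact .inr (by push_cast at a2; linear_combination a2 / 3)
      rcases a3 with a3 | a3
      · obtain ⟨z, hz⟩ := int_of_isIntegral_of_mul a0 (by norm_num) a3
        rw [hz] at a3 ⊢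
        have a4 : 3 * z = -(4 * φ) := by exact_mod_cast a3
        obtain ⟨m, rfl⟩ : ∃ m, z = 4 * m := ⟨z / 4, by omega⟩
        exact ⟨m, by push_cast; rfl, .inr (by omega), by simp⟩
      · exact ⟨φ, a3, .inl rfl, by simp⟩
  · refine ⟨3, _, _, ?_, h7, h8, fun χ hχ φ hφ => ?_⟩
    · rw [show ch = 20 by omega, show n = 80 by omega]; decide
    · obtain ⟨m, e1, e2⟩ := three 3 three_ne_zero s1 s2 χ hχ φ hφ
      exact ⟨m, e1, by unfold okm; tauto, fun _ => by unfold okm; tauto⟩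
  · refine ⟨3, _, _, ?_, h7, h8, fun χ hχ φ hφ => ?_⟩
    · rw [show ch = 20 by omega, show n = 40 by omega]; decide
    · obtain ⟨m, e1, e2⟩ := three 6 (by norm_num) s1 s2 χ hχ φ hφ
      exact ⟨m, e1, by unfold okm; tauto, fun _ => by unfold okm; tauto⟩

end Cfsg.Agent.MT
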