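import Cfsg.Agent.MT.Fact
import Cfsg.Agent.BT.Blk2
import Cfsg.Agent.Block.DefZero

/-! Column facts: orthogonality, central characters, mean values. -/

set_option autoImplicit false

namespace Cfsg.Agent.MT.W

open Subgroup Finset Cfsg.Agent.M11 Cfsg.Agent.Char Cfsg.Agent.MK Cfsg.Agent.Zass Cfsg.Agent.Small
open scoped ComplexConjugate

variable {G : Type*} [Group G] [Fintype G] {x u t f : G}

theorem orth {g h : G} (e : orderOf g ≠ orderOf h) :
    ∑ χ : IrrCharacter G, χ.1 h * conj (χ.1 g) = 0 := by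
  classical
  rw [sum_irr_mul_conj, if_neg fun c => e (isConj_orderOf c)]

theorem rel23 (hx : LD 23 11 1 x) {y : G} (hy : orderOf y ≠ 23) :
    ∑ χ : IrrCharacter G, (w23 (deg χ.1) : ℂ) * χ.1 y = 0 := by
  have h1 := orth (g := x) (h := y) (by rw [hx.ord]; exact hy.symm)
  have h2 := orth (g := x⁻¹) (h := y) (by rw [orderOf_inv, hx.ord]; exact hy.symm)
  rw [← add_zero (0 : ℂ)]
  nth_rw 1 [← h1]
  rw [← h2, ← sum_add_distrib]
  refine sum_congr rfl fun χ _ => ?_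
  rw [← mul_add, ← map_add, (xcol hx).1, map_intCast, mul_comm]

theorem rel11 (hu : LD 11 10 1 u) {y : G} (hy : orderOf y ≠ 11) :
    ∑ χ : IrrCharacter G, (a11 (deg χ.1) : ℂ) * χ.1 y = 0 := by
  rw [← orth (g := u) (h := y) (by rw [hu.ord]; exact hy.symm)]
  refine sum_congr rfl fun χ _ => ?_
  rw [(ucol hu).1, map_intCast, mul_comm]

theorem nrm {g : G} {v : IrrCharacter G → ℤ} (hv : ∀ χ, χ.1 g = v χ) : ∑ χ, v χ * v χ = cc g := by
  classical
  have := sum_irr_mul_conj g g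
  simp only [hv, map_intCast, if_pos (IsConj.refl g)] at this
  exact_mod_cast this

theorem omZ {χ : G → ℂ} (hχ : IsIrrCharacter G χ) {s : G} {v : ℤ} (hv : χ s = v) :
    (deg χ : ℤ) ∣ (Nat.card G / cc s : ℕ) * v ∧
      MK.om χ s = (MT.om (Nat.card G / cc s) v (deg χ) : ℤ) := by
  have h4 : (deg χ : ℂ) ≠ 0 := Nat.cast_ne_zero.2 (irr_deg_pos hχ).ne'
  have h5 : (cc s : ℂ) ≠ 0 := Nat.cast_ne_zero.2 (cc_pos s).ne'
  have h3 := irr_isIntegral_centralChar hχ s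
  rw [show (centralizer ({s} : Set G)).index = Nat.card G / cc s from
    (Nat.div_eq_of_eq_mul_right (cc_pos s) (card_mul_index _).symm).symm, hv, irr_deg hχ] at h3
  obtain ⟨z, hz⟩ := int_of_isIntegral_of_mul h3 (a := (Nat.card G / cc s : ℕ) * v) (b := deg χ)
    (by exact_mod_cast h4) (by rw [Int.cast_mul, Int.cast_natCast, Int.cast_natCast]; field_simp)
  have h6 : (deg χ : ℤ) ∣ (Nat.card G / cc s : ℕ) * v := ⟨z, by
    rw [div_eq_iff h4] at hz
    generalize Nat.card G / cc s = K at hz ⊢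
    rw [mul_comm _ z]
    exact_mod_cast hz⟩
  refine ⟨h6, ?_⟩
  rw [MT.om, Int.cast_div h6 (by exact_mod_cast h4), MK.om, irr_deg hχ, Int.cast_mul, ← hv,
    Int.cast_natCast, Int.cast_natCast, Nat.cast_div (cc_dvd s) h5]
  field_simp

theorem om_mul {χ : G → ℂ} (hχ : IsIrrCharacter G χ) (s : G) :
    χ 1 * MK.om χ s = (Nat.card G / cc s : ℕ) * χ s := by
  have h4 : (deg χ : ℂ) ≠ 0 := Nat.cast_ne_zero.2 (irr_deg_pos hχ).ne'
  have h5 : (cc s : ℂ) ≠ 0 := Nat.cast_ne_zero.2 (cc_pos s).ne'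
  rw [MK.om, irr_deg hχ, Nat.cast_div (cc_dvd s) h5]
  field_simp

theorem mean_sq {y : ℕ → G} {ch : ℕ} (hc : ∀ k ∈ Ico 1 5, cc (y k) = ch) {m : IrrCharacter G → ℤ}
    (hm : ∀ χ : IrrCharacter G, ∑ k ∈ Ico 1 5, χ.1 (y k) = 4 * m χ) : ∑ χ, m χ * m χ ≤ ch := by
  classical
  have h1 : ∀ k ∈ Ico 1 5, ∑ χ : IrrCharacter G, ‖χ.1 (y k)‖ ^ 2 = ch := fun k hk => by
    have := sum_irr_mul_conj (y k) (y k)
    rw [if_pos (IsConj.refl _), ← cc, hc k hk] at this
    simp only [Complex.mul_conj'] at this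
    exact_mod_cast this
  have h2 : ∀ χ : IrrCharacter G, (16 * (m χ * m χ) : ℝ) ≤ 4 * ∑ k ∈ Ico 1 5, ‖χ.1 (y k)‖ ^ 2 := fun χ => by
    have h3 := norm_sum_le (Ico 1 5) fun k => χ.1 (y k)
    rw [hm, norm_mul, Complex.norm_intCast, Complex.norm_ofNat] at h3
    have h4 := sq_sum_le_card_mul_sum_sq (s := Ico 1 5) (f := fun k => ‖χ.1 (y k)‖)
    have h5 := pow_le_pow_left₀ (by positivity) h3 2
    rw [mul_pow, sq_abs] at h5
    simp only [Nat.card_Ico] at h4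
    norm_num at h4
    nlinarith
  have h3 := sum_le_sum fun χ (_ : χ ∈ univ) => h2 χ
  rw [← mul_sum, ← mul_sum, sum_comm, sum_congr rfl h1] at h3
  simp only [sum_const, Nat.card_Ico, nsmul_eq_mul] at h3
  have h4 : (∑ χ, (m χ * m χ : ℝ)) ≤ ch := by norm_num at h3; linarith
  exact_mod_cast h4

theorem five (hf : orderOf f = 5) (ht : orderOf t = 2) (htf : Commute t f) {χ : G → ℂ}
    (hχ : IsIrrCharacter G χ) {v m : ℤ} (hv : χ t = v) (hm : ∑ k ∈ Ico 1 5, χ (f ^ k * t) = 4 * m) :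
    (5 : ℤ) ∣ v - m := by
  obtain ⟨k, τ, -, rfl⟩ := hχ
  have h1 : τ f ^ 5 = 1 := by rw [← map_pow, ← hf, pow_orderOf_eq_one, map_one]
  have h2 : τ t * τ t = 1 := by rw [← map_mul, Block.mul_self_of_orderOf ht, map_one]
  obtain ⟨T, -, -, h3, -⟩ := BT.tr_idem (η := (2 : ℂ)⁻¹ • (1 + τ t)) h1 (by
    rw [smul_mul_smul_comm, mul_add, add_mul, add_mul, h2, one_mul, mul_one, one_mul]
    module) (by
    rw [smul_mul_assoc, mul_smul_comm, add_mul, mul_add, one_mul, mul_one, ← map_mul, ← map_mul, htf.eq])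
  have h4 := BT.lat_trace _ h1
  generalize Module.finrank ℂ (LinearMap.ker (T - 1)) = r at h3
  generalize Module.finrank ℂ (LinearMap.ker (τ f - 1)) = s at h4
  rw [mul_smul_comm, mul_add, mul_one, map_smul, map_add, h4, smul_eq_mul] at h3
  have h5 : LinearMap.trace ℂ _ ((∑ i ∈ range 5, τ f ^ i) * τ t) = v + 4 * m := by
    rw [← hv, ← hm, range_eq_Ico, sum_eq_sum_Ico_succ_bot (by norm_num), pow_zero, add_mul, one_mul,
      map_add, sum_mul, map_sum]
    simp only [← map_pow, ← map_mul]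
    rfl
  refine ⟨2 * r - s - m, ?_⟩
  exact_mod_cast (show (v - m : ℂ) = 5 * (2 * r - s - m) by
    push_cast at h3; linear_combination 2 * h3 - h5)

theorem van (hG : Nat.card G = 244823040) {χ : G → ℂ} (hχ : IsIrrCharacter G χ) (h : deg χ % 5 = 0)
    {g : G} (hg : 5 ∣ orderOf g) : χ g = 0 := by
  have : Fact (Nat.Prime 5) := ⟨by norm_num⟩
  obtain ⟨m, hm⟩ := deg_dvd_card hχ
  refine Block.irr_eq_zero_of_defect_zero (p := 5) hχ (irr_deg hχ) hm (fun e => ?_) hg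
  have := mul_dvd_mul (Nat.dvd_of_mod_eq_zero h) e
  rw [← hm, hG] at this
  norm_num at this

end Cfsg.Agent.MT.W
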