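import Cfsg.Agent.MT.W1

/-! The rows attached to the irreducible characters. -/

set_option autoImplicit false
set_option linter.unusedSectionVars false

namespace Cfsg.Agent.MT.W

open Subgroup Finset Cfsg.Agent.M11 Cfsg.Agent.Char Cfsg.Agent.MK Cfsg.Agent.Zass Cfsg.Agent.Small

variable {G : Type*} [Group G] [Fintype G]

def muD (d : ℕ) : ℕ := if d % 23 = 11 ∨ d % 23 = 12 then 2 else 1

/-- three integer columns and the exceptional pair -/
structure Dt (G : Type*) [Group G] where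
  F : IrrCharacter G → ℤ
  M : IrrCharacter G → ℤ
  V : IrrCharacter G → ℤ
  e₁ : IrrCharacter G
  e₂ : IrrCharacter G
  ne : e₁ ≠ e₂
  exc : ∀ χ : IrrCharacter G, (deg χ.1 % 23 = 11 ∨ deg χ.1 % 23 = 12) ↔ (χ = e₁ ∨ χ = e₂)
  hd : deg e₁.1 = deg e₂.1
  hF : F e₁ = F e₂
  hM : M e₁ = M e₂
  hV : V e₁ = V e₂
  oF : F ⟨1, irr_one⟩ = 1
  oM : M ⟨1, irr_one⟩ = 1
  oV : V ⟨1, irr_one⟩ = 1
  r23 : ∀ χ : IrrCharacter G, deg χ.1 % 23 ∈ [0, 1, 22, 11, 12]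
  r11 : ∀ χ : IrrCharacter G, deg χ.1 % 11 ∈ [0, 1, 10]

namespace Dt

variable (D : Dt G)

noncomputable def row (χ : IrrCharacter G) : Row := ⟨deg χ.1, muD (deg χ.1), D.F χ, D.M χ, D.V χ⟩

open Classical in
noncomputable def lst (P : ℕ → Prop) : List Row :=
  (univ.filter fun χ : IrrCharacter G => (χ ≠ ⟨1, irr_one⟩ ∧ χ ≠ D.e₂) ∧ P (deg χ.1)).toList.map D.row

noncomputable def C : List Row := D.lst fun d => d % 11 ≠ 0 ∧ d % 23 ≠ 0
noncomputable def A : List Row := D.lst fun d => d % 11 = 0 ∧ d % 23 ≠ 0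
noncomputable def B : List Row := D.lst fun d => d % 11 ≠ 0 ∧ d % 23 = 0

theorem mem_lst {P : ℕ → Prop} {r : Row} :
    r ∈ D.lst P ↔ ∃ χ, ((χ ≠ ⟨1, irr_one⟩ ∧ χ ≠ D.e₂) ∧ P (deg χ.1)) ∧ D.row χ = r := by
  simp only [lst, List.mem_map, mem_toList, mem_filter, mem_univ, true_and]

theorem mem_all {r : Row} (h : r ∈ D.C ++ D.A ++ D.B) : ∃ χ, χ.1 ≠ 1 ∧ D.row χ = r := by
  simp only [List.mem_append, C, A, B, mem_lst] at h
  rcases h with (⟨χ, h, e⟩ | ⟨χ, h, e⟩) | ⟨χ, h, e⟩ <;> exact ⟨χ, fun e => h.1.1 (Subtype.ext e), e⟩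

open Classical in
theorem sm_lst (P : ℕ → Prop) (g : Row → ℤ) : sm (D.lst P) g =
    ∑ χ, if (χ ≠ ⟨1, irr_one⟩ ∧ χ ≠ D.e₂) ∧ P (deg χ.1) then g (D.row χ) else 0 := by
  rw [sm, lst, List.map_map, sum_map_toList, sum_filter]
  rfl

theorem sm_app (l l' : List Row) (g : Row → ℤ) : sm (l ++ l') g = sm l g + sm l' g := by
  simp [sm]

theorem row_one : D.row ⟨1, irr_one⟩ = ⟨1, 1, 1, 1, 1⟩ := by
  simp [row, deg_one, muD, D.oF, D.oM, D.oV]

open Classical in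
theorem split (g : Row → ℤ) : ∑ χ, g (D.row χ) = g ⟨1, 1, 1, 1, 1⟩ +
    ∑ χ, if χ ≠ ⟨1, irr_one⟩ ∧ χ ≠ D.e₂ then muD (deg χ.1) * g (D.row χ) else 0 := by
  have h1 : D.row D.e₁ = D.row D.e₂ := by simp only [row, D.hd, D.hF, D.hM, D.hV]
  have h2 : ∀ χ, g (D.row χ) = (if χ = ⟨1, irr_one⟩ then g (D.row χ) else 0) +
      (if χ ≠ ⟨1, irr_one⟩ ∧ χ ≠ D.e₂ then muD (deg χ.1) * g (D.row χ) else 0) +
      ((if χ = D.e₂ then g (D.row χ) else 0) - if χ = D.e₁ then g (D.row χ) else 0) := fun χ => by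
    have h3 := D.exc χ
    have h4 := D.exc ⟨1, irr_one⟩
    rw [deg_one] at h4
    by_cases a : χ = ⟨1, irr_one⟩
    · subst a
      have h5 := not_or.1 (mt h4.2 (by norm_num))
      simp [h5.1, h5.2]
    by_cases b : χ = D.e₂
    · simp [b ▸ a, b, D.ne.symm]
    by_cases c : χ = D.e₁
    · rw [if_neg a, if_pos ⟨a, b⟩, if_neg b, if_pos c, muD, if_pos (h3.2 (Or.inl c))]
      push_cast; ring
    · rw [if_neg a, if_pos ⟨a, b⟩, if_neg b, if_neg c, muD, if_neg (mt h3.1 (not_or.2 ⟨c, b⟩))]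
      simp
  rw [sum_congr rfl fun χ _ => h2 χ, sum_add_distrib, sum_add_distrib, sum_sub_distrib]
  simp only [sum_ite_eq', mem_univ, if_true, h1, sub_self, add_zero, row_one]

theorem k23 (g : Row → ℤ) : ∑ χ, w23 (deg χ.1) * g (D.row χ) =
    2 * (g ⟨1, 1, 1, 1, 1⟩ + sm (D.C ++ D.A) fun r => c23 r.d * g r) := by
  classical
  rw [sm_app, C, A, sm_lst, sm_lst, ← sum_add_distrib, mul_add, mul_sum]
  refine (D.split fun r => w23 r.d * g r).trans (congrArg₂ _ rfl (sum_congr rfl fun χ _ => ?_))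
  by_cases a : χ ≠ ⟨1, irr_one⟩ ∧ χ ≠ D.e₂
  · have h := D.r23 χ
    simp only [List.mem_cons, List.not_mem_nil, or_false] at h
    by_cases b : deg χ.1 % 11 = 0 <;> rcases h with h | h | h | h | h <;>
      simp [a, b, h, row, muD, w23, c23]
  · simp only [a, false_and, if_false, add_zero, mul_zero]

theorem k11 (g : Row → ℤ) : ∑ χ, a11 (deg χ.1) * g (D.row χ) =
    g ⟨1, 1, 1, 1, 1⟩ + sm (D.C ++ D.B) fun r => c11 r * g r := by
  classical
  rw [sm_app, C, B, sm_lst, sm_lst, ← sum_add_distrib]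
  refine (D.split fun r => a11 r.d * g r).trans (congrArg₂ _ (one_mul _) (sum_congr rfl fun χ _ => ?_))
  by_cases a : χ ≠ ⟨1, irr_one⟩ ∧ χ ≠ D.e₂
  · by_cases b : deg χ.1 % 11 = 0 <;> by_cases c : deg χ.1 % 23 = 0 <;>
      simp [a, b, c, row, c11, mul_assoc] <;> simp [a11, b]
  · simp only [a, false_and, if_false, add_zero]

open Classical in
theorem kall {χ₃ χ₄ : IrrCharacter G} (h : χ₃ ≠ χ₄) (h₃ : deg χ₃.1 % 253 = 0) (h₄ : deg χ₄.1 % 253 = 0) :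
    ∃ Z : Finset (IrrCharacter G), ∀ g : Row → ℤ, ∑ χ, g (D.row χ) =
      g ⟨1, 1, 1, 1, 1⟩ + sm (D.C ++ D.A ++ D.B) (fun r => r.mu * g r) + g (D.row χ₃) + g (D.row χ₄) +
        ∑ χ ∈ Z, g (D.row χ) := by
  refine ⟨((univ.filter fun χ => deg χ.1 % 253 = 0).erase χ₃).erase χ₄, fun g => ?_⟩
  rw [add_assoc, add_sum_erase _ (fun χ => g (D.row χ)) (by simp [h.symm, h₄]), add_assoc,
    add_sum_erase _ (fun χ => g (D.row χ)) (by simp [h₃]), sm_app, sm_app, C, A, B, sm_lst, sm_lst, sm_lst,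
    sum_filter, add_assoc, ← sum_add_distrib, ← sum_add_distrib, ← sum_add_distrib]
  refine (D.split g).trans (congrArg₂ _ rfl (sum_congr rfl fun χ _ => ?_))
  by_cases a : χ ≠ ⟨1, irr_one⟩ ∧ χ ≠ D.e₂
  · by_cases b : deg χ.1 % 11 = 0 <;> by_cases c : deg χ.1 % 23 = 0
    · simp [a, b, c, show deg χ.1 % 253 = 0 by omega, muD]
    all_goals simp [a, b, c, show deg χ.1 % 253 ≠ 0 by omega, row]
  · simp only [a, false_and, if_false, zero_add]
    rw [if_neg]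
    rcases not_and_or.1 a with e | e <;> rw [not_not.1 e]
    · simp [deg_one]
    · have := (D.exc D.e₂).2 (Or.inr rfl)
      omega

end Dt

end Cfsg.Agent.MT.W
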