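import Cfsg.Agent.MT.W2

/-! The degrees and the column of `f`. -/

set_option autoImplicit false
set_option linter.unusedSectionVars false

namespace Cfsg.Agent.MT.W

open Subgroup Finset Cfsg.Agent.M11 Cfsg.Agent.Char Cfsg.Agent.MK Cfsg.Agent.Zass Cfsg.Agent.Small

variable {G : Type*} [Group G] [Fintype G] {x u t f : G}

theorem sm_lin {l : List Row} {F P Q : Row → ℤ} {a b : ℤ} (h : ∀ r ∈ l, F r = a * P r + b * Q r) :
    sm l F = a * sm l P + b * sm l Q := by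
  induction l with
  | nil => simp [sm]
  | cons r l ih =>
    have h1 := ih fun s hs => h s (List.mem_cons_of_mem _ hs)
    simp only [sm, List.map_cons, List.sum_cons] at h1 ⊢
    rw [h1, h r List.mem_cons_self]
    ring

theorem cast0 {w v : IrrCharacter G → ℤ} {y : G} (hv : ∀ χ, χ.1 y = v χ)
    (h : ∑ χ : IrrCharacter G, (w χ : ℂ) * χ.1 y = 0) : ∑ χ, w χ * v χ = 0 := by
  simp only [hv] at h
  exact_mod_cast h

theorem prod2 {χ : G → ℂ} (hχ : IsIrrCharacter G χ) {s s' : G} {v v' : ℤ} (hv : χ s = v)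
    (hv' : χ s' = v') (i j : ℕ) :
    χ 1 * ((List.replicate i s ++ List.replicate j s').map (MK.om χ)).prod =
      ((deg χ * (MT.om (Nat.card G / cc s) v (deg χ) ^ i * MT.om (Nat.card G / cc s') v' (deg χ) ^ j) : ℤ) : ℂ) := by
  simp only [List.map_append, List.map_replicate, List.prod_append, List.prod_replicate,
    (omZ hχ hv).2, (omZ hχ hv').2, irr_deg hχ]
  norm_cast

theorem cop2 {s s' : G} {p : ℕ} (h : (orderOf s).Coprime p) (h' : (orderOf s').Coprime p) (i j : ℕ) :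
    ∀ g ∈ List.replicate i s ++ List.replicate j s', (orderOf g).Coprime p := fun g hg => by
  rcases List.mem_append.1 hg with e | e <;> rw [List.eq_of_mem_replicate e] <;> assumption

theorem mo_of {p n : ℕ} {Z : ℤ} (h : Z = p * (244823040 : ℕ) * n) : Mo p Z :=
  ⟨h ▸ by positivity, n, by rw [h, Nat.cast_mul]⟩

variable (hG : Nat.card G = 244823040) (D : Dt G)
include hG

theorem mo23 (hx : LD 23 11 1 x) {s s' : G} {a b : Row → ℤ} (ha : ∀ χ, χ.1 s = a (D.row χ))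
    (hb : ∀ χ, χ.1 s' = b (D.row χ)) (h : (orderOf s).Coprime 23) (h' : (orderOf s').Coprime 23)
    (a1 : a ⟨1, 1, 1, 1, 1⟩ = 1) (b1 : b ⟨1, 1, 1, 1, 1⟩ = 1) (i j : ℕ) :
    Mo 23 ((NN / cc s : ℕ) ^ i * (NN / cc s' : ℕ) ^ j + sm (D.C ++ D.A) fun r =>
      c23 r.d * (r.d * (MT.om (NN / cc s) (a r) r.d ^ i * MT.om (NN / cc s') (b r) r.d ^ j))) := by
  obtain ⟨n, hn⟩ := mom23 hx (univ : Finset Unit) (fun _ => List.replicate i s ++ List.replicate j s')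
    (fun _ _ => cop2 h h' i j) _ fun χ => by
      rw [Fintype.sum_unique]; exact prod2 χ.2 (ha χ) (hb χ) i j
  rw [hG] at hn
  have h1 := D.k23 fun r => r.d * (MT.om (NN / cc s) (a r) r.d ^ i * MT.om (NN / cc s') (b r) r.d ^ j)
  rw [a1, b1] at h1
  simp only [MT.om, mul_one, Nat.cast_one, Int.ediv_one, one_mul] at h1
  exact mo_of (n := n) (mul_left_cancel₀ two_ne_zero (h1.symm.trans hn))

theorem mo11 (hu : LD 11 10 1 u) {s s' : G} {a b : Row → ℤ} (ha : ∀ χ, χ.1 s = a (D.row χ))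
    (hb : ∀ χ, χ.1 s' = b (D.row χ)) (h : (orderOf s).Coprime 11) (h' : (orderOf s').Coprime 11)
    (a1 : a ⟨1, 1, 1, 1, 1⟩ = 1) (b1 : b ⟨1, 1, 1, 1, 1⟩ = 1) (i j : ℕ) :
    Mo 11 ((NN / cc s : ℕ) ^ i * (NN / cc s' : ℕ) ^ j + sm (D.C ++ D.B) fun r =>
      c11 r * (r.d * (MT.om (NN / cc s) (a r) r.d ^ i * MT.om (NN / cc s') (b r) r.d ^ j))) := by
  obtain ⟨n, hn⟩ := mom11 hu _ (cop2 h h' i j) _ fun χ => prod2 χ.2 (ha χ) (hb χ) i j
  rw [hG] at hn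
  have h1 := D.k11 fun r => r.d * (MT.om (NN / cc s) (a r) r.d ^ i * MT.om (NN / cc s') (b r) r.d ^ j)
  rw [a1, b1] at h1
  simp only [MT.om, mul_one, Nat.cast_one, Int.ediv_one, one_mul] at h1
  exact mo_of (n := n) (h1.symm.trans hn)

omit hG in
theorem l23 (hx : LD 23 11 1 x) {y : G} (hy : orderOf y ≠ 23) {a : Row → ℤ}
    (ha : ∀ χ, χ.1 y = a (D.row χ)) (a1 : a ⟨1, 1, 1, 1, 1⟩ = 1) :
    1 + sm (D.C ++ D.A) (fun r => c23 r.d * a r) = 0 := by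
  have h1 := D.k23 a
  rw [cast0 ha (rel23 hx hy), a1] at h1
  omega

omit hG in
theorem l11 (hu : LD 11 10 1 u) {y : G} (hy : orderOf y ≠ 11) {a : Row → ℤ}
    (ha : ∀ χ, χ.1 y = a (D.row χ)) (a1 : a ⟨1, 1, 1, 1, 1⟩ = 1) :
    1 + sm (D.C ++ D.B) (fun r => c11 r * a r) = 0 := by
  have h1 := D.k11 a
  rw [cast0 ha (rel11 hu hy), a1] at h1
  omega

omit hG in
theorem memA {χ : IrrCharacter G} (h : deg χ.1 = 5544) : D.row χ ∈ D.A :=
  D.mem_lst.2 ⟨χ, ⟨⟨fun e => by rw [e, deg_one] at h; omega, fun e => by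
    have := (D.exc χ).2 (Or.inr e); omega⟩, by omega⟩, rfl⟩

omit hG in
theorem memB {χ : IrrCharacter G} (h1 : deg χ.1 % 11 ≠ 0) (h : deg χ.1 % 23 = 0) : D.row χ ∈ D.B :=
  D.mem_lst.2 ⟨χ, ⟨⟨fun e => by rw [e, deg_one] at h; omega, fun e => by
    have := (D.exc χ).2 (Or.inr e); omega⟩, h1, h⟩, rfl⟩

theorem tf [IsSimpleGroup G] (hna : ¬ IsMulCommutative G) (hx : LD 23 11 1 x) (hu : LD 11 10 1 u)
    (hf : orderOf f = 5) (hn : f ∈ normalizer (zpowers u : Set G)) (hF : ∀ χ, χ.1 f = D.F χ)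
    (h5 : ∀ χ, (5 : ℤ) ∣ D.F χ - deg χ.1) {χ₁ χ₂ χ₃ χ₄ : IrrCharacter G} {d₃ d₄ : ℕ}
    (e₁ : deg χ₁.1 = 5796) (e₂ : deg χ₂.1 = 5544) (e₃ : deg χ₃.1 = d₃) (e₄ : deg χ₄.1 = d₄)
    (hd : (d₃ = 2024 ∧ d₄ = 1771) ∨ (d₃ = 759 ∧ d₄ = 506)) (f₁ : D.F χ₁ = 1) (f₂ : D.F χ₂ = -1)
    (f₃ : D.F χ₃ = -1) (f₄ : D.F χ₄ = 1) : TF (cc f) d₃ d₄ D.C D.A D.B := by
  classical
  have h23 : ∀ r ∈ D.C ++ D.A, (r.mu = 1 ∧ (r.d % 23 = 1 ∨ r.d % 23 = 22)) ∨
      (r.mu = 2 ∧ (r.d % 23 = 11 ∨ r.d % 23 = 12)) := fun r hr => by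
    simp only [List.mem_append, Dt.C, Dt.A, Dt.mem_lst] at hr
    rcases hr with ⟨χ, h, rfl⟩ | ⟨χ, h, rfl⟩ <;>
    · have := D.r23 χ
      simp only [List.mem_cons, List.not_mem_nil, or_false, Dt.row, muD] at this ⊢
      split_ifs <;> omega
  have s1 := D.k23 fun r => if r.mu = 1 then c23 r.d else 0
  have s2 := D.k23 fun r => w23 r.d
  have s3 : ∑ χ : IrrCharacter G, w23 (deg χ.1) * (if (D.row χ).mu = 1 then c23 (D.row χ).d else 0) =
      ∑ χ : IrrCharacter G, 2 * if deg χ.1 % 23 = 1 ∨ deg χ.1 % 23 = 22 then 1 else 0 :=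
    sum_congr rfl fun χ _ => by
      have h := D.r23 χ
      simp only [List.mem_cons, List.not_mem_nil, or_false] at h
      rcases h with h | h | h | h | h <;> simp [h, Dt.row, muD, w23, c23]
  rw [s3, ← mul_sum, sum_boole, (xcol hx).2.2.1] at s1
  have s4 := (fa_w hx).2.2.2
  simp only [pow_two] at s4
  replace s2 := s4.symm.trans s2
  have s5 := sm_lin (l := D.C ++ D.A) (F := fun _ => 1) (a := 1) (b := -1)
    (P := fun r => c23 r.d * w23 r.d) (Q := fun r => c23 r.d * if r.mu = 1 then c23 r.d else 0)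
    fun r hr => by rcases h23 r hr with ⟨h, e | e⟩ | ⟨h, e | e⟩ <;> simp [h, e, c23, w23]
  have s6 := sm_lin (l := D.C ++ D.A) (F := fun r => r.mu) (a := 2) (b := -3)
    (P := fun r => c23 r.d * w23 r.d) (Q := fun r => c23 r.d * if r.mu = 1 then c23 r.d else 0)
    fun r hr => by rcases h23 r hr with ⟨h, e | e⟩ | ⟨h, e | e⟩ <;> simp [h, e, c23, w23]
  have s7 : sm (D.C ++ D.A) (fun _ => 1) = (D.C ++ D.A).length := by simp [sm]
  have s8 : w23 1 = 2 ∧ c23 1 = 1 := ⟨rfl, rfl⟩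
  simp only [s8.1, s8.2, if_true] at s1 s2
  have hC : ∀ r ∈ D.C, r.d % 11 = 1 ∨ r.d % 11 = 10 := fun r hr => by
    obtain ⟨χ, h, rfl⟩ := D.mem_lst.1 hr
    have := D.r11 χ
    simp only [List.mem_cons, List.not_mem_nil, or_false, Dt.row] at this ⊢
    omega
  have hA : ∀ r ∈ D.A, r.d % 11 = 0 := fun r hr => by
    obtain ⟨χ, h, rfl⟩ := D.mem_lst.1 hr
    exact h.2.1
  have hB : ∀ r ∈ D.B, r.mu = 1 ∧ r.d % 23 = 0 ∧ (r.d % 11 = 1 ∨ r.d % 11 = 10) := fun r hr => by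
    obtain ⟨χ, h, rfl⟩ := D.mem_lst.1 hr
    have := D.r11 χ
    simp only [List.mem_cons, List.not_mem_nil, or_false, Dt.row, muD] at this ⊢
    split_ifs <;> omega
  have hU : ∀ χ, χ.1 u = a11 (D.row χ).d := (ucol hu).1
  have h1 : ∀ χ : IrrCharacter G, χ.1 1 = (((D.row χ).d : ℤ) : ℂ) := fun χ => by
    rw [irr_deg χ.2]; rfl
  obtain ⟨Z, hZ⟩ := D.kall (χ₃ := χ₃) (χ₄ := χ₄) (fun e => by rw [e] at e₃; omega) (by omega) (by omega)
  have z1 := hZ fun r => r.d * r.d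
  have z2 := hZ fun r => r.f * r.f
  have z3 := hZ fun r => r.d * r.f
  have z4 := sum_mul_sq_le_sq_mul_sq Z (fun χ => (deg χ.1 : ℤ)) D.F
  have z5 : 0 ≤ ∑ χ ∈ Z, (deg χ.1 : ℤ) * deg χ.1 := sum_nonneg fun _ _ => mul_self_nonneg _
  have z6 : 0 ≤ ∑ χ ∈ Z, D.F χ * D.F χ := sum_nonneg fun _ _ => mul_self_nonneg _
  have z7 : ∑ χ : IrrCharacter G, (deg χ.1 : ℤ) * deg χ.1 = NN := by
    exact_mod_cast sum_deg.trans hG
  have z8 : ∑ χ : IrrCharacter G, (deg χ.1 : ℤ) * D.F χ = 0 := cast0 hF (by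
    simpa only [fun χ : IrrCharacter G => irr_deg χ.2, Int.cast_natCast] using
      sum_degree_mul (G := G) (g := f) (by rintro rfl; simp at hf))
  simp only [Dt.row, e₃, e₄, f₃, f₄, pow_two, Nat.cast_one] at z1 z2 z3 z4
  rw [z7] at z1
  rw [nrm hF] at z2
  rw [z8] at z3
  have u1 := D.k11 fun r => a11 r.d
  replace u1 := (nrm hU).symm.trans u1
  rw [hu.ccx] at u1
  have u2 := sm_lin (l := D.C ++ D.B) (F := fun r => r.mu) (a := 1) (b := 0)
    (P := fun r => c11 r * a11 r.d) (Q := fun _ => 0) fun r hr => by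
      rcases (List.mem_append.1 hr).elim (hC r) fun h => (hB r h).2.2 with e | e <;> simp [e, c11, a11]
  have u3 := l23 D hx (y := u) (by rw [hu.ord]; norm_num) (a := fun r => a11 r.d) hU rfl
  have u4 := sm_lin (l := D.A) (F := fun r => c23 r.d * a11 r.d) (a := 0) (b := 0)
    (P := fun _ => 0) (Q := fun _ => 0) fun r hr => by simp [a11, hA r hr]
  rw [Dt.sm_app] at u3
  refine ⟨fun r hr => ?_, hC, hA, h23, hB, by omega, by omega, ?_,
    l23 D hx (by simp) h1 rfl, l11 D hu (by simp) h1 rfl, by omega, ?_, hd,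
    ⟨_, memA D e₂, e₂, f₂⟩, ⟨_, memB D (by omega) (by omega), e₁, f₁⟩, fun r hr => ?_, ?_,
    l23 D hx (by omega) (a := Row.f) hF rfl, l11 D hu (by omega) (a := Row.f) hF rfl, fun i j => ?_,
    fun i => ?_, ?_⟩
  · obtain ⟨χ, h, rfl⟩ := D.mem_all hr
    exact ⟨(deg_dvd_card χ.2).trans hG.dvd, two_le_deg (perfect hna) χ.2 h⟩
  · rw [show a11 1 = 1 from rfl] at u1
    omega
  · linarith
  · obtain ⟨χ, h, rfl⟩ := D.mem_all hr
    have h6 := (omZ χ.2 (hF χ)).1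
    rw [hG] at h6
    exact ⟨dvd_sub_comm.1 (h5 χ), h6, bnd_f hu hf hn χ.2 (hF χ)⟩
  · linarith
  · have := mo23 hG D hx (a := Row.f) (b := fun r => a11 r.d) hF hU (by rw [hf]; norm_num)
      (by rw [hu.ord]; norm_num) rfl rfl i j
    rwa [hu.ccx] at this
  · simpa only [pow_zero, mul_one] using mo11 hG D hu (a := Row.f) (b := Row.f) hF hF
      (by rw [hf]; norm_num) (by rw [hf]; norm_num) rfl rfl i 0
  · refine le_of_eq_of_le ?_ (z4.trans_eq ?_)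
    · rw [← neg_sq, pow_two]; congr 1 <;> linarith
    · congr 1 <;> linarith

end Cfsg.Agent.MT.W
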