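import Cfsg.Agent.MT.W3
import Cfsg.Agent.MT.Ty
import Cfsg.Agent.MK.AlgC

/-! The columns of `t f` and `t`, and the subgroup of index `24`. -/

set_option autoImplicit false
set_option linter.unusedSectionVars false

namespace Cfsg.Agent.MT.W

open Subgroup Finset Cfsg.Agent.M11 Cfsg.Agent.Char Cfsg.Agent.MK Cfsg.Agent.Zass Cfsg.Agent.Small

variable {G : Type*} [Group G] [Fintype G] {x u t f : G}

theorem ord10 (hf : orderOf f = 5) (ht : orderOf t = 2) (htf : Commute t f) {k : ℕ} (hk : k ∈ Ico 1 5) :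
    orderOf (f ^ k * t) = 10 := by
  have h1 : orderOf (f ^ k) = 5 := by
    obtain ⟨a, b⟩ := mem_Ico.1 hk
    rw [Nat.Coprime.orderOf_pow (by rw [hf]; interval_cases k <;> norm_num), hf]
  rw [(htf.symm.pow_left k).orderOf_mul_eq_mul_orderOf_of_coprime (by rw [h1, ht]; norm_num), h1, ht]

theorem sum0 {w m : IrrCharacter G → ℤ} {y : ℕ → G}
    (hm : ∀ χ : IrrCharacter G, ∑ k ∈ Ico 1 5, χ.1 (y k) = 4 * m χ)
    (h : ∀ k ∈ Ico 1 5, ∑ χ : IrrCharacter G, (w χ : ℂ) * χ.1 (y k) = 0) : ∑ χ, w χ * m χ = 0 := by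
  have h1 := sum_eq_zero h
  rw [sum_comm] at h1
  simp only [← mul_sum, hm, mul_left_comm _ (4 : ℂ)] at h1
  exact_mod_cast (mul_eq_zero.1 h1).resolve_left (by norm_num : (4 : ℂ) ≠ 0)

theorem exists_Dt (hx : LD 23 11 1 x) (hf : orderOf f = 5) (ht : orderOf t = 2) {F M V : IrrCharacter G → ℤ}
    {y : ℕ → G} (hy : ∀ k ∈ Ico 1 5, (orderOf (y k)).Coprime 23) (hF : ∀ χ, χ.1 f = F χ)
    (hM : ∀ χ : IrrCharacter G, ∑ k ∈ Ico 1 5, χ.1 (y k) = 4 * M χ) (hV : ∀ χ, χ.1 t = V χ)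
    (hu : LD 11 10 1 u) : ∃ D : Dt G, D.F = F ∧ D.M = M ∧ D.V = V := by
  obtain ⟨-, h1, -, e₁, e₂, h2, h3, h4⟩ := xcol hx
  refine ⟨⟨F, M, V, e₁, e₂, h2, h3, ?_, ?_, ?_, ?_, ?_, ?_, ?_, h1, (ucol hu).2.1⟩, rfl, rfl, rfl⟩
  · have := h4 1 (by simp)
    rw [irr_deg e₁.2, irr_deg e₂.2] at this
    exact_mod_cast this
  · have := h4 f (by rw [hf]; norm_num)
    rw [hF, hF] at this
    exact_mod_cast this
  · have := sum_congr rfl fun k hk => h4 _ (hy k hk)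
    rw [hM, hM] at this
    exact_mod_cast mul_left_cancel₀ (by norm_num : (4 : ℂ) ≠ 0) this
  · have := h4 t (by rw [ht]; norm_num)
    rw [hV, hV] at this
    exact_mod_cast this
  · exact_mod_cast (show (F ⟨1, irr_one⟩ : ℂ) = 1 from (hF ⟨1, irr_one⟩).symm)
  · have := hM ⟨1, irr_one⟩
    simp only [Pi.one_apply, sum_const, Nat.card_Ico, nsmul_eq_mul] at this
    exact_mod_cast (show (M ⟨1, irr_one⟩ : ℂ) = 1 by push_cast at this; linear_combination -this / 4)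
  · exact_mod_cast (show (V ⟨1, irr_one⟩ : ℂ) = 1 from (hV ⟨1, irr_one⟩).symm)

variable [IsSimpleGroup G] (hna : ¬ IsMulCommutative G) (hG : Nat.card G = 244823040) (D : Dt G)
include hna hG

theorem tt (hx : LD 23 11 1 x) (hu : LD 11 10 1 u) (hf : orderOf f = 5) (ht : orderOf t = 2)
    (htf : Commute t f) (htu : t * u * t⁻¹ = u⁻¹) (hc : cc f = 60) {ty ch n d₃ d₄ : ℕ}
    (h : TF 60 d₃ d₄ D.C D.A D.B) (hty : (ty, ch, n) ∈ tys) (hch : ∀ k ∈ Ico 1 5, cc (f ^ k * t) = ch)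
    (hn : cc t % n = 0 ∧ cc t / n % 5 = 1) (hF : ∀ χ, χ.1 f = D.F χ)
    (hM : ∀ χ : IrrCharacter G, ∑ k ∈ Ico 1 5, χ.1 (f ^ k * t) = 4 * D.M χ) (hV : ∀ χ, χ.1 t = D.V χ)
    (hok : ∀ χ, okm ty (D.F χ) (D.M χ)) {χ₁ χ₂ χ₃ χ₄ : IrrCharacter G}
    (e₁ : deg χ₁.1 = 5796) (e₂ : deg χ₂.1 = 5544) (e₃ : deg χ₃.1 = d₃) (e₄ : deg χ₄.1 = d₄)
    (f₁ : D.F χ₁ = 1) (f₂ : D.F χ₂ = -1) (m₁ : D.M χ₁ = 1) (m₂ : D.M χ₂ = -1) (m₃ : D.M χ₃ = -1)
    (m₄ : D.M χ₄ = 1) (htc : (cc t, d₃, D.V χ₁, D.V χ₂, D.V χ₃, D.V χ₄) ∈ tcs) :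
    TT ty ch n (cc t) d₃ d₄ (D.V χ₁) (D.V χ₂) (D.V χ₃) (D.V χ₄) D.C D.A D.B := by
  classical
  have hd := h.hd
  obtain ⟨Z, hZ⟩ := D.kall (χ₃ := χ₃) (χ₄ := χ₄) (fun e => by rw [e] at e₃; omega) (by omega) (by omega)
  have z1 := hZ fun r => r.m * r.m
  have z2 := hZ fun r => r.v * r.v
  have z5 : 0 ≤ ∑ χ ∈ Z, D.M χ * D.M χ := sum_nonneg fun _ _ => mul_self_nonneg _
  have z6 : 0 ≤ ∑ χ ∈ Z, D.V χ * D.V χ := sum_nonneg fun _ _ => mul_self_nonneg _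
  have z7 := mean_sq hch hM
  simp only [Dt.row, m₃, m₄] at z1 z2
  rw [nrm hV] at z2
  have n1 := D.k23 Row.m
  have n2 := D.k11 Row.m
  have q1 := D.k23 fun r => r.v * r.v * (NN / r.d : ℕ)
  have q2 := D.k11 fun r => r.v * r.v * (NN / r.d : ℕ)
  have q3 := q23 hx ht _ hV
  have q4 := q11 hu ht htu _ hV
  rw [hG] at q3 q4
  replace n1 := (sum0 hM fun k hk => rel23 hx (by rw [ord10 hf ht htf hk]; norm_num)).symm.trans n1
  replace n2 := (sum0 hM fun k hk => rel11 hu (by rw [ord10 hf ht htf hk]; norm_num)).symm.trans n2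
  replace q1 := q3.symm.trans q1
  replace q2 := q4.symm.trans q2
  simp only [one_mul, Nat.div_one] at n1 n2 q1 q2
  refine ⟨h, hty, hn, htc, ⟨_, memA D e₂, e₂, f₂, m₂, rfl⟩,
    ⟨_, memB D (by omega) (by omega), e₁, f₁, m₁, rfl⟩, fun r hr => ?_, by linarith, by linarith,
    n2.symm, ?_, fun r hr => ?_, by linarith, l23 D hx (by omega) (a := Row.v) hV rfl,
    l11 D hu (by omega) (a := Row.v) hV rfl, by linarith, q2.symm, fun i j => ?_, fun i j => ?_⟩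
  · obtain ⟨χ, -, rfl⟩ := D.mem_all hr
    exact hok χ
  · obtain ⟨k, hk⟩ := mom23 hx (Ico 1 5) (fun k => [f ^ k * t, f]) (fun k hk g hg => by
      simp only [List.mem_cons, List.not_mem_nil, or_false] at hg
      rcases hg with rfl | rfl
      · rw [ord10 hf ht htf hk]; norm_num
      · rw [hf]; norm_num)
      (fun χ => 4 * ((NN / ch : ℕ) * D.M χ * MT.om (NN / 60) (D.F χ) (deg χ.1))) fun χ => by
        rw [sum_congr rfl (g := fun k => (NN / ch : ℕ) * χ.1 (f ^ k * t) * MK.om χ.1 f) fun k hk => by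
          simp only [List.map_cons, List.map_nil, List.prod_cons, List.prod_nil, mul_one]
          rw [← mul_assoc, om_mul χ.2, hch k hk, hG], ← sum_mul, ← mul_sum, hM, (omZ χ.2 (hF χ)).2, hG, hc]
        simp only [Int.cast_mul, Int.cast_natCast, Int.cast_ofNat]
        ring
    have h1 := D.k23 fun r => (NN / ch : ℕ) * r.m * MT.om (NN / 60) r.f r.d
    simp only [mul_left_comm _ (4 : ℤ), ← mul_sum] at hk
    rw [hG] at hk
    refine mo_of (n := k) ?_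
    have h2 : MT.om (NN / 60) 1 1 = (NN / 60 : ℕ) := by simp only [MT.om, mul_one, Nat.cast_one, Int.ediv_one]
    simp only [h2, mul_one] at h1
    have h3 := hk.symm.trans (congrArg (4 * ·) h1)
    push_cast at h3 ⊢
    linarith
  · obtain ⟨χ, -, rfl⟩ := D.mem_all hr
    have h6 := (omZ χ.2 (hV χ)).1
    rw [hG] at h6
    have h7 := (iv_spec (perfect hna) χ.2 (Block.mul_self_of_orderOf ht)).2
    rw [iv_of_eq (hV χ)] at h7
    exact ⟨h7, five hf ht htf χ.2 (hV χ) (hM χ), h6, bnd_t hu ht htu χ.2 (hV χ)⟩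
  · have := mo23 hG D hx (a := Row.v) (b := Row.f) hV hF (by rw [ht]; norm_num) (by rw [hf]; norm_num)
      rfl rfl i j
    rwa [hc] at this
  · have := mo11 hG D hu (a := Row.v) (b := Row.f) hV hF (by rw [ht]; norm_num) (by rw [hf]; norm_num)
      rfl rfl i j
    rwa [hc] at this

omit hna hG [IsSimpleGroup G] in
theorem fin24 (hu : LD 11 10 1 u) (h1 : ∀ r ∈ D.C ++ D.A, r.d ≤ 275 → r.d ∈ [45, 231, 252])
    (h2 : (D.B.map Row.d).Perm [23, 483, 1035, 1035, 1035, 3312, 5796]) :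
    ∃ H : Subgroup G, H.index = 24 := by
  classical
  obtain ⟨_, hr, e⟩ := List.mem_map.1 (h2.symm.subset List.mem_cons_self)
  obtain ⟨χ, -, rfl⟩ := D.mem_lst.1 hr
  refine Alg.idx24 χ.2 e (fun ψ hψ e' => ?_) (fun ψ hψ n1 hd => ?_) ⟨u, hu.ord, hu.ccx⟩
  · have h3 := h2.count_eq 23
    rw [Dt.B, Dt.lst, List.map_map, List.count_eq_countP, List.countP_map, List.countP_eq_length_filter,
      ← List.toFinset_card_of_nodup ((nodup_toList _).filter _)] at h3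
    have h4 : ∀ θ : IrrCharacter G, deg θ.1 = 23 → (θ ≠ ⟨1, irr_one⟩ ∧ θ ≠ D.e₂) ∧
        deg θ.1 % 11 ≠ 0 ∧ deg θ.1 % 23 = 0 := fun θ h =>
      ⟨⟨fun e => by rw [e, deg_one] at h; omega, fun e => by
        have := (D.exc θ).2 (Or.inr e); omega⟩, by omega⟩
    refine congrArg Subtype.val (card_le_one.1 h3.le ⟨ψ, hψ⟩ ?_ χ ?_) <;>
      simp only [List.mem_toFinset, List.mem_filter, mem_toList, mem_filter, mem_univ, true_and]
    · exact ⟨h4 _ e', by simpa [Dt.row] using e'⟩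
    · exact ⟨h4 _ e, by simpa using e⟩
  · have key : ∀ θ : IrrCharacter G, θ ≠ ⟨1, irr_one⟩ → θ ≠ D.e₂ → deg θ.1 ≤ 275 →
        deg θ.1 ∈ [23, 45, 231, 252, 253] := fun θ a b c => by
      have h0 := irr_deg_pos θ.2
      simp only [List.mem_cons, List.not_mem_nil, or_false] at h1 ⊢
      by_cases e1 : deg θ.1 % 23 = 0
      · by_cases e2 : deg θ.1 % 11 = 0
        · omega
        · have := h2.subset (List.mem_map_of_mem (memB D e2 e1))
          simp only [List.mem_cons, List.not_mem_nil, or_false, Dt.row] at this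
          omega
      · have := h1 (D.row θ) (List.mem_append.2 ((em (deg θ.1 % 11 = 0)).symm.imp
          (fun e => D.mem_lst.2 ⟨θ, ⟨⟨a, b⟩, e, e1⟩, rfl⟩) fun e => D.mem_lst.2 ⟨θ, ⟨⟨a, b⟩, e, e1⟩, rfl⟩)) c
        simp only [Dt.row] at this
        omega
    by_cases e : (⟨ψ, hψ⟩ : IrrCharacter G) = D.e₂
    · have h5 : deg ψ = deg D.e₁.1 := by rw [D.hd, ← e]
      rw [h5] at hd ⊢
      refine key _ (fun e' => ?_) D.ne hd
      have := (D.exc _).2 (Or.inl e'.symm)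
      rw [deg_one] at this
      omega
    · exact key ⟨ψ, hψ⟩ (fun e => n1 (congrArg Subtype.val e)) e hd

end Cfsg.Agent.MT.W
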