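import Cfsg.Agent.MT.W4

/-! The subgroup of index `24` from the principal `5`-block and the two searches. -/

set_option autoImplicit false

namespace Cfsg.Agent.MT.W

open Subgroup Finset Cfsg.Agent.M11 Cfsg.Agent.Char Cfsg.Agent.MK Cfsg.Agent.Zass Cfsg.Agent.Small

theorem idx {G : Type*} [Group G] [Finite G] [IsSimpleGroup G] (hna : ¬ IsMulCommutative G)
    (hG : Nat.card G = 244823040) {x u : G} (hx : LD 23 11 1 x) (hu : LD 11 10 1 u)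
    (hb : ∀ t f : G, orderOf t = 2 → orderOf f = 5 → Commute t f → t * u * t⁻¹ = u⁻¹ →
      ∃ X : ℕ, (X = 12 ∨ X = 192) ∧ LD 5 4 X f ∧ ∃ (χ₁ χ₂ χ₃ χ₄ : IrrCharacter G) (d₃ d₄ : ℕ),
      deg χ₁.1 = 5796 ∧ deg χ₂.1 = 5544 ∧ deg χ₃.1 = d₃ ∧ deg χ₄.1 = d₄ ∧
      ((d₃ = 2024 ∧ d₄ = 1771) ∨ (d₃ = 759 ∧ d₄ = 506)) ∧
      χ₁.1 f = 1 ∧ χ₂.1 f = -1 ∧ χ₃.1 f = -1 ∧ χ₄.1 f = 1 ∧
      (∀ k ∈ Ico 1 5, χ₁.1 (f ^ k * t) = 1 ∧ χ₂.1 (f ^ k * t) = -1 ∧ χ₃.1 (f ^ k * t) = -1 ∧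
        χ₄.1 (f ^ k * t) = 1) ∧
      (X = 12 → ∀ n, n ∈ [40, 80, 120, 240] → cc t % n = 0 → cc t / n % 5 = 1 →
        (cc t, d₃, iv χ₁.1 t, iv χ₂.1 t, iv χ₃.1 t, iv χ₄.1 t) ∈ tcs))
    (h960 : ∀ {d₃ d₄ : ℕ} {C A B : List Row}, TF 960 d₃ d₄ C A B →
      (∀ r ∈ C ++ A ++ B, r.d % 5 = 0 → r.f = 0) → False)
    (htab : ∀ {ty ch n c d₃ d₄ : ℕ} {v₁ v₂ v₃ v₄ : ℤ} {C A B : List Row},
      TT ty ch n c d₃ d₄ v₁ v₂ v₃ v₄ C A B → (∀ r ∈ C ++ A ++ B, r.d % 5 = 0 → r.f = 0 ∧ r.m = 0) →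
      (∀ r ∈ C ++ A, r.d ≤ 275 → r.d ∈ [45, 231, 252]) ∧
        (B.map Row.d).Perm [23, 483, 1035, 1035, 1035, 3312, 5796]) :
    ∃ H : Subgroup G, H.index = 24 := by
  have := Fintype.ofFinite G
  obtain ⟨t, f, ht, hf, htf, htu, hn⟩ := exists_tf hu
  obtain ⟨X, hX, hL, χ₁, χ₂, χ₃, χ₄, d₃, d₄, e₁, e₂, e₃, e₄, hd, f₁, f₂, f₃, f₄, hm, htc⟩ :=
    hb t f ht hf htf htu
  obtain ⟨F, hF, h5, -⟩ := hL.rval (by norm_num) rfl
  have hV := fun χ : IrrCharacter G => (iv_spec (perfect hna) χ.2 (Block.mul_self_of_orderOf ht)).1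
  rw [hF] at f₁ f₂ f₃ f₄
  have hv : ∀ χ : IrrCharacter G, deg χ.1 % 5 = 0 → F χ = 0 := fun χ e => by
    exact_mod_cast (hF χ).symm.trans (van hG χ.2 e hf.symm.dvd)
  have key : ∀ D : Dt G, D.F = F → TF (5 * X) d₃ d₄ D.C D.A D.B := by
    rintro D rfl
    exact hL.ccx ▸ tf hG D hna hx hu hf hn hF h5 e₁ e₂ e₃ e₄ hd (by exact_mod_cast f₁)
      (by exact_mod_cast f₂) (by exact_mod_cast f₃) (by exact_mod_cast f₄)
  rcases hX with rfl | rfl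
  · obtain ⟨ty, ch, n, h1, h2, h3, h4⟩ := exists_ty hL ht htf
    choose M hM hok using fun χ : IrrCharacter G => h4 χ.1 χ.2 _ (hF χ)
    obtain ⟨D, rfl, rfl, hD⟩ := exists_Dt hx hf ht (fun k hk => by rw [ord10 hf ht htf hk]; norm_num)
      hF hM hV hu
    have hc : ∀ (χ : IrrCharacter G) (c : ℤ), (∀ k ∈ Ico 1 5, χ.1 (f ^ k * t) = c) → D.M χ = c :=
      fun χ c h => by
        have := hM χ
        rw [sum_congr rfl h, sum_const, Nat.card_Ico, nsmul_eq_mul] at this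
        exact_mod_cast (show (D.M χ : ℂ) = c by push_cast at this; linear_combination -this / 4)
    have h6 := tt hna hG D hx hu hf ht htf htu hL.ccx (key D rfl) h1 h2 h3 hF hM (hD ▸ hV) hok e₁ e₂ e₃ e₄
      (by exact_mod_cast f₁) (by exact_mod_cast f₂)
      (hc _ 1 fun k hk => by exact_mod_cast (hm k hk).1) (hc _ (-1) fun k hk => by exact_mod_cast (hm k hk).2.1)
      (hc _ (-1) fun k hk => by exact_mod_cast (hm k hk).2.2.1)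
      (hc _ 1 fun k hk => by exact_mod_cast (hm k hk).2.2.2) (by
        rw [hD]
        refine htc rfl n ?_ h3.1 h3.2
        simp only [tys, List.mem_cons, Prod.mk.injEq, List.not_mem_nil, or_false] at h1 ⊢
        omega)
    obtain ⟨h7, h8⟩ := htab h6 fun r hr e => by
      obtain ⟨χ, -, rfl⟩ := D.mem_all hr
      exact ⟨hv χ e, hc χ 0 fun k hk => by
        exact_mod_cast van hG χ.2 e (by rw [ord10 hf ht htf hk]; norm_num)⟩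
    exact fin24 D hu h7 h8
  · obtain ⟨D, rfl, -, -⟩ := exists_Dt hx hf ht (y := fun _ => f) (M := F)
      (fun k hk => by rw [hf]; norm_num) hF (fun χ => by simp [hF]) hV hu
    refine (h960 (key D rfl) fun r hr e => ?_).elim
    obtain ⟨χ, -, rfl⟩ := D.mem_all hr
    exact hv χ e

end Cfsg.Agent.MT.W
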