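import Cfsg.Agent.MT.W5
import Cfsg.Agent.MT.B5
import Cfsg.Agent.MT.S192
import Cfsg.Agent.MK.T1
import Cfsg.Agent.MK.T24a
import Cfsg.Agent.MK.Final2

/-! All facts on simple groups, given the table search. -/

set_option autoImplicit false

namespace Cfsg.Agent.MT.W

universe u

theorem hyp (htab : ∀ {ty ch n c d₃ d₄ : ℕ} {v₁ v₂ v₃ v₄ : ℤ} {C A B : List Row},
      TT ty ch n c d₃ d₄ v₁ v₂ v₃ v₄ C A B → (∀ r ∈ C ++ A ++ B, r.d % 5 = 0 → r.f = 0 ∧ r.m = 0) →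
      (∀ r ∈ C ++ A, r.d ≤ 275 → r.d ∈ [45, 231, 252]) ∧
        (B.map Row.d).Perm [23, 483, 1035, 1035, 1035, 3312, 5796]) : MR.Hyp.{u} :=
  MK.hyp2 MK.t1 fun _ _ _ _ hna hG _ hx => by
    obtain ⟨u, hu⟩ := MK.t24a hna hG hx
    exact idx hna hG hx hu (fun _ _ => b5 hna hG hx hu) TF.not960' htab

end Cfsg.Agent.MT.W
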